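/-
Class sizes `1, n, m, nm` with `n`, `m` coprime: general tools.
-/
import Mathlib
import Cfsg.Agent.Lib.ClassGraph.Top
import Cfsg.Agent.Lib.Transfer.TwoGClassSizes
import Cfsg.Agent.Lib.FG85.ClassGraph
import Cfsg.Agent.Lib.ClassPow.Basic

set_option autoImplicit false
set_option linter.style.haveILetI false
set_option linter.unusedSectionVars false

namespace Cfsg.Agent.Lib.FGStruct.NMBasic

open Subgroup
open Cfsg.Agent.Lib.ClassGraph.Basic (cs mem_cen cs_eq_one_iff cs_of_isConj cs_conj)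
open Cfsg.Agent.Lib.ClassGraph.Top (cen_mul_eq cen_le_of_zpow cs_zpow_dvd eq_of_le_of_index_eq)
open scoped Pointwise

variable {G : Type*} [Group G]

/-- Centralizer of an element. -/
abbrev C (x : G) : Subgroup G := centralizer ({x} : Set G)

/-- `p`-elements. -/
def PE (p : ℕ) (g : G) : Prop := ∃ k : ℕ, g ^ p ^ k = 1

theorem PE.one (p : ℕ) : PE p (1 : G) := ⟨0, by simp⟩

theorem PE.conj {p : ℕ} {g : G} (h : PE p g) (t : G) : PE p (t * g * t⁻¹) := by
  obtain ⟨k, hk⟩ := h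
  exact ⟨k, by rw [conj_pow, hk]; group⟩

theorem PE.pow {p : ℕ} {g : G} (h : PE p g) (e : ℕ) : PE p (g ^ e) := by
  obtain ⟨k, hk⟩ := h
  exact ⟨k, by rw [← pow_mul, mul_comm, pow_mul, hk, one_pow]⟩

theorem PE.zpow {p : ℕ} {g : G} (h : PE p g) (e : ℤ) : PE p (g ^ e) := by
  obtain ⟨k, hk⟩ := h
  refine ⟨k, ?_⟩
  rw [← zpow_natCast, ← zpow_mul, mul_comm, zpow_mul, zpow_natCast, hk, one_zpow]

theorem PE.inv {p : ℕ} {g : G} (h : PE p g) : PE p g⁻¹ := by
  have := h.zpow (-1)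
  simpa using this

theorem PE.of_mem_zpowers {p : ℕ} {g c : G} (h : PE p g) (hc : c ∈ zpowers g) : PE p c := by
  obtain ⟨e, rfl⟩ := hc
  exact h.zpow e

theorem PE.mul {p : ℕ} {a b : G} (hc : Commute a b) (ha : PE p a) (hb : PE p b) :
    PE p (a * b) := by
  obtain ⟨k, hk⟩ := ha
  obtain ⟨l, hl⟩ := hb
  refine ⟨k + l, ?_⟩
  rw [hc.mul_pow, pow_add, pow_mul, hk, one_pow, one_mul, mul_comm, pow_mul, hl, one_pow]

theorem PE.coprime {p m : ℕ} (hp : p.Prime) {g : G} (h : PE p g) (hm : ¬ p ∣ m) :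
    (orderOf g).Coprime m := by
  obtain ⟨k, hk⟩ := h
  exact Nat.Coprime.coprime_dvd_left (orderOf_dvd_of_pow_eq_one hk)
    (Nat.Coprime.pow_left k ((Nat.Prime.coprime_iff_not_dvd hp).2 hm))

theorem PE.coprime_order {p q : ℕ} (hp : p.Prime) (hq : q.Prime) (hne : p ≠ q) {a b : G}
    (ha : PE p a) (hb : PE q b) : (orderOf a).Coprime (orderOf b) := by
  obtain ⟨k, hk⟩ := ha
  obtain ⟨l, hl⟩ := hb
  exact Nat.Coprime.coprime_dvd_left (orderOf_dvd_of_pow_eq_one hk)
    (Nat.Coprime.coprime_dvd_right (orderOf_dvd_of_pow_eq_one hl)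
      (Nat.Coprime.pow _ _ ((Nat.coprime_primes hp hq).2 hne)))

theorem eq_one_of_orders {d : G} {a b : ℕ} (hc : a.Coprime b) (h1 : d ^ a = 1) (h2 : d ^ b = 1) :
    d = 1 := by
  have h := Nat.dvd_gcd (orderOf_dvd_of_pow_eq_one h1) (orderOf_dvd_of_pow_eq_one h2)
  rw [hc] at h
  exact orderOf_eq_one_iff.1 (Nat.dvd_one.1 h)

theorem PE.eq_one_of_coprime {p : ℕ} {g : G} (h : PE p g) (hc : (orderOf g).Coprime p) : g = 1 := by
  obtain ⟨k, hk⟩ := h
  exact eq_one_of_orders (Nat.Coprime.pow_right k hc) (pow_orderOf_eq_one g) hk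

theorem PE.eq_one_of_ne {p q : ℕ} (hp : p.Prime) (hq : q.Prime) (hne : p ≠ q) {g : G}
    (h : PE p g) (h' : PE q g) : g = 1 := by
  have := PE.coprime_order hp hq hne h h'
  rw [Nat.coprime_self] at this
  exact orderOf_eq_one_iff.1 this

theorem PE.of_mem {p : ℕ} {H : Subgroup G} (hH : IsPGroup p H) {g : G} (hg : g ∈ H) : PE p g := by
  obtain ⟨k, hk⟩ := hH ⟨g, hg⟩
  exact ⟨k, by simpa using congrArg Subtype.val hk⟩

theorem isPGroup_of_PE {p : ℕ} {H : Subgroup G} (h : ∀ g ∈ H, PE p g) : IsPGroup p H := by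
  intro g
  obtain ⟨k, hk⟩ := h g g.2
  exact ⟨k, Subtype.ext (by simpa using hk)⟩

theorem PE.isPGroup_zpowers {p : ℕ} {g : G} (h : PE p g) : IsPGroup p (zpowers g) :=
  isPGroup_of_PE (fun _ hc => h.of_mem_zpowers hc)

theorem mem_C {x g : G} : g ∈ C x ↔ g * x = x * g := mem_cen

theorem mem_C_comm {x g : G} : g ∈ C x ↔ Commute g x := mem_cen

theorem mem_C_symm {x g : G} : g ∈ C x ↔ x ∈ C g := by
  rw [mem_C, mem_C]; exact ⟨fun h => h.symm, fun h => h.symm⟩

theorem mem_C_self (x : G) : x ∈ C x := mem_C.2 rfl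

theorem C_inv_mem {x g : G} : g * x * g⁻¹ = x ↔ g ∈ C x := by
  rw [mem_C]
  constructor
  · intro h
    have := congrArg (· * g) h
    simpa using this
  · intro h
    rw [h]; group

theorem zpow_mem_C {g x : G} (h : g ∈ C x) (e : ℤ) : g ^ e ∈ C x := (C x).zpow_mem h e

theorem mem_C_of_mem_zpowers {x g c : G} (h : g ∈ C x) (hc : c ∈ zpowers g) : c ∈ C x := by
  obtain ⟨e, rfl⟩ := hc
  exact zpow_mem_C h e

theorem C_le_of_mem_zpowers {x c : G} (hc : c ∈ zpowers x) : C x ≤ C c := by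
  intro g hg
  rw [mem_C_symm] at hg ⊢
  exact mem_C_of_mem_zpowers hg hc

theorem mem_center_iff_C {x : G} : x ∈ center G ↔ C x = ⊤ := by
  rw [← cs_eq_one_iff, cs, index_eq_one]

theorem mem_center_of_C {x : G} (h : ∀ g, g ∈ C x) : x ∈ center G := by
  rw [mem_center_iff_C, eq_top_iff]
  exact fun g _ => h g

theorem C_of_center {x g : G} (h : x ∈ center G) : g ∈ C x :=
  mem_C.2 (mem_center_iff.1 h g)

theorem C_conj (x t : G) : C (t * x * t⁻¹) = (C x).map (MulAut.conj t).toMonoidHom := by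
  ext g
  simp only [mem_map, MulEquiv.coe_toMonoidHom, MulAut.conj_apply, mem_C]
  constructor
  · intro h
    refine ⟨t⁻¹ * g * t, ?_, by group⟩
    have := congrArg (fun w => t⁻¹ * w * t) h
    have e1 : t⁻¹ * (g * (t * x * t⁻¹)) * t = t⁻¹ * g * t * x := by group
    have e2 : t⁻¹ * (t * x * t⁻¹ * g) * t = x * (t⁻¹ * g * t) := by group
    rwa [e1, e2] at this
  · rintro ⟨c, hc, rfl⟩
    have e1 : t * c * t⁻¹ * (t * x * t⁻¹) = t * (c * x) * t⁻¹ := by group
    have e2 : t * x * t⁻¹ * (t * c * t⁻¹) = t * (x * c) * t⁻¹ := by group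
    rw [e1, e2, hc]

section Finite

variable [Finite G]

theorem card_C_mul_cs (x : G) : Nat.card (C x) * cs x = Nat.card G := card_mul_index _

theorem cs_dvd_of_le {x y : G} (h : C x ≤ C y) : cs y ∣ cs x := index_dvd_of_le h

theorem cs_dvd_of_mem_zpowers {x c : G} (hc : c ∈ zpowers x) : cs c ∣ cs x :=
  cs_dvd_of_le (C_le_of_mem_zpowers hc)

/-- Decomposition into `p`-part and `p'`-part. -/
theorem split (p : ℕ) [Fact p.Prime] (x : G) :
    ∃ a b : G, a * b = x ∧ Commute a b ∧ PE p a ∧ (orderOf b).Coprime p ∧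
      a ∈ zpowers x ∧ b ∈ zpowers x :=
  Cfsg.Agent.Lib.Core.Residual.exists_pPart_pPrimePart p x (isOfFinOrder_of_finite x)

/-- A subgroup containing all primary powers of `g` contains `g`. -/
theorem mem_of_primary (D : Subgroup G) (g : G)
    (h : ∀ p : ℕ, p.Prime → ∀ c ∈ zpowers g, PE p c → c ∈ D) : g ∈ D := by
  induction hn : orderOf g using Nat.strong_induction_on generalizing g with
  | _ n ih =>
    by_cases h1 : orderOf g = 1
    · rw [orderOf_eq_one_iff.1 h1]; exact D.one_mem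
    · obtain ⟨p, hp, hpd⟩ := Nat.exists_prime_and_dvd h1
      haveI : Fact p.Prime := ⟨hp⟩
      obtain ⟨a, b, rfl', hc, hpa, hb, ha, hbz⟩ := split p g
      have hzb : zpowers b ≤ zpowers g := zpowers_le.2 hbz
      have hlt : orderOf b < n := by
        rw [← hn]
        have h2 : orderOf b ∣ orderOf g := orderOf_dvd_of_mem_zpowers hbz
        apply lt_of_le_of_ne (Nat.le_of_dvd (orderOf_pos g) h2)
        intro e
        rw [e] at hb
        have := Nat.Coprime.eq_one_of_dvd hb.symm hpd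
        exact hp.one_lt.ne' this
      have hbD : b ∈ D := ih _ hlt b (fun q hq c hcz hqc => h q hq c (hzb hcz) hqc) rfl
      have haD : a ∈ D := h p hp a ha hpa
      have e : g = a * b := rfl'.symm
      rw [e]
      exact D.mul_mem haD hbD

/-- A noncentral element has a noncentral primary power. -/
theorem exists_primary_not_mem (D : Subgroup G) {g : G} (hg : g ∉ D) :
    ∃ p : ℕ, p.Prime ∧ ∃ c ∈ zpowers g, PE p c ∧ c ∉ D := by
  by_contra hcon
  push Not at hcon
  exact hg (mem_of_primary D g hcon)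

theorem exists_conj_mem_sylow {p : ℕ} [Fact p.Prime] (P : Sylow p G) {y : G} (hy : PE p y) :
    ∃ a : G, a * y * a⁻¹ ∈ (P : Subgroup G) := by
  obtain ⟨Q, hQ⟩ := (hy.isPGroup_zpowers).exists_le_sylow
  obtain ⟨a, ha⟩ := MulAction.exists_smul_eq G Q P
  refine ⟨a, ?_⟩
  rw [← ha]
  have hy' : y ∈ (Q : Subgroup G) := hQ (mem_zpowers y)
  rw [Sylow.smul_def]
  exact Subgroup.smul_mem_pointwise_smul y (MulAut.conj a) _ hy'

/-- Two commuting elements of coprime orders: the class size of the product. -/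
theorem cs_mul_eq {g y : G} (hc : Commute g y) (ho : (orderOf g).Coprime (orderOf y)) :
    cs (g * y) = (C g).relIndex (C y) * cs y := by
  unfold cs
  rw [show centralizer ({g * y} : Set G) = C g ⊓ C y from cen_mul_eq hc ho]
  rw [← relIndex_mul_index (inf_le_right : C g ⊓ C y ≤ C y)]
  rw [inf_relIndex_right]

theorem exists_sylow_le_C {p : ℕ} [Fact p.Prime] {y : G} (h : ¬ p ∣ cs y) :
    ∃ Q : Sylow p G, (Q : Subgroup G) ≤ C y := by
  obtain ⟨Q, -, hQ⟩ := Cfsg.Agent.Lib.Transfer.ClassSize.exists_sylow_of_not_dvd_index p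
    (y := y) (u := 1) h (Commute.one_left y) ⟨0, by simp⟩
  exact ⟨Q, fun z hz => mem_C.2 (hQ z hz).symm⟩

/-- A Sylow subgroup inside `C y` forces `p ∤ cs y`. -/
theorem not_dvd_cs_of_sylow_le {p : ℕ} [Fact p.Prime] {y : G} (Q : Sylow p G)
    (h : (Q : Subgroup G) ≤ C y) : ¬ p ∣ cs y := by
  intro hd
  exact Q.not_dvd_index (hd.trans (index_dvd_of_le h))

theorem mem_of_normal_sylow {p : ℕ} [Fact p.Prime] (P : Sylow p G) (hP : (P : Subgroup G).Normal)
    {e : G} (h : PE p e) : e ∈ (P : Subgroup G) := by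
  obtain ⟨a, ha⟩ := exists_conj_mem_sylow P h
  have := hP.conj_mem _ ha a⁻¹
  have e1 : a⁻¹ * (a * e * a⁻¹) * a⁻¹⁻¹ = e := by group
  rwa [e1] at this

/-- In the presence of a normal Sylow subgroup, `p ∤ cs g` implies it centralizes `g`. -/
theorem le_C_of_normal_sylow {p : ℕ} [Fact p.Prime] (P : Sylow p G) (hP : (P : Subgroup G).Normal)
    {g : G} (h : ¬ p ∣ cs g) : (P : Subgroup G) ≤ C g := by
  obtain ⟨Q, hQ⟩ := exists_sylow_le_C h
  letI := Sylow.unique_of_normal P hP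
  have : Q = P := Subsingleton.elim _ _
  rwa [this] at hQ

/-- `L2`. -/
theorem comm_of_coprime {x y : G} {r : ℕ} [Fact r.Prime] (hy : PE r y) (hr : ¬ r ∣ cs x)
    (hc : (cs x).Coprime (cs y)) : Commute x y := by
  obtain ⟨R, hR⟩ := exists_sylow_le_C hr
  obtain ⟨a, ha⟩ := exists_conj_mem_sylow R hy
  obtain ⟨c, hc1, d, hd, e⟩ := Cfsg.Agent.Lib.ClassGraph.Basic.exists_mul_of_coprime hc a
  have h1 : a * y * a⁻¹ ∈ C x := hR ha
  rw [mem_C] at h1 hc1 hd
  have e2 : a * y * a⁻¹ = c * y * c⁻¹ := by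
    rw [e]
    have : c * d * y * (c * d)⁻¹ = c * (d * y) * d⁻¹ * c⁻¹ := by group
    rw [this, hd]
    group
  rw [e2] at h1
  -- `c * y * c⁻¹` commutes with `x`, hence `y` with `c⁻¹ * x * c = x`.
  have e3 : c⁻¹ * x * c = x := by rw [mul_assoc, ← hc1]; group
  have h2 : y * (c⁻¹ * x * c) = (c⁻¹ * x * c) * y := by
    calc y * (c⁻¹ * x * c) = c⁻¹ * (c * y * c⁻¹ * x) * c := by group
      _ = c⁻¹ * (x * (c * y * c⁻¹)) * c := by rw [h1]
      _ = _ := by group
  rw [e3] at h2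
  exact h2.symm

/-- `N.4`. -/
theorem le_C_of_normal (L : Subgroup G) [L.Normal] {g : G} (hc : (Nat.card L).Coprime (cs g)) :
    L ≤ C g := by
  apply relIndex_eq_one.1
  have h1 := Cfsg.Agent.Lib.ClassPow.relIndex_dvd_index_of_normal_right (C g) L
  have h2 : (C g).relIndex L ∣ Nat.card L := relIndex_dvd_card _ _
  exact Nat.Coprime.eq_one_of_dvd (Nat.Coprime.coprime_dvd_left h2 hc) h1

/-- `StepA`. -/
theorem mem_sylow_of_cs_pow {s j : ℕ} [Fact s.Prime] {x : G} (hx : PE s x) (hcs : cs x = s ^ j)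
    (Q : Sylow s G) : x ∈ (Q : Subgroup G) := by
  have hs : s.Prime := Fact.out
  obtain ⟨P, hP⟩ := (hx.isPGroup_zpowers).exists_le_sylow
  have hxP : x ∈ (P : Subgroup G) := hP (mem_zpowers x)
  have hcop : (P : Subgroup G).index.Coprime (C x).index := by
    have : (C x).index = s ^ j := hcs
    rw [this]
    exact Nat.Coprime.pow_right j
      (Nat.Coprime.symm ((Nat.Prime.coprime_iff_not_dvd hs).2 P.not_dvd_index))
  obtain ⟨a, ha⟩ := MulAction.exists_smul_eq G Q P
  obtain ⟨c, hc, d, hd, e⟩ := Cfsg.Agent.Lib.FG85.ClassGraph.exists_mul_of_coprime _ _ hcop a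
  have h1 : a * x * a⁻¹ = c * x * c⁻¹ := by
    rw [e]
    rw [mem_C] at hd
    have : c * d * x * (c * d)⁻¹ = c * (d * x) * d⁻¹ * c⁻¹ := by group
    rw [this, hd]
    group
  have h2 : a * x * a⁻¹ ∈ (P : Subgroup G) := by
    rw [h1]
    exact (P : Subgroup G).mul_mem ((P : Subgroup G).mul_mem hc hxP) ((P : Subgroup G).inv_mem hc)
  rw [← ha, Sylow.smul_def] at h2
  have h3 := (Subgroup.smul_mem_pointwise_smul_iff (a := MulAut.conj a) (S := (Q : Subgroup G)) (x := x))
  exact h3.1 h2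

/-- Conjugating `s`-subgroups into a large one. -/
theorem conj_sub {s : ℕ} [Fact s.Prime] {H S T : Subgroup G} (hTH : T ≤ H)
    (hS : IsPGroup s S) (hT : IsPGroup s T) (hi : ¬ s ∣ S.relIndex H) :
    ∃ h ∈ H, ∀ t ∈ T, h * t * h⁻¹ ∈ S := by
  have hS' : IsPGroup s (S.subgroupOf H) := hS.comap_of_injective H.subtype Subtype.val_injective
  have hT' : IsPGroup s (T.subgroupOf H) := hT.comap_of_injective H.subtype Subtype.val_injective
  let P : Sylow s H := hS'.toSylow hi
  obtain ⟨Q, hQ⟩ := hT'.exists_le_sylow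
  obtain ⟨a, ha⟩ := MulAction.exists_smul_eq H Q P
  refine ⟨a, a.2, fun t ht => ?_⟩
  have h1 : (⟨t, hTH ht⟩ : H) ∈ (Q : Subgroup H) := hQ (by rwa [mem_subgroupOf])
  have h2 : (MulAut.conj a) • (⟨t, hTH ht⟩ : H) ∈ (P : Subgroup H) := by
    rw [← ha, Sylow.smul_def]
    exact Subgroup.smul_mem_pointwise_smul _ _ _ h1
  have h3 : (MulAut.conj a) • (⟨t, hTH ht⟩ : H) ∈ S.subgroupOf H := h2
  rw [mem_subgroupOf] at h3
  exact h3

/-- Class size in a subgroup. -/
theorem cs_sub {H : Subgroup G} (g : H) : cs g = (C (g : G)).relIndex H := by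
  unfold cs relIndex
  congr 1
  ext c
  rw [mem_subgroupOf, mem_C, mem_C, Subtype.ext_iff]
  rfl

theorem center_of_C_sub {H : Subgroup G} (g : H) (h : g ∈ center H) : H ≤ C (g : G) := by
  intro c hc
  have := (mem_center_iff.1 h) ⟨c, hc⟩
  exact mem_C.2 (by simpa [Subtype.ext_iff] using this)

theorem comm_of_sylow_normal (hn : ∀ (p : ℕ) (_ : Fact p.Prime) (P : Sylow p G), (P : Subgroup G).Normal)
    {p q : ℕ} (hp : p.Prime) (hq : q.Prime) (hne : p ≠ q) {a b : G} (ha : PE p a) (hb : PE q b) :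
    Commute a b := by
  haveI : Fact p.Prime := ⟨hp⟩
  haveI : Fact q.Prime := ⟨hq⟩
  obtain ⟨P, hP⟩ := (ha.isPGroup_zpowers).exists_le_sylow
  obtain ⟨Q, hQ⟩ := (hb.isPGroup_zpowers).exists_le_sylow
  have hdis : Disjoint (P : Subgroup G) (Q : Subgroup G) := by
    rw [Subgroup.disjoint_def]
    intro x hx1 hx2
    exact PE.eq_one_of_ne hp hq hne (PE.of_mem P.isPGroup' hx1) (PE.of_mem Q.isPGroup' hx2)
  exact Subgroup.commute_of_normal_of_disjoint _ _ (hn p ⟨hp⟩ P) (hn q ⟨hq⟩ Q) hdis a b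
    (hP (mem_zpowers a)) (hQ (mem_zpowers b))

/-- `p`-elements commuting with all `q`-elements commute with `p'`-elements. -/
theorem comm_of_coprime_order {p : ℕ} {a y : G}
    (hc : ∀ q : ℕ, q.Prime → q ≠ p → ∀ b : G, PE q b → Commute a b)
    (hy : (orderOf y).Coprime p) : Commute a y := by
  have : y ∈ C a := by
    apply mem_of_primary
    intro q hq c hcz hqc
    by_cases hqp : q = p
    · subst hqp
      have h1 : (orderOf c).Coprime q :=
        Nat.Coprime.coprime_dvd_left (orderOf_dvd_of_mem_zpowers hcz) hy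
      rw [hqc.eq_one_of_coprime h1]
      exact (C a).one_mem
    · exact mem_C.2 (hc q hq hqp c hqc).eq.symm
  exact (mem_C.1 this).symm

/-- Ito's theorem, in the form needed. -/
theorem ito_prime {n : ℕ} (hn : 1 < n) (h : ∀ γ : G, cs γ = 1 ∨ cs γ = n) {γ₀ : G}
    (h0 : γ₀ ∉ center G) :
    ∃ s k : ℕ, s.Prime ∧ 0 < k ∧ n = s ^ k ∧ ∀ γ : G, (orderOf γ).Coprime s → γ ∈ center G := by
  obtain ⟨p, hp, u, -, hu, huc⟩ := exists_primary_not_mem _ h0
  haveI : Fact p.Prime := ⟨hp⟩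
  have hcs : ∀ g : G, g ∉ center G → cs g = n := by
    intro g hg
    rcases h g with h1 | h1
    · exact absurd (cs_eq_one_iff.1 h1) hg
    · exact h1
  obtain ⟨P, hP⟩ := (hu.isPGroup_zpowers).exists_le_sylow
  have hPc : ¬ (P : Subgroup G) ≤ center G := fun hle => huc (hle (hP (mem_zpowers u)))
  have hnil : Group.IsNilpotent (⊤ : Subgroup G) :=
    Cfsg.Agent.Lib.Transfer.TwoGClassSizes.nilpotent_of_two_sizes (m := n) P hPc le_top
      (fun x _ => h x)
  have hnil' : Group.IsNilpotent G := Group.isNilpotent_top.1 hnil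
  have hsyl : ∀ (q : ℕ) (_ : Fact q.Prime) (Q : Sylow q G), (Q : Subgroup G).Normal :=
    Group.isNilpotent_of_finite_tfae.out 0 3 |>.mp hnil'
  have hcomm : ∀ {q₁ q₂ : ℕ}, q₁.Prime → q₂.Prime → q₁ ≠ q₂ → ∀ {a b : G}, PE q₁ a → PE q₂ b →
      Commute a b := fun h1 h2 h3 _ _ h4 h5 => comm_of_sylow_normal hsyl h1 h2 h3 h4 h5
  -- `n` is a power of `p`
  have hnp : ∀ {d : ℕ}, d.Prime → d ∣ n → d = p := by
    intro d hd hdn
    by_contra hne
    haveI : Fact d.Prime := ⟨hd⟩
    obtain ⟨Q⟩ : Nonempty (Sylow d G) := inferInstance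
    have hle : (Q : Subgroup G) ≤ C u := fun z hz =>
      mem_C.2 (hcomm hd hp hne (PE.of_mem Q.isPGroup' hz) hu).eq
    apply not_dvd_cs_of_sylow_le Q hle
    rw [hcs u huc]
    exact hdn
  have hn0 : n ≠ 0 := by omega
  have he := Nat.eq_prime_pow_of_unique_prime_dvd hn0 hnp
  set k := n.primeFactorsList.length with hk
  have hk0 : 0 < k := by
    rcases Nat.eq_zero_or_pos k with h2 | h2
    · rw [h2, pow_zero] at he
      omega
    · exact h2
  refine ⟨p, k, hp, hk0, he, fun γ hγ => ?_⟩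
  by_contra hγc
  obtain ⟨q, hq, t, ht, hqt, htc⟩ := exists_primary_not_mem _ hγc
  have hqp : q ≠ p := by
    rintro rfl
    have h1 : (orderOf t).Coprime q :=
      Nat.Coprime.coprime_dvd_left (orderOf_dvd_of_mem_zpowers ht) hγ
    exact htc (by rw [hqt.eq_one_of_coprime h1]; exact (center G).one_mem)
  obtain ⟨Q⟩ : Nonempty (Sylow p G) := inferInstance
  have hle : (Q : Subgroup G) ≤ C t := fun z hz =>
    mem_C.2 (hcomm hp hq hqp.symm (PE.of_mem Q.isPGroup' hz) hqt).eq
  apply not_dvd_cs_of_sylow_le Q hle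
  rw [hcs t htc, he]
  exact dvd_pow_self _ hk0.ne'

/-- The key lemma. -/
theorem key_K {n r : ℕ} [Fact r.Prime] (hn : 1 < n) (hrn : ¬ r ∣ n)
    (h : ∀ g : G, (orderOf g).Coprime r → cs g = 1 ∨ cs g = n) {g₀ : G} (h0 : g₀ ∉ center G)
    (h0n : cs g₀ ∣ n) :
    ∃ s k : ℕ, s.Prime ∧ 0 < k ∧ s ≠ r ∧ n = s ^ k ∧
      ∀ g : G, (orderOf g).Coprime s → cs g ∣ n → g ∈ center G := by
  have hr : r.Prime := Fact.out
  have hnd : ∀ y : G, (orderOf y).Coprime r → ¬ r ∣ (centralizer ({y} : Set G)).index := by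
    intro y hy
    rcases h y hy with h1 | h1
    · change ¬ r ∣ cs y
      rw [h1]
      exact Nat.Prime.not_dvd_one hr
    · change ¬ r ∣ cs y
      rwa [h1]
  obtain ⟨R⟩ : Nonempty (Sylow r G) := inferInstance
  obtain ⟨hRn, hRc⟩ := Cfsg.Agent.Lib.Transfer.ClassSize.normal_of_forall_not_dvd_index r hnd R
  haveI := hRn
  let φ : G →* G ⧸ (R : Subgroup G) := QuotientGroup.mk' (R : Subgroup G)
  have hφ : Function.Surjective φ := QuotientGroup.mk'_surjective _
  have hker : ∀ a : G, a ∈ (R : Subgroup G) → φ a = 1 := fun a ha => (QuotientGroup.eq_one_iff a).2 ha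
  -- Claim A
  have hA : ∀ g : G, (orderOf g).Coprime r → cs (φ g) = cs g := by
    intro g hg
    have e : (C (φ g)).comap φ = C g := by
      ext c
      rw [mem_comap, mem_C, mem_C, ← map_mul, ← map_mul]
      constructor
      · intro hc
        have h1 : (c * g)⁻¹ * (g * c) ∈ (R : Subgroup G) := QuotientGroup.eq.1 hc
        set ρ := (c * g)⁻¹ * (g * c) with hρ
        have hρ1 : c⁻¹ * g * c = g * ρ := by rw [hρ]; group
        have hcom : Commute g ρ := hRc g hg ρ h1
        have hp : (g * ρ) ^ orderOf g = 1 := by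
          have h2 := conj_pow (a := c⁻¹) (b := g) (i := orderOf g)
          rw [inv_inv] at h2
          rw [← hρ1, h2, pow_orderOf_eq_one]
          group
        rw [hcom.mul_pow, pow_orderOf_eq_one, one_mul] at hp
        have hρ0 : ρ = 1 := by
          obtain ⟨k, hk⟩ := PE.of_mem R.isPGroup' h1
          exact eq_one_of_orders (Nat.Coprime.pow_right k hg) hp hk
        rw [hρ0] at hρ1
        have := congrArg (fun w => c * w) hρ1
        simp only [mul_one] at this
        calc c * g = c * (c⁻¹ * g * c) := this.symm ▸ rfl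
          _ = g * c := by group
      · intro hc
        rw [hc]
    change (C (φ g)).index = (C g).index
    rw [← e, index_comap_of_surjective _ hφ]
  -- Claim B
  have hB : ∀ γ : G ⧸ (R : Subgroup G), ∃ b : G, (orderOf b).Coprime r ∧ φ b = γ := by
    intro γ
    obtain ⟨k, rfl⟩ := hφ γ
    obtain ⟨a, b, e, -, ha, hb, -, -⟩ := split r k
    refine ⟨b, hb, ?_⟩
    rw [← e, map_mul, hker a (mem_of_normal_sylow R hRn ha), one_mul]
  have hΓ : ∀ γ : G ⧸ (R : Subgroup G), cs γ = 1 ∨ cs γ = n := by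
    intro γ
    obtain ⟨b, hb, rfl⟩ := hB γ
    rw [hA b hb]
    exact h b hb
  -- Claim C
  have hCl : ∀ g a b : G, a * b = g → PE r a → a ∈ zpowers g → b ∈ center G → cs g ∣ n →
      g ∈ center G := by
    intro g a b e ha haz hbc hg
    have hrg : ¬ r ∣ cs g := fun hd => hrn (hd.trans hg)
    have hle : (R : Subgroup G) ≤ C g := le_C_of_normal_sylow R hRn hrg
    have haR : a ∈ (R : Subgroup G) := mem_of_normal_sylow R hRn ha
    have hac : a ∈ center G := by
      apply mem_center_of_C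
      intro k
      obtain ⟨a', b', e', -, ha', hb', -, -⟩ := split r k
      rw [← e']
      apply (C a).mul_mem
      · exact C_le_of_mem_zpowers haz (hle (mem_of_normal_sylow R hRn ha'))
      · exact mem_C.2 (hRc b' hb' a haR)
    rw [← e]
    exact (center G).mul_mem hac hbc
  -- Claim D
  obtain ⟨a₀, b₀, e₀, -, ha₀, hb₀, ha₀z, -⟩ := split r g₀
  have hb₀c : b₀ ∉ center G := fun hc => h0 (hCl g₀ a₀ b₀ e₀ ha₀ ha₀z hc h0n)
  have hφb₀ : φ b₀ ∉ center (G ⧸ (R : Subgroup G)) := by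
    intro hc
    have h1 := cs_eq_one_iff.2 hc
    rw [hA b₀ hb₀] at h1
    exact hb₀c (cs_eq_one_iff.1 h1)
  obtain ⟨s, k, hs, hk, he, hcen⟩ := ito_prime hn hΓ hφb₀
  have hsr : s ≠ r := by
    rintro rfl
    exact hrn (he ▸ dvd_pow_self _ hk.ne')
  refine ⟨s, k, hs, hk, hsr, he, fun g hg hgn => ?_⟩
  obtain ⟨a, b, e, -, ha, hb, haz, hbz⟩ := split r g
  have hbs : (orderOf (φ b)).Coprime s := by
    have h1 : orderOf b ∣ orderOf g := orderOf_dvd_of_mem_zpowers hbz
    have h2 : orderOf (φ b) ∣ orderOf b := orderOf_map_dvd φ b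
    exact Nat.Coprime.coprime_dvd_left (h2.trans h1) hg
  have h3 := cs_eq_one_iff.2 (hcen _ hbs)
  rw [hA b hb] at h3
  exact hCl g a b e ha haz (cs_eq_one_iff.1 h3) hgn

/-- The hypothesis on class sizes. -/
structure Hyp (G : Type*) [Group G] (n m : ℕ) : Prop where
  hn : 1 < n
  hm : 1 < m
  cop : n.Coprime m
  val : ∀ g : G, cs g = 1 ∨ cs g = n ∨ cs g = m ∨ cs g = n * m

namespace Hyp

variable {n m : ℕ}

theorem symm (H : Hyp G n m) : Hyp G m n where
  hn := H.hm
  hm := H.hn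
  cop := H.cop.symm
  val := fun g => by
    rcases H.val g with h | h | h | h
    · exact Or.inl h
    · exact Or.inr (Or.inr (Or.inl h))
    · exact Or.inr (Or.inl h)
    · exact Or.inr (Or.inr (Or.inr (by rw [h, mul_comm])))

theorem not_dvd (H : Hyp G n m) : ¬ n ∣ m := fun h => by
  have := Nat.Coprime.eq_one_of_dvd H.cop h
  have := H.hn
  omega

theorem not_dvd' (H : Hyp G n m) : ¬ m ∣ n := H.symm.not_dvd

theorem not_center_of_eq_m (H : Hyp G n m) {g : G} (h : cs g = m) : g ∉ center G := fun hc => by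
  have h1 := cs_eq_one_iff.2 hc
  have := H.hm
  omega

theorem not_center_of_eq_n (H : Hyp G n m) {g : G} (h : cs g = n) : g ∉ center G :=
  H.symm.not_center_of_eq_m h

theorem not_center_of_eq_nm (H : Hyp G n m) {g : G} (h : cs g = n * m) : g ∉ center G := fun hc => by
  have h1 := cs_eq_one_iff.2 hc
  have := H.hm
  have := H.hn
  rw [h1] at h
  have h3 : 1 < n * m := by nlinarith
  omega

theorem eq_m_of_dvd (H : Hyp G n m) {g : G} (hg : g ∉ center G) (h : cs g ∣ m) : cs g = m := by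
  rcases H.val g with h1 | h1 | h1 | h1
  · exact absurd (cs_eq_one_iff.1 h1) hg
  · rw [h1] at h; exact absurd h H.not_dvd
  · exact h1
  · rw [h1] at h
    have hm0 : 0 < m := by have := H.hm; omega
    have h2 : n ∣ 1 := by
      obtain ⟨c, hc⟩ := h
      refine ⟨c, ?_⟩
      apply Nat.eq_of_mul_eq_mul_right hm0
      calc 1 * m = m := one_mul m
        _ = n * m * c := hc
        _ = n * c * m := by ring
    have := Nat.dvd_one.1 h2
    have := H.hn
    omega

theorem eq_n_of_dvd (H : Hyp G n m) {g : G} (hg : g ∉ center G) (h : cs g ∣ n) : cs g = n :=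
  H.symm.eq_m_of_dvd hg h

theorem center_of_dvd_both (H : Hyp G n m) {g : G} (h1 : cs g ∣ n) (h2 : cs g ∣ m) : g ∈ center G := by
  apply cs_eq_one_iff.1
  exact Nat.Coprime.eq_one_of_dvd (Nat.Coprime.coprime_dvd_left h1 H.cop) h2

/-- `G6`. -/
theorem rel_of_m (H : Hyp G n m) {g y : G} (hc : Commute g y) (ho : (orderOf g).Coprime (orderOf y))
    (hy : cs y = m) : (C g).relIndex (C y) = 1 ∨ (C g).relIndex (C y) = n := by
  have e := cs_mul_eq hc ho
  rw [hy] at e
  set t := (C g).relIndex (C y)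
  have hm0 : 0 < m := by have := H.hm; omega
  rcases H.val (g * y) with h | h | h | h
  · rw [e] at h
    have := Nat.eq_one_of_mul_eq_one_left h
    have := H.hm
    omega
  · rw [e] at h
    exact absurd (Dvd.intro_left t h) H.not_dvd'
  · rw [e] at h
    left
    exact Nat.eq_of_mul_eq_mul_right hm0 (by rw [h, one_mul])
  · rw [e] at h
    right
    exact Nat.eq_of_mul_eq_mul_right hm0 h

theorem rel_of_n (H : Hyp G n m) {g y : G} (hc : Commute g y) (ho : (orderOf g).Coprime (orderOf y))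
    (hy : cs y = n) : (C g).relIndex (C y) = 1 ∨ (C g).relIndex (C y) = m :=
  H.symm.rel_of_m hc ho hy

theorem le_of_nm (H : Hyp G n m) {g w : G} (hc : Commute g w) (ho : (orderOf g).Coprime (orderOf w))
    (hw : cs w = n * m) : C w ≤ C g := by
  apply relIndex_eq_one.1
  have e := cs_mul_eq hc ho
  rw [hw] at e
  set t := (C g).relIndex (C w)
  have hm0 : 0 < m := by have := H.hm; omega
  have hn0 : 0 < n := by have := H.hn; omega
  rcases H.val (g * w) with h | h | h | h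
  · rw [e] at h
    have h1 := Nat.eq_one_of_mul_eq_one_left h
    have h2 := Nat.eq_one_of_mul_eq_one_left h1
    have := H.hm
    omega
  · rw [e] at h
    exact absurd (⟨t * n, by
      calc n = t * (n * m) := h.symm
        _ = m * (t * n) := by ring⟩ : m ∣ n) H.not_dvd'
  · rw [e] at h
    exact absurd (⟨t * m, by
      calc m = t * (n * m) := h.symm
        _ = n * (t * m) := by ring⟩ : n ∣ m) H.not_dvd
  · rw [e] at h
    exact Nat.eq_of_mul_eq_mul_right (Nat.mul_pos hn0 hm0) (by rw [h, one_mul])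

end Hyp

end Finite

end Cfsg.Agent.Lib.FGStruct.NMBasic
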