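/-
Norm identities for Frobenius type actions: a finite group `X` with a monoid hom into a ring in
which all prime order norms vanish, and a Sylow subgroup with no commuting `q'`-elements, is a
`q`-group.
-/
import Mathlib
import Cfsg.Agent.Lib.FGStruct.NMBasic

set_option autoImplicit false
set_option linter.style.haveILetI false

namespace Cfsg.Agent.Lib.FGStruct.TwoRegA

open Subgroup Cfsg.Agent.Lib.FGStruct.NMBasic

variable {X E : Type*} [Group X] [Ring E]

theorem pow_conj_mem {W : Subgroup X} {u : X} (hN : ∀ w ∈ W, u * w * u⁻¹ ∈ W) (j : ℕ) :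
    ∀ w ∈ W, u ^ j * w * (u ^ j)⁻¹ ∈ W := by
  induction j with
  | zero => intro w hw; simpa using hw
  | succ j ih =>
    intro w hw
    have := hN _ (ih w hw)
    have e : u ^ (j + 1) * w * (u ^ (j + 1))⁻¹ = u * (u ^ j * w * (u ^ j)⁻¹) * u⁻¹ := by
      rw [pow_succ']; group
    rw [e]; exact this

theorem sum_eq_card [Finite X] (φ : X →* E) (W : Subgroup X) [Fintype W] (u : X) {ℓ : ℕ}
    (hℓ : ℓ.Prime) (hu : orderOf u = ℓ)
    (hN : ∀ w ∈ W, u * w * u⁻¹ ∈ W) (hfpf : ∀ v ∈ W, Commute v u → v = 1)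
    (hNorm : ∑ j ∈ Finset.range ℓ, (φ u) ^ j = 0) :
    ∑ v : W, φ v = (Fintype.card W : E) := by
  classical
  have hj : ∀ j : ℕ, 0 < j → j < ℓ →
      ∑ v : W, φ v * φ u ^ j = ∑ w : W, φ ((w : X)⁻¹) * φ u ^ j * φ w := by
    intro j hj0 hjl
    -- the map
    let g : W → W := fun w => ⟨(w : X)⁻¹ * (u ^ j * w * (u ^ j)⁻¹),
      W.mul_mem (W.inv_mem w.2) (pow_conj_mem hN j w w.2)⟩
    have hinj : Function.Injective g := by
      intro w w' hww
      have h1 : (w : X)⁻¹ * (u ^ j * w * (u ^ j)⁻¹) = (w' : X)⁻¹ * (u ^ j * w' * (u ^ j)⁻¹) :=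
        congrArg Subtype.val hww
      set v : X := (w' : X) * (w : X)⁻¹ with hv
      have hvW : v ∈ W := W.mul_mem w'.2 (W.inv_mem w.2)
      have hc : Commute v (u ^ j) := by
        have h2 : u ^ j * v * (u ^ j)⁻¹ = v := by
          have h3 : u ^ j * (w' : X) * (u ^ j)⁻¹ = (w' : X) * ((w : X)⁻¹ * (u ^ j * w * (u ^ j)⁻¹)) := by
            rw [h1]; group
          calc u ^ j * v * (u ^ j)⁻¹
              = (u ^ j * (w' : X) * (u ^ j)⁻¹) * (u ^ j * (w : X) * (u ^ j)⁻¹)⁻¹ := by
                rw [hv]; group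
            _ = v := by rw [h3, hv]; group
        have h4 : (u ^ j) * v = v * (u ^ j) := by
          calc (u ^ j) * v = (u ^ j * v * (u ^ j)⁻¹) * u ^ j := by group
            _ = v * (u ^ j) := by rw [h2]
        exact h4.symm
      have hcop : (orderOf u).Coprime j := by
        rw [hu]
        exact (Nat.Prime.coprime_iff_not_dvd hℓ).2 (Nat.not_dvd_of_pos_of_lt hj0 hjl)
      have hmem : u ∈ zpowers (u ^ j) := by
        obtain ⟨k, hk⟩ := exists_pow_eq_self_of_coprime hcop.symm
        exact Subgroup.mem_zpowers_iff.2 ⟨k, by simpa using hk⟩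
      have hcu : Commute v u := by
        obtain ⟨e, he⟩ := hmem
        rw [← he]
        exact hc.zpow_right e
      have hv1 := hfpf v hvW hcu
      apply Subtype.ext
      rw [hv] at hv1
      have := mul_inv_eq_one.1 hv1
      exact this.symm
    have hbij : Function.Bijective g := Finite.injective_iff_bijective.1 hinj
    rw [← hbij.sum_comp (fun v : W => φ v * φ u ^ j)]
    refine Finset.sum_congr rfl fun w _ => ?_
    have e : ((g w : W) : X) * u ^ j = (w : X)⁻¹ * u ^ j * w := by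
      show (w : X)⁻¹ * (u ^ j * w * (u ^ j)⁻¹) * u ^ j = _
      group
    rw [← map_pow, ← map_mul, e, map_mul, map_mul]
  -- the total sum
  obtain ⟨ℓ', rfl⟩ : ∃ ℓ', ℓ = ℓ' + 1 := ⟨ℓ - 1, by have := hℓ.pos; omega⟩
  have hsum : ∑ v : W, φ v * (∑ j ∈ Finset.range (ℓ' + 1), φ u ^ j) = 0 := by
    rw [hNorm]; simp
  have h1 : ∑ v : W, φ v * (∑ j ∈ Finset.range (ℓ' + 1), φ u ^ j)
      = ∑ j ∈ Finset.range (ℓ' + 1), ∑ v : W, φ v * φ u ^ j := by
    simp only [Finset.mul_sum]
    rw [Finset.sum_comm]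
  rw [h1, Finset.sum_range_succ'] at hsum
  have h2 : ∑ j ∈ Finset.range ℓ', ∑ v : W, φ v * φ u ^ (j + 1)
      = ∑ w : W, φ ((w : X)⁻¹) * (∑ j ∈ Finset.range ℓ', φ u ^ (j + 1)) * φ w := by
    have : ∀ j ∈ Finset.range ℓ', ∑ v : W, φ v * φ u ^ (j + 1)
        = ∑ w : W, φ ((w : X)⁻¹) * φ u ^ (j + 1) * φ w := by
      intro j hj'
      exact hj (j + 1) (Nat.succ_pos j) (by simpa using Finset.mem_range.1 hj')
    rw [Finset.sum_congr rfl this, Finset.sum_comm]
    refine Finset.sum_congr rfl fun w _ => ?_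
    rw [Finset.mul_sum, Finset.sum_mul]
  have h3 : ∑ j ∈ Finset.range ℓ', φ u ^ (j + 1) = -1 := by
    have := hNorm
    rw [Finset.sum_range_succ'] at this
    simp only [pow_zero] at this
    exact eq_neg_of_add_eq_zero_left this
  rw [h2, h3] at hsum
  have h4 : ∑ w : W, φ ((w : X)⁻¹) * (-1) * φ w = -(Fintype.card W : E) := by
    have : ∀ w : W, φ ((w : X)⁻¹) * (-1) * φ w = -1 := by
      intro w
      rw [mul_neg_one, neg_mul, ← map_mul, inv_mul_cancel, map_one]
    simp only [this]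
    simp [Finset.sum_neg_distrib]
  rw [h4] at hsum
  simp only [pow_zero, mul_one] at hsum
  exact (eq_of_sub_eq_zero (by rw [sub_eq_add_neg, add_comm]; exact hsum))

theorem mul_sum_eq_zero [Finite X] (φ : X →* E) (W : Subgroup X) [Fintype W] {v₀ : X} (hv : v₀ ∈ W)
    {ℓ : ℕ} (hNorm : ∑ j ∈ Finset.range ℓ, (φ v₀) ^ j = 0) :
    (∑ v : W, φ v) * (ℓ : E) = 0 := by
  classical
  set S := ∑ v : W, φ v with hS
  have h1 : S * φ v₀ = S := by
    rw [hS, Finset.sum_mul]
    let g : W → W := fun w => w * ⟨v₀, hv⟩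
    have hbij : Function.Bijective g := (Group.mulRight_bijective _)
    rw [← hbij.sum_comp (fun v : W => φ v)]
    refine Finset.sum_congr rfl fun w _ => ?_
    show _ = φ ((w : X) * v₀)
    rw [map_mul]
  have h2 : ∀ j : ℕ, S * φ v₀ ^ j = S := by
    intro j
    induction j with
    | zero => simp
    | succ j ih => rw [pow_succ, ← mul_assoc, ih, h1]
  have h3 : S * (∑ j ∈ Finset.range ℓ, (φ v₀) ^ j) = S * (ℓ : E) := by
    rw [Finset.mul_sum, Finset.sum_congr rfl (fun j _ => h2 j)]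
    simp
    rw [Nat.cast_comm]
  rw [← h3, hNorm, mul_zero]

theorem isPGroup_of_norm {q : ℕ} [hq : Fact q.Prime] [Finite X] (φ : X →* E)
    (hNorm : ∀ x : X, (orderOf x).Prime → ∑ j ∈ Finset.range (orderOf x), φ x ^ j = 0)
    (B : Sylow q X) (hB : ∀ a ∈ (B : Subgroup X), ∀ b ∈ (B : Subgroup X), Commute a b)
    (hB1 : (B : Subgroup X) ≠ ⊥)
    (hfix : ∀ b ∈ (B : Subgroup X), b ≠ 1 → ∀ u : X, Commute u b → (orderOf u).Coprime q → u = 1)
    (hc1 : ∀ k : ℕ, ((q ^ k : ℕ) : E) ≠ 0) (hc2 : ∀ n : ℕ, n.Coprime q → (n : E) ≠ 0) :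
    IsPGroup q X := by
  classical
  have hqp : q.Prime := hq.out
  -- an element of order `q` in `B`
  have hBp : IsPGroup q (B : Subgroup X) := B.isPGroup'
  obtain ⟨nB, hnB⟩ := hBp.exists_card_eq
  have hnB0 : nB ≠ 0 := by
    rintro rfl
    apply hB1
    rw [pow_zero] at hnB
    exact (Subgroup.card_eq_one).1 hnB
  obtain ⟨b₀', hb₀'⟩ := exists_prime_orderOf_dvd_card' (G := (B : Subgroup X)) q
    (by rw [hnB]; exact dvd_pow_self q hnB0)
  set b₀ : X := (b₀' : X) with hb₀
  have hb₀B : b₀ ∈ (B : Subgroup X) := b₀'.2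
  have hb₀o : orderOf b₀ = q := by
    rw [hb₀, Subgroup.orderOf_coe]; exact hb₀'
  have hb₀1 : b₀ ≠ 1 := by
    intro h
    rw [h, orderOf_one] at hb₀o
    exact hqp.one_lt.ne hb₀o
  have hNb₀ : ∑ j ∈ Finset.range q, φ b₀ ^ j = 0 := by
    have := hNorm b₀ (by rw [hb₀o]; exact hqp)
    rwa [hb₀o] at this
  -- Step 1 : the normalizer
  have hP : Subgroup.normalizer ((B : Subgroup X) : Set X) ≤ centralizer ((B : Subgroup X) : Set X) := by
    intro x hx
    obtain ⟨a, b, hab, hcomm, ha, hbq, haz, hbz⟩ := split q x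
    have hbN : ∀ c ∈ zpowers x, c ∈ Subgroup.normalizer ((B : Subgroup X) : Set X) := by
      intro c hc
      obtain ⟨e, rfl⟩ := hc
      exact Subgroup.zpow_mem _ hx e
    have hb1 : b = 1 := by
      by_contra hb1
      obtain ⟨ℓ, hℓ, hℓd⟩ := Nat.exists_prime_and_dvd (n := orderOf b) (by
        rw [Ne, orderOf_eq_one_iff]; exact hb1)
      set v := b ^ (orderOf b / ℓ) with hvdef
      have hv : orderOf v = ℓ := orderOf_pow_orderOf_div (orderOf_pos b).ne' hℓd
      have hvz : v ∈ zpowers x := (zpowers x).pow_mem hbz _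
      have hvc : (orderOf v).Coprime q := by
        rw [hv]
        exact Nat.Coprime.coprime_dvd_left hℓd hbq
      have hv1 : v ≠ 1 := by
        intro h
        rw [h, orderOf_one] at hv
        exact hℓ.one_lt.ne hv
      have hfpf : ∀ c ∈ (B : Subgroup X), Commute c v → c = 1 := by
        intro c hc hcv
        by_contra hc1'
        exact hv1 (hfix c hc hc1' v hcv.symm hvc)
      have hNv : ∀ w ∈ (B : Subgroup X), v * w * v⁻¹ ∈ (B : Subgroup X) := by
        intro w hw
        exact (Subgroup.mem_normalizer_iff.1 (hbN v hvz) w).1 hw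
      have hNv' : ∑ j ∈ Finset.range ℓ, φ v ^ j = 0 := by
        have := hNorm v (by rw [hv]; exact hℓ)
        rwa [hv] at this
      letI : Fintype (B : Subgroup X) := Fintype.ofFinite _
      have h1 := sum_eq_card φ (B : Subgroup X) v hℓ hv hNv hfpf hNv'
      have h2 := mul_sum_eq_zero φ (B : Subgroup X) hb₀B hNb₀
      rw [h1] at h2
      apply hc1 (nB + 1)
      have e : Fintype.card (B : Subgroup X) = q ^ nB := by rw [← Nat.card_eq_fintype_card, hnB]
      rw [e] at h2
      rw [pow_succ]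
      push_cast at h2 ⊢
      exact h2
    subst hb1
    rw [mul_one] at hab
    subst hab
    -- a `q`-element normalizing `B` lies in `B`
    have hxB : a ∈ (B : Subgroup X) := by
      have h1 : IsPGroup q (zpowers a) := ha.isPGroup_zpowers
      have hle : zpowers a ≤ Subgroup.normalizer ((B : Subgroup X) : Set X) := by
        rw [zpowers_le]; exact hx
      have h2 := h1.to_sup_of_normal_right' hBp hle
      have h3 := B.is_maximal' h2 le_sup_right
      have : a ∈ zpowers a ⊔ (B : Subgroup X) := (le_sup_left : zpowers a ≤ _) (mem_zpowers a)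
      rwa [h3] at this
    rw [Subgroup.mem_centralizer_iff]
    intro c hc
    exact (hB a hxB c hc).symm
  -- Step 2 : the complement
  have hC := MonoidHom.ker_transferSylow_isComplement' B hP
  set W : Subgroup X := (MonoidHom.transferSylow B hP).ker with hW
  have hWn : W.Normal := MonoidHom.normal_ker _
  have hcard : Nat.card W * Nat.card (B : Subgroup X) = Nat.card X := hC.card_mul_card
  have hWcop : (Nat.card W).Coprime q := by
    have hnd := B.not_dvd_index
    have hi : (B : Subgroup X).index = Nat.card W := by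
      have h1 := Subgroup.card_mul_index (B : Subgroup X)
      rw [← hcard, mul_comm] at h1
      exact Nat.eq_of_mul_eq_mul_right Nat.card_pos h1.symm |>.symm ▸ rfl
    rw [hi] at hnd
    exact ((Nat.Prime.coprime_iff_not_dvd hqp).2 hnd).symm
  have hWbot : W = ⊥ := by
    by_contra hne
    have hcardW : Nat.card W ≠ 1 := fun h => hne ((Subgroup.card_eq_one).1 h)
    obtain ⟨ℓ, hℓ, hℓd⟩ := Nat.exists_prime_and_dvd hcardW
    haveI : Fact ℓ.Prime := ⟨hℓ⟩
    obtain ⟨v₀', hv₀'⟩ := exists_prime_orderOf_dvd_card' (G := W) ℓ hℓd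
    have hv₀o : orderOf (v₀' : X) = ℓ := by rw [Subgroup.orderOf_coe]; exact hv₀'
    have hNv₀ : ∑ j ∈ Finset.range ℓ, φ (v₀' : X) ^ j = 0 := by
      have := hNorm (v₀' : X) (by rw [hv₀o]; exact hℓ)
      rwa [hv₀o] at this
    have hfpf : ∀ v ∈ W, Commute v b₀ → v = 1 := by
      intro v hv hcv
      apply hfix b₀ hb₀B hb₀1 v hcv
      have h1 : orderOf v ∣ Nat.card W := by
        have := orderOf_dvd_natCard (⟨v, hv⟩ : W)
        rwa [Subgroup.orderOf_mk] at this
      exact Nat.Coprime.coprime_dvd_left h1 hWcop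
    letI : Fintype W := Fintype.ofFinite _
    have h1 := sum_eq_card φ W b₀ hqp hb₀o (fun w hw => hWn.conj_mem w hw b₀) hfpf hNb₀
    have h2 := mul_sum_eq_zero φ W v₀'.2 hNv₀
    rw [h1] at h2
    apply hc2 (Fintype.card W * ℓ)
    · rw [← Nat.card_eq_fintype_card]
      exact Nat.Coprime.mul_left hWcop (Nat.Coprime.coprime_dvd_left hℓd hWcop)
    · push_cast
      exact h2
  have hBtop : (B : Subgroup X) = ⊤ := by
    apply Subgroup.eq_top_of_card_eq
    rw [← hcard, hWbot]
    simp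
  intro x
  obtain ⟨k, hk⟩ := hBp ⟨x, by rw [hBtop]; trivial⟩
  exact ⟨k, by simpa [Subtype.ext_iff] using hk⟩

end Cfsg.Agent.Lib.FGStruct.TwoRegA
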