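/-
Two `p`-regular class sizes with at least two "noncentral" primes: the centralizer structure.
-/
import Mathlib
import Cfsg.Agent.Lib.FGStruct.TwoRegA
import Cfsg.Agent.Lib.FGStruct.NMBasic
import Cfsg.Agent.Lib.Transfer.ClassSize

set_option autoImplicit false
set_option linter.style.haveILetI false
set_option linter.unusedSectionVars false

namespace Cfsg.Agent.Lib.FGStruct.TwoRegB

open Subgroup Cfsg.Agent.Lib.FGStruct.NMBasic Cfsg.Agent.Lib.FGStruct.TwoRegA
open Cfsg.Agent.Lib.ClassGraph.Basic (cs mem_cen cs_eq_one_iff)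
open Cfsg.Agent.Lib.Transfer.ClassSize (mem_zpowers_mul_of_coprime)

/-- Configuration: all noncentral `p`-regular elements have class size `m`, and for every prime
there is a different prime (not `p`) with a noncentral element of its power order. -/
structure Cfg (p m : ℕ) (G : Type*) [Group G] : Prop where
  hm : ∀ x : G, (orderOf x).Coprime p → x ∉ center G → cs x = m
  h3 : ∀ s : ℕ, s.Prime → ∃ (t : ℕ) (y : G), t.Prime ∧ t ≠ s ∧ t ≠ p ∧ PE t y ∧ y ∉ center G

variable {G : Type*} [Group G] [Finite G] {p m : ℕ}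

theorem reg_of_mem_zpowers {x c : G} (hx : (orderOf x).Coprime p) (hc : c ∈ zpowers x) :
    (orderOf c).Coprime p :=
  Nat.Coprime.coprime_dvd_left (orderOf_dvd_of_mem_zpowers hc) hx

theorem reg_conj {x : G} (hx : (orderOf x).Coprime p) (g : G) :
    (orderOf (g * x * g⁻¹)).Coprime p := by
  have : orderOf (g * x * g⁻¹) = orderOf x := MulEquiv.orderOf_eq (MulAut.conj g) x
  rwa [this]

theorem reg_of_PE {t : ℕ} (ht : t.Prime) (htp : t ≠ p) (hp : p.Prime) {y : G} (hy : PE t y) :
    (orderOf y).Coprime p :=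
  hy.coprime ht (fun hd => htp ((Nat.prime_dvd_prime_iff_eq ht hp).1 hd))

theorem mem_zpowers_pow_of_coprime {x : G} {n : ℕ} (h : n.Coprime (orderOf x)) :
    x ∈ zpowers (x ^ n) := by
  obtain ⟨k, hk⟩ := exists_pow_eq_self_of_coprime h
  exact Subgroup.mem_zpowers_iff.2 ⟨k, by simpa using hk⟩

theorem C_eq_of_le (h : Cfg p m G) {x y : G} (hx : (orderOf x).Coprime p) (hxz : x ∉ center G)
    (hy : (orderOf y).Coprime p) (hyz : y ∉ center G) (hle : C x ≤ C y) : C x = C y := by
  apply Subgroup.eq_of_le_of_card_ge hle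
  have h1 := card_C_mul_cs x
  have h2 := card_C_mul_cs y
  rw [h.hm x hx hxz] at h1
  rw [h.hm y hy hyz] at h2
  have hm0 : 0 < m := by
    have := Nat.card_pos (α := G)
    rw [← h1] at this
    exact Nat.pos_of_mul_pos_left this
  exact (Nat.eq_of_mul_eq_mul_right hm0 (h2.trans h1.symm)).le

theorem C_eq_pow (h : Cfg p m G) {x c : G} (hx : (orderOf x).Coprime p) (hxz : x ∉ center G)
    (hc : c ∈ zpowers x) (hcz : c ∉ center G) : C x = C c :=
  C_eq_of_le h hx hxz (reg_of_mem_zpowers hx hc) hcz (C_le_of_mem_zpowers hc)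

theorem C_eq_coprime (h : Cfg p m G) {x y : G} (hx : (orderOf x).Coprime p) (hxz : x ∉ center G)
    (hy : (orderOf y).Coprime p) (hyz : y ∉ center G) (hc : Commute x y)
    (ho : (orderOf x).Coprime (orderOf y)) : C x = C y := by
  have h1 : x ∈ zpowers (x * y) := mem_zpowers_mul_of_coprime hc ho
  have h2 : y ∈ zpowers (x * y) := by
    have := mem_zpowers_mul_of_coprime hc.symm ho.symm
    rwa [hc.symm.eq] at this
  have hr : (orderOf (x * y)).Coprime p :=
    Nat.Coprime.coprime_dvd_left hc.orderOf_mul_dvd_mul_orderOf (Nat.Coprime.mul_left hx hy)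
  have hz : x * y ∉ center G := by
    intro hg
    exact hxz ((zpowers_le.2 hg) h1)
  rw [← C_eq_pow h hr hz h1 hxz, ← C_eq_pow h hr hz h2 hyz]

/-- Partner lemma. -/
theorem partner (h : Cfg p m G) {t : ℕ} [ht : Fact t.Prime] (htp : t ≠ p) (hp : p.Prime) {x y : G}
    (hx : (orderOf x).Coprime p) (hxz : x ∉ center G) (hy : PE t y) (hyz : y ∉ center G) :
    ∃ w : G, PE t w ∧ w ∉ center G ∧ Commute x w := by
  have hyr := reg_of_PE ht.out htp hp hy
  obtain ⟨T, hT⟩ := hy.isPGroup_zpowers.exists_le_sylow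
  have hyT : y ∈ (T : Subgroup G) := hT (mem_zpowers y)
  set Zt : Subgroup G := (T : Subgroup G) ⊓ center G with hZt
  set W : Subgroup G := Zt ⊔ zpowers y with hW
  have hWT : W ≤ (T : Subgroup G) := sup_le inf_le_left hT
  have hWp : IsPGroup t W := T.isPGroup'.to_le hWT
  obtain ⟨a, ha⟩ := hWp.exists_card_eq
  have hlt : Nat.card Zt < Nat.card W := by
    by_contra hcon
    push Not at hcon
    have := Subgroup.eq_of_le_of_card_ge (le_sup_left : Zt ≤ W) hcon
    have hyW : y ∈ Zt := by
      rw [this]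
      exact (le_sup_right : zpowers y ≤ Zt ⊔ zpowers y) (mem_zpowers y)
    exact hyz (Subgroup.mem_inf.1 hyW).2
  have hWC : W ≤ C y := by
    apply sup_le
    · intro c hc
      exact mem_C_symm.1 (C_of_center (Subgroup.mem_inf.1 hc).2)
    · intro c hc
      exact mem_C_of_mem_zpowers (mem_C_self y) hc
  have hcards : Nat.card (C y) = Nat.card (C x) := by
    have h1 := card_C_mul_cs x
    have h2 := card_C_mul_cs y
    rw [h.hm x hx hxz] at h1
    rw [h.hm y hyr hyz] at h2
    have hm0 : 0 < m := by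
      have := Nat.card_pos (α := G)
      rw [← h1] at this
      exact Nat.pos_of_mul_pos_left this
    exact Nat.eq_of_mul_eq_mul_right hm0 (h2.trans h1.symm)
  have hd : t ^ a ∣ Nat.card (C x) := by
    rw [← ha, ← hcards]
    exact Subgroup.card_dvd_of_le hWC
  obtain ⟨K, hK⟩ := Sylow.exists_subgroup_card_pow_prime (G := C x) t hd
  set W' : Subgroup G := K.map (C x).subtype with hW'
  have hW'card : Nat.card W' = t ^ a := by
    rw [hW', ← hK]
    exact Nat.card_congr (K.equivMapOfInjective _ (C x).subtype_injective).symm.toEquiv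
  have hW'p : IsPGroup t W' := IsPGroup.of_card hW'card
  by_contra hno
  push Not at hno
  have hW'Z : W' ≤ center G := by
    intro g hg
    by_contra hgz
    have hgC : g ∈ C x := by
      obtain ⟨k, -, rfl⟩ := hg
      exact k.2
    exact hno g (PE.of_mem hW'p hg) hgz (mem_C_comm.1 hgC).symm
  have hW'T : W' ≤ (T : Subgroup G) := by
    have hn : W' ≤ Subgroup.normalizer ((T : Subgroup G) : Set G) := by
      intro g hg
      have hgz := hW'Z hg
      rw [Subgroup.mem_normalizer_iff]
      intro c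
      have : g * c * g⁻¹ = c := by
        rw [(mem_center_iff.1 hgz c).symm]; group
      rw [this]
    have h2 := hW'p.to_sup_of_normal_right' T.isPGroup' hn
    have h3 := T.is_maximal' h2 le_sup_right
    rw [← h3]
    exact le_sup_left
  have hle : W' ≤ Zt := le_inf hW'T hW'Z
  have := Subgroup.card_le_of_le hle
  omega

/-- Commuting noncentral regular elements have the same centralizer. -/
theorem C_eq_of_commute (h : Cfg p m G) (hp : p.Prime) {u v : G} (hu : (orderOf u).Coprime p)
    (huz : u ∉ center G) (hv : (orderOf v).Coprime p) (hvz : v ∉ center G) (hc : Commute u v) :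
    C u = C v := by
  obtain ⟨s, hs, c, hc1, hc2, hc3⟩ := exists_primary_not_mem (center G) huz
  obtain ⟨s', hs', c', hc1', hc2', hc3'⟩ := exists_primary_not_mem (center G) hvz
  have hcr := reg_of_mem_zpowers hu hc1
  have hcr' := reg_of_mem_zpowers hv hc1'
  rw [C_eq_pow h hu huz hc1 hc3, C_eq_pow h hv hvz hc1' hc3']
  have hcc : Commute c c' := by
    obtain ⟨e, rfl⟩ := hc1
    obtain ⟨f, rfl⟩ := hc1'
    exact hc.zpow_zpow e f
  by_cases hss : s = s'
  · subst hss
    obtain ⟨t, y, ht, hts, htp, hy, hyz⟩ := h.h3 s hs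
    haveI : Fact t.Prime := ⟨ht⟩
    obtain ⟨w, hw, hwz, hwc⟩ := partner h htp hp hcr hc3 hy hyz
    have hwr := reg_of_PE ht htp hp hw
    have e1 : C c = C w := C_eq_coprime h hcr hc3 hwr hwz hwc
      (PE.coprime_order hs ht hts.symm hc2 hw)
    have hcw : Commute c' w := by
      have : c' ∈ C c := mem_C_comm.2 hcc.symm
      rw [e1] at this
      exact mem_C_comm.1 this
    have e2 : C c' = C w := C_eq_coprime h hcr' hc3' hwr hwz hcw
      (PE.coprime_order hs ht hts.symm hc2' hw)
    rw [e1, e2]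
  · exact C_eq_coprime h hcr hc3 hcr' hc3' hcc (PE.coprime_order hs hs' hss hc2 hc2')

section HH

variable (h : Cfg p m G) (hp : p.Prime) {z : G} (hz : (orderOf z).Coprime p) (hzz : z ∉ center G)
include h hp hz hzz

/-- Regular elements of `C z` are central in `C z`. -/
theorem comm_reg {u g : G} (hu : (orderOf u).Coprime p) (huz : u ∈ C z) (hg : g ∈ C z) :
    Commute u g := by
  by_cases hc : u ∈ center G
  · exact (mem_center_iff.1 hc g).symm
  · have e : C u = C z := C_eq_of_commute h hp hu hc hz hzz (mem_C_comm.1 huz)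
    rw [← e] at hg
    exact (mem_C_comm.1 hg).symm

/-- An element of `C z` that is regular and commutes with `g ∉ C z` is central. -/
theorem central_of_commute {u g : G} (hu : (orderOf u).Coprime p) (huz : u ∈ C z) (hg : g ∉ C z)
    (hc : Commute u g) : u ∈ center G := by
  by_contra hcon
  have e : C u = C z := C_eq_of_commute h hp hu hcon hz hzz (mem_C_comm.1 huz)
  apply hg
  rw [← e]
  exact mem_C_comm.2 hc.symm

/-- The regular elements of `C z` form a subgroup. -/
def HH : Subgroup G where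
  carrier := {u | u ∈ C z ∧ (orderOf u).Coprime p}
  mul_mem' := by
    rintro a b ⟨ha, ha'⟩ ⟨hb, hb'⟩
    refine ⟨(C z).mul_mem ha hb, ?_⟩
    have hc : Commute a b := comm_reg h hp hz hzz ha' ha hb
    exact Nat.Coprime.coprime_dvd_left hc.orderOf_mul_dvd_mul_orderOf (Nat.Coprime.mul_left ha' hb')
  one_mem' := ⟨(C z).one_mem, by simp⟩
  inv_mem' := by
    rintro a ⟨ha, ha'⟩
    exact ⟨(C z).inv_mem ha, by rwa [orderOf_inv]⟩

theorem mem_HH {u : G} : u ∈ HH h hp hz hzz ↔ u ∈ C z ∧ (orderOf u).Coprime p := Iff.rfl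

theorem HH_comm (a b : HH h hp hz hzz) : a * b = b * a := by
  apply Subtype.ext
  exact comm_reg h hp hz hzz a.2.2 a.2.1 b.2.1

end HH

end Cfsg.Agent.Lib.FGStruct.TwoRegB
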