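import Mathlib
import Cfsg.Agent.Lib.FGStruct.TwoRegB

set_option autoImplicit false
set_option linter.style.haveILetI false
set_option linter.unusedSectionVars false

namespace Cfsg.Agent.Lib.FGStruct.TwoRegC

open Subgroup Cfsg.Agent.Lib.FGStruct.NMBasic Cfsg.Agent.Lib.FGStruct.TwoRegA
open Cfsg.Agent.Lib.FGStruct.TwoRegB
open Cfsg.Agent.Lib.ClassGraph.Basic (cs mem_cen cs_eq_one_iff)

section Gen

variable {N H : Type*} [Group N] [CommGroup H] (K : Subgroup H)
  (γ : N → H →* H) (h1 : ∀ a, γ 1 a = a) (hm : ∀ g g' a, γ (g * g') a = γ g (γ g' a))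
  (hK : ∀ g k, k ∈ K → γ g k ∈ K)

/-- The action on `H ⧸ K` as a hom into the endomorphism ring. -/
def endOf : N →* AddMonoid.End (Additive (H ⧸ K)) where
  toFun g := MonoidHom.toAdditive (QuotientGroup.map K K (γ g) (fun k hk => hK g k hk))
  map_one' := by
    ext x
    induction x using Additive.rec with
    | _ x =>
      induction x using QuotientGroup.induction_on with
      | H a =>
        show Additive.ofMul ((γ 1 a : H) : H ⧸ K) = _
        rw [h1]; rfl
  map_mul' := by
    intro g g'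
    ext x
    induction x using Additive.rec with
    | _ x =>
      induction x using QuotientGroup.induction_on with
      | H a =>
        show Additive.ofMul ((γ (g * g') a : H) : H ⧸ K) = _
        rw [hm]; rfl

theorem endOf_apply (g : N) (a : H) :
    endOf K γ h1 hm hK g (Additive.ofMul ((a : H) : H ⧸ K)) = Additive.ofMul ((γ g a : H) : H ⧸ K) := rfl

end Gen

theorem end_sum_apply {A ι : Type*} [AddCommGroup A] (s : Finset ι) (f : ι → AddMonoid.End A) (a : A) :
    (∑ i ∈ s, f i) a = ∑ i ∈ s, (f i) a := by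
  classical
  induction s using Finset.induction_on with
  | empty => rfl
  | insert i s hi ih =>
    rw [Finset.sum_insert hi, Finset.sum_insert hi, ← ih]
    rfl

variable {G : Type*} [Group G] [Finite G] {p m : ℕ}

theorem conj_eq_mul_of_central {t z : G} : t * z * t⁻¹ = (t * z * t⁻¹ * z⁻¹) * z := by group

theorem C_conj_eq_of_central {t z : G} (ht : t * z * t⁻¹ * z⁻¹ ∈ center G) :
    C (t * z * t⁻¹) = C z := by
  set f := t * z * t⁻¹ * z⁻¹ with hf
  have e : t * z * t⁻¹ = f * z := conj_eq_mul_of_central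
  ext g
  rw [e, mem_C, mem_C]
  have hfc := mem_center_iff.1 ht g
  constructor
  · intro h
    have : f * (g * z) = f * (z * g) := by
      calc f * (g * z) = (g * f) * z := by rw [← mul_assoc, hfc.symm]
        _ = g * (f * z) := by group
        _ = f * z * g := h
        _ = f * (z * g) := by group
    exact mul_left_cancel this
  · intro h
    calc g * (f * z) = (g * f) * z := by group
      _ = f * (g * z) := by rw [hfc, mul_assoc]
      _ = f * (z * g) := by rw [h]
      _ = f * z * g := by group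

theorem mem_normalizer_of_central {t z : G} (ht : t * z * t⁻¹ * z⁻¹ ∈ center G) :
    t ∈ normalizer ((C z : Subgroup G) : Set G) := by
  rw [Subgroup.mem_normalizer_iff]
  intro c
  have e := C_conj_eq_of_central ht
  rw [C_conj] at e
  constructor
  · intro hc
    rw [← e]
    exact ⟨c, hc, rfl⟩
  · intro hc
    have hc' : t * c * t⁻¹ ∈ C z := hc
    rw [← e] at hc'
    obtain ⟨c', hc', he⟩ := hc'
    have : c' = c := by
      have h2 : t * c' * t⁻¹ = t * c * t⁻¹ := he
      simpa using h2
    rw [← this]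
    exact hc'

/-- The product rule: `[t t', z]` is symmetric modulo `C z`. -/
theorem comm_mod_C {t t' z : G} (ht : t * z * t⁻¹ * z⁻¹ ∈ center G)
    (ht' : t' * z * t'⁻¹ * z⁻¹ ∈ center G) : (t * t')⁻¹ * (t' * t) ∈ C z := by
  set f := t * z * t⁻¹ * z⁻¹ with hf
  set f' := t' * z * t'⁻¹ * z⁻¹ with hf'
  have e : t * z * t⁻¹ = f * z := conj_eq_mul_of_central
  have e' : t' * z * t'⁻¹ = f' * z := conj_eq_mul_of_central
  have h1 : (t * t') * z * (t * t')⁻¹ = f' * (f * z) := by
    calc (t * t') * z * (t * t')⁻¹ = t * (t' * z * t'⁻¹) * t⁻¹ := by group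
      _ = t * (f' * z) * t⁻¹ := by rw [e']
      _ = (t * f') * (z * t⁻¹) := by group
      _ = (f' * t) * (z * t⁻¹) := by rw [← mem_center_iff.1 ht']
      _ = f' * (t * z * t⁻¹) := by group
      _ = f' * (f * z) := by rw [e]
  have h2 : (t' * t) * z * (t' * t)⁻¹ = f * (f' * z) := by
    calc (t' * t) * z * (t' * t)⁻¹ = t' * (t * z * t⁻¹) * t'⁻¹ := by group
      _ = t' * (f * z) * t'⁻¹ := by rw [e]
      _ = (t' * f) * (z * t'⁻¹) := by group
      _ = (f * t') * (z * t'⁻¹) := by rw [← mem_center_iff.1 ht]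
      _ = f * (t' * z * t'⁻¹) := by group
      _ = f * (f' * z) := by rw [e']
  have h3 : f' * (f * z) = f * (f' * z) := by
    have hcomm := mem_center_iff.1 ht f'
    calc f' * (f * z) = (f' * f) * z := (mul_assoc f' f z).symm
      _ = (f * f') * z := by rw [hcomm]
      _ = f * (f' * z) := mul_assoc f f' z
  rw [← C_inv_mem]
  have h4 : (t' * t) * z * (t' * t)⁻¹ = (t * t') * z * (t * t')⁻¹ := by rw [h1, h2, h3]
  calc (t * t')⁻¹ * (t' * t) * z * ((t * t')⁻¹ * (t' * t))⁻¹
      = (t * t')⁻¹ * ((t' * t) * z * (t' * t)⁻¹) * (t * t') := by group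
    _ = (t * t')⁻¹ * ((t * t') * z * (t * t')⁻¹) * (t * t') := by rw [h4]
    _ = z := by group

/-- The key: if `g` normalizes `C z`, commutes with `t ∉ C z` modulo `C z`, and has order prime to
`q` modulo `C z`, then `g ∈ C z`. -/
theorem fix_key (h : Cfg p m G) (hp : p.Prime) {q : ℕ} (hq : q.Prime) (hqp : q ≠ p) {z t g : G}
    (hzp : PE q z) (hzz : z ∉ center G)
    (ht : t ∈ normalizer ((C z : Subgroup G) : Set G)) (htz : t ∉ C z)
    (hc : t * z * t⁻¹ * z⁻¹ ∈ center G)
    (hg : g ∈ normalizer ((C z : Subgroup G) : Set G)) (hs : g * t * g⁻¹ * t⁻¹ ∈ C z)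
    {n : ℕ} (hn : n.Coprime q) (hgn : g ^ n ∈ C z) : g ∈ C z := by
  have hz : (orderOf z).Coprime p := reg_of_PE hq hqp hp hzp
  have hzC : z ∈ C z := mem_C_self z
  have hnorm : ∀ {a b : G}, a ∈ normalizer ((C z : Subgroup G) : Set G) → b ∈ C z →
      a * b * a⁻¹ ∈ C z := fun ha hb => (Subgroup.mem_normalizer_iff.1 ha _).1 hb
  set z' := g * z * g⁻¹ with hz'
  have hz'C : z' ∈ C z := hnorm hg hzC
  have hz'p : PE q z' := hzp.conj g
  have hz'r : (orderOf z').Coprime p := reg_of_PE hq hqp hp hz'p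
  set s := g * t * g⁻¹ * t⁻¹ with hsdef
  set c := t * z * t⁻¹ * z⁻¹ with hcdef
  have hcc : g * c * g⁻¹ = c := by
    rw [mem_center_iff.1 hc g]; group
  set w := t * z' * t⁻¹ with hw
  have hwC : w ∈ C z := hnorm ht hz'C
  have hwr : (orderOf w).Coprime p := reg_conj hz'r t
  have hsw : Commute w s := comm_reg h hp hz hzz hwr hwC hs
  have e1 : g * c * g⁻¹ = w * z'⁻¹ := by
    have e2 : g * c * g⁻¹ = (g * t * g⁻¹) * z' * (g * t * g⁻¹)⁻¹ * z'⁻¹ := by
      rw [hcdef, hz']; group
    have e3 : g * t * g⁻¹ = s * t := by rw [hsdef]; group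
    rw [e2, e3]
    have e4 : s * t * z' * (s * t)⁻¹ * z'⁻¹ = s * w * s⁻¹ * z'⁻¹ := by rw [hw]; group
    rw [e4, ← hsw.eq]
    group
  have e2 : w * z'⁻¹ = t * z * t⁻¹ * z⁻¹ := by rw [← e1, hcc]
  set v := t * z * t⁻¹ with hv
  have hvC : v ∈ C z := hnorm ht hzC
  have hvr : (orderOf v).Coprime p := reg_conj hz t
  have hzz' : Commute z' z := mem_C_comm.1 hz'C
  set e := z' * z⁻¹ with he
  have heC : e ∈ C z := (C z).mul_mem hz'C ((C z).inv_mem hzC)
  have hep : PE q e := PE.mul hzz'.inv_right hz'p hzp.inv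
  have her : (orderOf e).Coprime p := reg_of_PE hq hqp hp hep
  have hte : Commute e t := by
    have e3 : w = v * z⁻¹ * z' := by
      have : w = (w * z'⁻¹) * z' := by group
      rw [this, e2]
    have e4 : t * e * t⁻¹ = w * v⁻¹ := by
      rw [he, hw, hv]; group
    have e5 : t * e * t⁻¹ = e := by
      rw [e4, e3]
      have hvc : Commute v (z⁻¹ * z') := by
        apply comm_reg h hp hz hzz hvr hvC
        exact (C z).mul_mem ((C z).inv_mem hzC) hz'C
      calc v * z⁻¹ * z' * v⁻¹ = v * (z⁻¹ * z') * v⁻¹ := by group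
        _ = (z⁻¹ * z') * v * v⁻¹ := by rw [hvc.eq]
        _ = z⁻¹ * z' := by group
        _ = e := by
          rw [he]
          have : z⁻¹ * z' = z⁻¹ * (z' * z) * z⁻¹ := by group
          rw [this, hzz'.eq]
          group
    have : t * e = e * t := by
      calc t * e = (t * e * t⁻¹) * t := by group
        _ = e * t := by rw [e5]
    exact this.symm
  have heZ : e ∈ center G := central_of_commute h hp hz hzz her heC htz hte
  have hz'e : z' = e * z := by rw [he]; group
  have hpow : ∀ j : ℕ, g ^ j * z * (g ^ j)⁻¹ = e ^ j * z := by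
    intro j
    induction j with
    | zero => simp
    | succ j ih =>
      have h1 : g ^ (j + 1) * z * (g ^ (j + 1))⁻¹ = g ^ j * z' * (g ^ j)⁻¹ := by
        rw [pow_succ, hz']; group
      rw [h1, hz'e]
      have h2 : g ^ j * (e * z) * (g ^ j)⁻¹ = e * (g ^ j * z * (g ^ j)⁻¹) := by
        have : g ^ j * e = e * g ^ j := (mem_center_iff.1 heZ _)
        calc g ^ j * (e * z) * (g ^ j)⁻¹ = (g ^ j * e) * z * (g ^ j)⁻¹ := by group
          _ = (e * g ^ j) * z * (g ^ j)⁻¹ := by rw [this]
          _ = e * (g ^ j * z * (g ^ j)⁻¹) := by group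
      rw [h2, ih, pow_succ']
      group
  have h3 := hpow n
  rw [C_inv_mem.2 hgn] at h3
  have hen : e ^ n = 1 := by
    have : e ^ n * z = 1 * z := by rw [one_mul]; exact h3.symm
    exact mul_right_cancel this
  have he1 : e = 1 := hep.eq_one_of_coprime
    (Nat.Coprime.coprime_dvd_left (orderOf_dvd_of_pow_eq_one hen) hn)
  rw [he1, one_mul] at hz'e
  exact C_inv_mem.1 hz'e

/-- Main local statement: `N(C z) / C z` is a `q`-group. -/
theorem normalizer_q (h : Cfg p m G) (hp : p.Prime) {q : ℕ} [hq : Fact q.Prime] (hqp : q ≠ p)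
    (hqm : q ∣ m) (Q : Sylow q G) {z : G} (hzQ : z ∈ (Q : Subgroup G)) (hzz : z ∉ center G)
    (hzQ2 : ∀ t ∈ (Q : Subgroup G), t * z * t⁻¹ * z⁻¹ ∈ center G) :
    ∀ g ∈ normalizer ((C z : Subgroup G) : Set G), ∃ k : ℕ, g ^ q ^ k ∈ C z := by
  classical
  have hqp' : q.Prime := hq.out
  have hzp : PE q z := PE.of_mem Q.isPGroup' hzQ
  have hz : (orderOf z).Coprime p := reg_of_PE hqp' hqp hp hzp
  set D : Subgroup G := C z with hD
  set N : Subgroup G := normalizer ((D : Subgroup G) : Set G) with hN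
  have hnorm : ∀ {a b : G}, a ∈ N → b ∈ D → a * b * a⁻¹ ∈ D :=
    fun ha hb => (Subgroup.mem_normalizer_iff.1 ha _).1 hb
  -- the abelian group
  set H : Subgroup G := HH h hp hz hzz with hH
  letI cH : CommGroup H := { (inferInstance : Group H) with mul_comm := HH_comm h hp hz hzz }
  have hconjH : ∀ (g : N) (u : H), (g : G) * u * (g : G)⁻¹ ∈ H := fun g u =>
    ⟨hnorm g.2 u.2.1, reg_conj u.2.2 g⟩
  let γ : N → H →* H := fun g =>
    { toFun := fun u => ⟨(g : G) * u * (g : G)⁻¹, hconjH g u⟩
      map_one' := by apply Subtype.ext; simp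
      map_mul' := by
        intro a b
        apply Subtype.ext
        show (g : G) * ((a : G) * (b : G)) * (g : G)⁻¹ = _
        show _ = ((g : G) * (a : G) * (g : G)⁻¹) * ((g : G) * (b : G) * (g : G)⁻¹)
        group }
  have hγ : ∀ (g : N) (u : H), ((γ g u : H) : G) = (g : G) * u * (g : G)⁻¹ := fun _ _ => rfl
  let K : Subgroup H := (center G).comap H.subtype
  have hγ1 : ∀ a, γ 1 a = a := by
    intro a
    apply Subtype.ext
    rw [hγ]; simp
  have hγm : ∀ g g' a, γ (g * g') a = γ g (γ g' a) := by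
    intro g g' a
    apply Subtype.ext
    rw [hγ, hγ, hγ]
    push_cast
    group
  have hγK : ∀ g k, k ∈ K → γ g k ∈ K := by
    intro g k hk
    have hk' : (k : G) ∈ center G := hk
    show ((γ g k : H) : G) ∈ center G
    rw [hγ]
    have : (g : G) * k * (g : G)⁻¹ = k := by
      rw [mem_center_iff.1 hk' (g : G)]; group
    rw [this]; exact hk'
  let Φ : N →* AddMonoid.End (Additive (H ⧸ K)) := endOf K γ hγ1 hγm hγK
  have hΦ : ∀ (g : N) (a : H), Φ g (Additive.ofMul ((a : H) : H ⧸ K)) =
      Additive.ofMul ((γ g a : H) : H ⧸ K) := fun _ _ => rfl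
  -- the quotient group
  let D' : Subgroup N := D.subgroupOf N
  haveI hD'n : D'.Normal := Subgroup.normal_in_normalizer
  have hΦD : D' ≤ Φ.ker := by
    intro g hg
    have hg' : (g : G) ∈ D := hg
    rw [MonoidHom.mem_ker]
    ext a
    induction a using Additive.rec with
    | _ x =>
      induction x using QuotientGroup.induction_on with
      | H a =>
        show Φ g (Additive.ofMul ((a : H) : H ⧸ K)) = Additive.ofMul ((a : H) : H ⧸ K)
        rw [hΦ]
        congr 2
        apply Subtype.ext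
        rw [hγ]
        have hc : Commute (a : G) (g : G) := comm_reg h hp hz hzz a.2.2 a.2.1 hg'
        rw [← hc.eq]; group
  let φ : (N ⧸ D') →* AddMonoid.End (Additive (H ⧸ K)) := QuotientGroup.lift D' Φ hΦD
  have hφ : ∀ g : N, φ (g : N ⧸ D') = Φ g := fun _ => rfl
  -- vanishing of norms
  have hNorm : ∀ x : N ⧸ D', (orderOf x).Prime →
      ∑ j ∈ Finset.range (orderOf x), φ x ^ j = 0 := by
    intro x hx
    induction x using QuotientGroup.induction_on with
    | H g =>
      set ℓ := orderOf (g : N ⧸ D') with hℓ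
      have hgl : ((g : G) ^ ℓ) ∈ D := by
        have h1 : ((g ^ ℓ : N) : N ⧸ D') = 1 := by
          rw [QuotientGroup.mk_pow, hℓ, pow_orderOf_eq_one]
        have h2 : (g ^ ℓ : N) ∈ D' := (QuotientGroup.eq_one_iff _).1 h1
        simpa [D', Subgroup.mem_subgroupOf] using h2
      have hg1 : (g : G) ∉ D := by
        intro hg
        have h1 : ((g : N) : N ⧸ D') = 1 := (QuotientGroup.eq_one_iff _).2 hg
        rw [h1, orderOf_one] at hℓ
        rw [hℓ] at hx
        exact Nat.not_prime_one hx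
      ext a
      induction a using Additive.rec with
      | _ x =>
        induction x using QuotientGroup.induction_on with
        | H u =>
          let v : ℕ → H := fun j => γ (g ^ j) u
          have hv : ∀ j, (φ (g : N ⧸ D') ^ j) (Additive.ofMul ((u : H) : H ⧸ K)) =
              Additive.ofMul ((v j : H) : H ⧸ K) := by
            intro j
            rw [hφ, ← map_pow, hΦ]
          set b : H := ∏ j ∈ Finset.range ℓ, v j with hb
          have hb1 : γ g b = b := by
            have h1 : γ g b = ∏ j ∈ Finset.range ℓ, v (j + 1) := by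
              rw [hb, map_prod]
              refine Finset.prod_congr rfl fun j _ => ?_
              show γ g (γ (g ^ j) u) = γ (g ^ (j + 1)) u
              rw [← hγm, pow_succ']
            have h2 : v ℓ = v 0 := by
              show γ (g ^ ℓ) u = γ (g ^ 0) u
              rw [pow_zero, hγ1]
              apply Subtype.ext
              rw [hγ]
              have hc : Commute (u : G) ((g ^ ℓ : N) : G) :=
                comm_reg h hp hz hzz u.2.2 u.2.1 (by simpa using hgl)
              rw [← hc.eq]; group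
            have h3 : ∏ j ∈ Finset.range ℓ, v (j + 1) = ∏ j ∈ Finset.range ℓ, v j := by
              have e1 := Finset.prod_range_succ v ℓ
              have e2 := Finset.prod_range_succ' v ℓ
              rw [e1, h2] at e2
              exact (mul_right_cancel e2).symm
            rw [h1, h3]
          have hbc : Commute (b : G) (g : G) := by
            have h1 : (g : G) * b * (g : G)⁻¹ = b := by
              have := congrArg Subtype.val hb1
              rwa [hγ] at this
            have h2 : (g : G) * b = b * (g : G) := by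
              calc (g : G) * b = ((g : G) * b * (g : G)⁻¹) * (g : G) := by group
                _ = b * (g : G) := by rw [h1]
            exact h2.symm
          have hbZ : (b : G) ∈ center G :=
            central_of_commute h hp hz hzz b.2.2 b.2.1 hg1 hbc
          have hbK : b ∈ K := hbZ
          have hzero : ((b : H) : H ⧸ K) = 1 := (QuotientGroup.eq_one_iff _).2 hbK
          refine congrArg Additive.toMul ?_
          rw [end_sum_apply, Finset.sum_congr rfl (fun j _ => hv j), ← ofMul_prod]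
          have hmk : (∏ j ∈ Finset.range ℓ, ((v j : H) : H ⧸ K)) = ((b : H) : H ⧸ K) := by
            rw [hb]
            exact (map_prod (QuotientGroup.mk' K) v (Finset.range ℓ)).symm
          rw [hmk, hzero]
          rfl
  -- the Sylow subgroup
  have hQN : (Q : Subgroup G) ≤ N := fun t ht => mem_normalizer_of_central (hzQ2 t ht)
  let Q' : Sylow q N := Q.subtype hQN
  let B : Sylow q (N ⧸ D') := Q'.mapSurjective (QuotientGroup.mk'_surjective D')
  have hBcoe : ∀ b ∈ (B : Subgroup (N ⧸ D')), ∃ t : N, (t : G) ∈ (Q : Subgroup G) ∧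
      (t : N ⧸ D') = b := by
    intro b hb
    have hb' : b ∈ ((Q' : Subgroup N)).map (QuotientGroup.mk' D') := hb
    obtain ⟨t, ht, rfl⟩ := hb'
    refine ⟨t, ?_, rfl⟩
    have ht' : t ∈ (Q : Subgroup G).subgroupOf N := by
      have : (Q' : Subgroup N) = (Q : Subgroup G).subgroupOf N := Sylow.coe_subtype Q hQN
      rwa [this] at ht
    exact ht'
  have hB : ∀ a ∈ (B : Subgroup (N ⧸ D')), ∀ b ∈ (B : Subgroup (N ⧸ D')), Commute a b := by
    intro a ha b hb
    obtain ⟨t, ht, rfl⟩ := hBcoe a ha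
    obtain ⟨t', ht', rfl⟩ := hBcoe b hb
    show ((t : N ⧸ D') * (t' : N ⧸ D')) = (t' : N ⧸ D') * (t : N ⧸ D')
    rw [← QuotientGroup.mk_mul, ← QuotientGroup.mk_mul, QuotientGroup.eq]
    have := comm_mod_C (hzQ2 _ ht) (hzQ2 _ ht')
    simpa [D', Subgroup.mem_subgroupOf] using this
  have hQD : ¬ (Q : Subgroup G) ≤ D := by
    intro hle
    apply not_dvd_cs_of_sylow_le Q hle
    rw [h.hm z hz hzz]
    exact hqm
  have hB1 : (B : Subgroup (N ⧸ D')) ≠ ⊥ := by
    intro hbot
    apply hQD
    intro t ht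
    have h1 : ((⟨t, hQN ht⟩ : N) : N ⧸ D') ∈ (B : Subgroup (N ⧸ D')) := by
      show _ ∈ ((Q' : Subgroup N)).map (QuotientGroup.mk' D')
      refine ⟨⟨t, hQN ht⟩, ?_, rfl⟩
      have : (Q' : Subgroup N) = (Q : Subgroup G).subgroupOf N := Sylow.coe_subtype Q hQN
      rw [this]
      exact ht
    rw [hbot, Subgroup.mem_bot] at h1
    have h2 : (⟨t, hQN ht⟩ : N) ∈ D' := (QuotientGroup.eq_one_iff _).1 h1
    exact h2
  have hfix : ∀ b ∈ (B : Subgroup (N ⧸ D')), b ≠ 1 → ∀ u : N ⧸ D', Commute u b →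
      (orderOf u).Coprime q → u = 1 := by
    intro b hb hb1 u huc huo
    obtain ⟨t, ht, rfl⟩ := hBcoe b hb
    induction u using QuotientGroup.induction_on with
    | H g =>
      have htD : (t : G) ∉ D := by
        intro htD
        apply hb1
        exact (QuotientGroup.eq_one_iff _).2 htD
      have hs : (g : G) * t * (g : G)⁻¹ * (t : G)⁻¹ ∈ D := by
        have h1 : ((g * t * g⁻¹ * t⁻¹ : N) : N ⧸ D') = 1 := by
          simp only [QuotientGroup.mk_mul, QuotientGroup.mk_inv]
          have : ((g : N ⧸ D') * (t : N ⧸ D')) = (t : N ⧸ D') * (g : N ⧸ D') := huc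
          rw [this]
          group
        have h2 : (g * t * g⁻¹ * t⁻¹ : N) ∈ D' := (QuotientGroup.eq_one_iff _).1 h1
        simpa [D', Subgroup.mem_subgroupOf] using h2
      have hgn : (g : G) ^ (orderOf (g : N ⧸ D')) ∈ D := by
        have h1 : ((g ^ orderOf (g : N ⧸ D') : N) : N ⧸ D') = 1 := by
          rw [QuotientGroup.mk_pow, pow_orderOf_eq_one]
        have h2 : (g ^ orderOf (g : N ⧸ D') : N) ∈ D' := (QuotientGroup.eq_one_iff _).1 h1
        simpa [D', Subgroup.mem_subgroupOf] using h2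
      have hkey := fix_key h hp hqp' hqp hzp hzz t.2 htD (hzQ2 _ ht) g.2 hs huo hgn
      exact (QuotientGroup.eq_one_iff _).2 hkey
  -- the numerical conditions
  have hc1 : ∀ k : ℕ, ((q ^ k : ℕ) : AddMonoid.End (Additive (H ⧸ K))) ≠ 0 := by
    intro k h0
    obtain ⟨r, y, hr, hrq, hrp, hy, hyz⟩ := h.h3 q hqp'
    haveI : Fact r.Prime := ⟨hr⟩
    obtain ⟨w, hw, hwz, hwc⟩ := partner h hrp hp hz hzz hy hyz
    have hwr := reg_of_PE hr hrp hp hw
    let u : H := ⟨w, mem_C_comm.2 hwc.symm, hwr⟩
    have h1 : ((q ^ k : ℕ) : AddMonoid.End (Additive (H ⧸ K)))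
        (Additive.ofMul ((u : H) : H ⧸ K)) = 0 := by rw [h0]; rfl
    have h2 : ((q ^ k : ℕ) : AddMonoid.End (Additive (H ⧸ K)))
        (Additive.ofMul ((u : H) : H ⧸ K)) = Additive.ofMul (((u ^ q ^ k : H) : H) : H ⧸ K) := by
      rw [AddMonoid.End.natCast_apply, ← ofMul_pow]
      rfl
    rw [h2] at h1
    have h3 : ((u ^ q ^ k : H) : H ⧸ K) = 1 := h1
    have h4 : (u ^ q ^ k : H) ∈ K := (QuotientGroup.eq_one_iff _).1 h3
    have h5 : w ^ q ^ k ∈ center G := by
      have e : ((u ^ q ^ k : H) : G) = w ^ q ^ k := map_pow H.subtype u (q ^ k)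
      rw [← e]
      exact h4
    have hcop : (q ^ k).Coprime (orderOf w) :=
      Nat.Coprime.pow_left k (hw.coprime hr
        (fun hd => hrq ((Nat.prime_dvd_prime_iff_eq hr hqp').1 hd))).symm
    exact hwz ((zpowers_le.2 h5) (mem_zpowers_pow_of_coprime hcop))
  have hc2 : ∀ n : ℕ, n.Coprime q → (n : AddMonoid.End (Additive (H ⧸ K))) ≠ 0 := by
    intro n hn h0
    let u : H := ⟨z, mem_C_self z, hz⟩
    have h1 : (n : AddMonoid.End (Additive (H ⧸ K)))
        (Additive.ofMul ((u : H) : H ⧸ K)) = 0 := by rw [h0]; rfl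
    have h2 : (n : AddMonoid.End (Additive (H ⧸ K)))
        (Additive.ofMul ((u : H) : H ⧸ K)) = Additive.ofMul (((u ^ n : H) : H) : H ⧸ K) := by
      rw [AddMonoid.End.natCast_apply, ← ofMul_pow]
      rfl
    rw [h2] at h1
    have h3 : ((u ^ n : H) : H ⧸ K) = 1 := h1
    have h4 : (u ^ n : H) ∈ K := (QuotientGroup.eq_one_iff _).1 h3
    have h5 : z ^ n ∈ center G := by
      have e : ((u ^ n : H) : G) = z ^ n := map_pow H.subtype u n
      rw [← e]
      exact h4
    obtain ⟨k, hk⟩ := hzp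
    have hcop : n.Coprime (orderOf z) :=
      Nat.Coprime.coprime_dvd_right (orderOf_dvd_of_pow_eq_one hk) (Nat.Coprime.pow_right k hn)
    exact hzz ((zpowers_le.2 h5) (mem_zpowers_pow_of_coprime hcop))
  -- conclusion
  have hX : IsPGroup q (N ⧸ D') := isPGroup_of_norm (E := AddMonoid.End (Additive (H ⧸ K))) φ hNorm B hB hB1 hfix hc1 hc2
  intro g hg
  obtain ⟨k, hk⟩ := hX ((⟨g, hg⟩ : N) : N ⧸ D')
  refine ⟨k, ?_⟩
  have h1 : (((⟨g, hg⟩ : N) ^ q ^ k : N) : N ⧸ D') = 1 := by
    rw [QuotientGroup.mk_pow, hk]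
  have h2 : ((⟨g, hg⟩ : N) ^ q ^ k : N) ∈ D' := (QuotientGroup.eq_one_iff _).1 h1
  simpa [D', Subgroup.mem_subgroupOf] using h2

end Cfsg.Agent.Lib.FGStruct.TwoRegC
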