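/-
Two `p`-regular class sizes with at least two noncentral primes: `m` is a power of `p`.
-/
import Mathlib
import Cfsg.Agent.Lib.FGStruct.TwoRegC
import Cfsg.Agent.Lib.Kazarin.Main
import Cfsg.Agent.Lib.Coprime.Action
import Cfsg.Agent.Lib.Core.CoprimeQuotient

set_option autoImplicit false
set_option linter.style.haveILetI false
set_option linter.unusedSectionVars false

namespace Cfsg.Agent.Lib.FGStruct.TwoRegD

open Subgroup Cfsg.Agent.Lib.FGStruct.NMBasic Cfsg.Agent.Lib.FGStruct.TwoRegA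
open Cfsg.Agent.Lib.FGStruct.TwoRegB Cfsg.Agent.Lib.FGStruct.TwoRegC
open Cfsg.Agent.Lib.Core.Basic
open Cfsg.Agent.Lib.ClassGraph.Basic (cs mem_cen cs_eq_one_iff)

variable {G : Type*} [Group G] [Finite G] {p m : ℕ}

/-- A noncentral element of a Sylow subgroup, central modulo the center. -/
theorem exists_second_center {q : ℕ} [hq : Fact q.Prime] (Q : Sylow q G)
    (hQ : ¬ (Q : Subgroup G) ≤ center G) :
    ∃ z ∈ (Q : Subgroup G), z ∉ center G ∧ ∀ t ∈ (Q : Subgroup G), t * z * t⁻¹ * z⁻¹ ∈ center G := by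
  classical
  let L : Subgroup (Q : Subgroup G) := (center G).subgroupOf (Q : Subgroup G)
  haveI hLn : L.Normal := Subgroup.normal_subgroupOf
  have hS : IsPGroup q ((Q : Subgroup G) ⧸ L) := Q.isPGroup'.to_quotient L
  have hnt : Nontrivial ((Q : Subgroup G) ⧸ L) := by
    obtain ⟨c, hc, hcz⟩ := Set.not_subset.1 hQ
    refine ⟨⟨((⟨c, hc⟩ : (Q : Subgroup G)) : (Q : Subgroup G) ⧸ L), 1, ?_⟩⟩
    intro h
    have h' : (⟨c, hc⟩ : (Q : Subgroup G)) ∈ L := (QuotientGroup.eq_one_iff _).1 h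
    exact hcz h'
  haveI := hS.center_nontrivial
  obtain ⟨c, hc⟩ := exists_ne (1 : center ((Q : Subgroup G) ⧸ L))
  obtain ⟨z, hz⟩ := QuotientGroup.mk_surjective (c : (Q : Subgroup G) ⧸ L)
  refine ⟨z, z.2, ?_, ?_⟩
  · intro hzz
    apply hc
    apply Subtype.ext
    rw [← hz]
    exact (QuotientGroup.eq_one_iff _).2 hzz
  · intro t ht
    have h1 := (mem_center_iff.1 c.2) ((⟨t, ht⟩ : (Q : Subgroup G)) : (Q : Subgroup G) ⧸ L)
    rw [← hz] at h1
    have h2 : (((⟨t, ht⟩ : (Q : Subgroup G)) * z * (⟨t, ht⟩ : (Q : Subgroup G))⁻¹ * z⁻¹ :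
        (Q : Subgroup G)) : (Q : Subgroup G) ⧸ L) = 1 := by
      simp only [QuotientGroup.mk_mul, QuotientGroup.mk_inv]
      rw [h1]
      group
    have h3 := (QuotientGroup.eq_one_iff _).1 h2
    exact h3

/-- `O_p(G / Z) = O_p(G) Z / Z`, element form. -/
theorem exists_split_pCore_center [hp : Fact p.Prime] {x : G}
    (hx : QuotientGroup.mk' (center G) x ∈ pCore p (G ⧸ center G)) :
    ∃ a ∈ pCore p G, ∃ b ∈ center G, x = a * b := by
  classical
  set π : G →* G ⧸ center G := QuotientGroup.mk' (center G) with hπ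
  set O' : Subgroup (G ⧸ center G) := pCore p (G ⧸ center G) with hO'
  haveI : O'.Normal := inferInstance
  set O₁ : Subgroup G := O'.comap π with hO₁
  haveI : O₁.Normal := inferInstance
  have hO'p : IsPGroup p O' := pCore_isPGroup
  -- `O₁` is nilpotent
  let f : O₁ →* O' := (π.comp O₁.subtype).codRestrict O' (fun y => y.2)
  have hker : f.ker ≤ center O₁ := by
    intro y hy
    have h1 : π (y : G) = 1 := by
      exact congrArg Subtype.val ((MonoidHom.mem_ker).1 hy)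
    have h2 : (y : G) ∈ center G := (QuotientGroup.eq_one_iff _).1 h1
    rw [mem_center_iff]
    intro w
    apply Subtype.ext
    exact mem_center_iff.1 h2 w
  haveI : Group.IsNilpotent O' := hO'p.isNilpotent
  haveI hnil : Group.IsNilpotent O₁ := Subgroup.isNilpotent_of_ker_le_center f hker
  let P₁ : Sylow p O₁ := default
  have hP₁n : (P₁ : Subgroup O₁).Normal :=
    Sylow.normal_of_normalizerCondition Group.normalizerCondition_of_isNilpotent P₁
  set P₂ : Subgroup G := (P₁ : Subgroup O₁).map O₁.subtype with hP₂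
  have hP₂p : IsPGroup p P₂ := P₁.isPGroup'.map _
  have hP₂sn : P₂.IsSubnormal := by
    refine Subgroup.IsSubnormal.step P₂ O₁ ?_ (Subgroup.Normal.isSubnormal inferInstance) ?_
    · rintro _ ⟨y, -, rfl⟩
      exact y.2
    · have : P₂.subgroupOf O₁ = (P₁ : Subgroup O₁) := by
        rw [hP₂]
        exact Subgroup.comap_map_eq_self_of_injective O₁.subtype_injective _
      rw [this]
      exact hP₁n
  have hP₂O : P₂ ≤ pCore p G := le_pCore_of_isSubnormal hP₂sn hP₂p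
  obtain ⟨a, b, hab, hcomm, ha, hb, haz, hbz⟩ := split p x
  have hxO : x ∈ O₁ := hx
  have haO : a ∈ O₁ := (zpowers_le.2 hxO) haz
  have hbO : b ∈ O₁ := (zpowers_le.2 hxO) hbz
  have hbZ : b ∈ center G := by
    have h1 : π b ∈ O' := hbO
    have h2 : PE p (π b) := PE.of_mem hO'p h1
    have h3 : (orderOf (π b)).Coprime p :=
      Nat.Coprime.coprime_dvd_left (orderOf_map_dvd π b) hb
    have h4 : π b = 1 := h2.eq_one_of_coprime h3
    exact (QuotientGroup.eq_one_iff _).1 h4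
  have haP : a ∈ pCore p G := by
    have h1 : PE p (⟨a, haO⟩ : O₁) := by
      obtain ⟨k, hk⟩ := ha
      exact ⟨k, Subtype.ext (by simpa using hk)⟩
    have h2 := mem_of_normal_sylow P₁ hP₁n h1
    exact hP₂O ⟨_, h2, rfl⟩
  exact ⟨a, haP, b, hbZ, hab.symm⟩

/-- Lifting commuting elements modulo a normal `p`-subgroup. -/
theorem lift_comm [Fact p.Prime] {O : Subgroup G} [hO : O.Normal] (hOp : IsPGroup p O) {s : ℕ}
    [hs : Fact s.Prime] (hsp : s ≠ p) {a b : G} (ha : PE s a)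
    (hc : Commute (QuotientGroup.mk' O a) (QuotientGroup.mk' O b)) :
    ∃ b₁ : G, QuotientGroup.mk' O b₁ = QuotientGroup.mk' O b ∧ Commute a b₁ := by
  have hcop : (Nat.card O).Coprime s := by
    obtain ⟨n, hn⟩ := hOp.exists_card_eq
    rw [hn]
    exact Nat.Coprime.pow_left n ((Nat.coprime_primes (Fact.out) hs.out).2 hsp.symm)
  obtain ⟨n, hn, c, hcc, e⟩ := Cfsg.Agent.Lib.Core.CoprimeQuotient.exists_mem_centralizer_of_commutator_mem
    (p := s) (P := zpowers a) (N := O) hO ha.isPGroup_zpowers hcop (x := b) (by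
      intro u hu
      obtain ⟨k, rfl⟩ := hu
      have h1 : Commute (QuotientGroup.mk' O (a ^ k)) (QuotientGroup.mk' O b) := by
        rw [map_zpow]
        exact hc.zpow_left k
      have h2 : QuotientGroup.mk' O (b * a ^ k * b⁻¹ * (a ^ k)⁻¹) = 1 := by
        simp only [map_mul, map_inv]
        rw [← h1.eq]
        group
      exact (QuotientGroup.eq_one_iff _).1 h2)
  refine ⟨c, ?_, ?_⟩
  · rw [e]
    have : QuotientGroup.mk' O n = 1 := (QuotientGroup.eq_one_iff _).2 hn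
    rw [map_mul, this, one_mul]
  · have := (Subgroup.mem_centralizer_iff.1 hcc) a (mem_zpowers a)
    exact this

/-- If `C (y w y⁻¹) = C z = C w` then `y` normalizes `C z`. -/
theorem mem_normalizer_of_C_eq {y w z : G} (h1 : C (y * w * y⁻¹) = C z) (h2 : C w = C z) :
    y ∈ normalizer ((C z : Subgroup G) : Set G) := by
  rw [Subgroup.mem_normalizer_iff]
  have e := h1
  rw [C_conj, h2] at e
  intro c
  constructor
  · intro hc
    rw [← e]
    exact ⟨c, hc, rfl⟩
  · intro hc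
    have hc' : y * c * y⁻¹ ∈ C z := hc
    rw [← e] at hc'
    obtain ⟨c', hc', he⟩ := hc'
    have : c' = c := by
      have h2 : y * c' * y⁻¹ = y * c * y⁻¹ := he
      simpa using h2
    rw [← this]
    exact hc'

/-- At most one prime other than `p` divides `m`. -/
theorem no_second_prime (h : Cfg p m G) (hp : p.Prime) {q : ℕ} [hq : Fact q.Prime] (hqp : q ≠ p)
    (hqm : q ∣ m) (Q : Sylow q G) {z : G} (hzQ : z ∈ (Q : Subgroup G)) (hzz : z ∉ center G)
    (hzQ2 : ∀ t ∈ (Q : Subgroup G), t * z * t⁻¹ * z⁻¹ ∈ center G)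
    {r : ℕ} [hr : Fact r.Prime] (hrp : r ≠ p) (hrq : r ≠ q) (hrm : r ∣ m) : False := by
  have hqp' : q.Prime := hq.out
  have hrp' : r.Prime := hr.out
  have hzp : PE q z := PE.of_mem Q.isPGroup' hzQ
  have hz : (orderOf z).Coprime p := reg_of_PE hqp' hqp hp hzp
  have hcsz : cs z = m := h.hm z hz hzz
  have hnotle : ∀ R : Sylow r G, ¬ (R : Subgroup G) ≤ C z := by
    intro R hle
    exact not_dvd_cs_of_sylow_le R hle (hcsz ▸ hrm)
  -- a noncentral `r`-element commuting with `z`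
  let R₀ : Sylow r G := default
  obtain ⟨y₀, hy₀R, hy₀C⟩ := Set.not_subset.1 (hnotle R₀)
  have hy₀z : y₀ ∉ center G := fun hc => hy₀C (mem_C_symm.1 (C_of_center hc))
  have hy₀p : PE r y₀ := PE.of_mem R₀.isPGroup' hy₀R
  obtain ⟨w, hw, hwz, hwc⟩ := partner h hrp hp hz hzz hy₀p hy₀z
  have hwr : (orderOf w).Coprime p := reg_of_PE hrp' hrp hp hw
  have hwD : w ∈ C z := mem_C_comm.2 hwc.symm
  have hCw : C w = C z := C_eq_of_commute h hp hwr hwz hz hzz hwc.symm
  obtain ⟨R, hR⟩ := hw.isPGroup_zpowers.exists_le_sylow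
  have hwR : w ∈ (R : Subgroup G) := hR (mem_zpowers w)
  haveI hnil : Group.IsNilpotent (R : Subgroup G) := R.isPGroup'.isNilpotent
  let L : Subgroup (R : Subgroup G) := (C z).subgroupOf (R : Subgroup G)
  have hLt : L < ⊤ := by
    rw [lt_top_iff_ne_top]
    intro hL
    apply hnotle R
    intro c hc
    have : (⟨c, hc⟩ : (R : Subgroup G)) ∈ L := by rw [hL]; trivial
    exact this
  have hnc := Group.normalizerCondition_of_isNilpotent L hLt
  obtain ⟨y', hy'N, hy'L⟩ := SetLike.exists_of_lt hnc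
  set y : G := (y' : G) with hy
  have hyC : y ∉ C z := hy'L
  have hyp : PE r y := PE.of_mem R.isPGroup' y'.2
  have h1 : y * w * y⁻¹ ∈ C z := by
    have h2 : (⟨w, hwR⟩ : (R : Subgroup G)) ∈ L := hwD
    have h3 := (Subgroup.mem_normalizer_iff.1 hy'N _).1 h2
    exact h3
  have h1z : y * w * y⁻¹ ∉ center G := by
    intro hc
    apply hwz
    have : y⁻¹ * (y * w * y⁻¹) * y⁻¹⁻¹ ∈ center G := (inferInstance : (center G).Normal).conj_mem _ hc _
    have e : y⁻¹ * (y * w * y⁻¹) * y⁻¹⁻¹ = w := by group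
    rwa [e] at this
  have h1r : (orderOf (y * w * y⁻¹)).Coprime p := reg_conj hwr y
  have hC1 : C (y * w * y⁻¹) = C z := C_eq_of_commute h hp h1r h1z hz hzz (mem_C_comm.1 h1)
  have hyN := mem_normalizer_of_C_eq hC1 hCw
  obtain ⟨k, hk⟩ := normalizer_q h hp hqp hqm Q hzQ hzz hzQ2 y hyN
  have hcop : (q ^ k).Coprime (orderOf y) :=
    Nat.Coprime.pow_left k (hyp.coprime hrp'
      (fun hd => hrq ((Nat.prime_dvd_prime_iff_eq hrp' hqp').1 hd))).symm
  exact hyC ((zpowers_le.2 hk) (mem_zpowers_pow_of_coprime hcop))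


section Bar

open Cfsg.Agent.Lib.Kazarin.Main (exists_conj_of_mem)

variable {B : Type*} [Group B] [Finite B]

/-- Generators commute modulo `Zb`: the whole normal closure does. -/
theorem comm_of_comm_conj (Zb : Subgroup B) [Zb.Normal] (x : B)
    (hcom : ∀ g h : B, (g * x * g⁻¹) * (h * x * h⁻¹) * (g * x * g⁻¹)⁻¹ * (h * x * h⁻¹)⁻¹ ∈ Zb)
    {u v : B} (hu : u ∈ normalClosure ({x} : Set B)) (hv : v ∈ normalClosure ({x} : Set B)) :
    u * v * u⁻¹ * v⁻¹ ∈ Zb := by
  classical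
  let κ : B →* B ⧸ Zb := QuotientGroup.mk' Zb
  have hS : ∀ a ∈ κ '' Group.conjugatesOfSet ({x} : Set B),
      ∀ b ∈ κ '' Group.conjugatesOfSet ({x} : Set B), a * b = b * a := by
    rintro _ ⟨a, ha, rfl⟩ _ ⟨b, hb, rfl⟩
    obtain ⟨g, rfl⟩ := exists_conj_of_mem ha
    obtain ⟨h, rfl⟩ := exists_conj_of_mem hb
    have h1 := hcom g h
    have h2 : κ ((g * x * g⁻¹) * (h * x * h⁻¹) * (g * x * g⁻¹)⁻¹ * (h * x * h⁻¹)⁻¹) = 1 :=
      (QuotientGroup.eq_one_iff _).mpr h1
    rw [map_mul, map_mul, map_mul, map_inv, map_inv] at h2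
    have h3 := mul_inv_eq_one.mp h2
    have h4 := mul_inv_eq_iff_eq_mul.mp h3
    exact h4
  have hcomm := Subgroup.isMulCommutative_closure hS
  have hmem : ∀ y ∈ normalClosure ({x} : Set B),
      κ y ∈ Subgroup.closure (κ '' Group.conjugatesOfSet ({x} : Set B)) := by
    intro y hy
    have h1 : y ∈ Subgroup.closure (Group.conjugatesOfSet ({x} : Set B)) := hy
    have h2 : κ y ∈ (Subgroup.closure (Group.conjugatesOfSet ({x} : Set B))).map κ :=
      ⟨y, h1, rfl⟩
    rw [MonoidHom.map_closure] at h2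
    exact h2
  have h5 := hcomm.is_comm.comm ⟨κ u, hmem u hu⟩ ⟨κ v, hmem v hv⟩
  have h6 : κ u * κ v = κ v * κ u := congrArg Subtype.val h5
  have h7 : κ (u * v * u⁻¹ * v⁻¹) = 1 := by
    simp only [map_mul, map_inv]
    rw [h6]
    group
  exact (QuotientGroup.eq_one_iff _).mp h7

/-- The normal closure is a `q`-group. -/
theorem isPGroup_normalClosure (Zb : Subgroup B) [Zb.Normal] (hZb : Zb ≤ center B) {x : B} {q : ℕ}
    [hq : Fact q.Prime] (hx : PE q x)
    (hcom : ∀ g h : B, (g * x * g⁻¹) * (h * x * h⁻¹) * (g * x * g⁻¹)⁻¹ * (h * x * h⁻¹)⁻¹ ∈ Zb) :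
    IsPGroup q (normalClosure ({x} : Set B)) := by
  classical
  set A : Subgroup B := normalClosure ({x} : Set B) with hA
  let κ : B →* B ⧸ Zb := QuotientGroup.mk' Zb
  let f : A →* B ⧸ Zb := κ.comp A.subtype
  have hker : f.rangeRestrict.ker ≤ center A := by
    intro y hy
    have h1 : f y = 1 := by
      have := (MonoidHom.mem_ker).1 hy
      exact congrArg Subtype.val this
    have h2 : (y : B) ∈ Zb := (QuotientGroup.eq_one_iff _).mp h1
    rw [mem_center_iff]
    intro w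
    apply Subtype.ext
    exact mem_center_iff.1 (hZb h2) w
  have hrange : ∀ a b : f.range, a * b = b * a := by
    rintro ⟨_, ⟨a, rfl⟩⟩ ⟨_, ⟨b, rfl⟩⟩
    apply Subtype.ext
    have h1 := comm_of_comm_conj Zb x hcom a.2 b.2
    have h2 : κ ((a : B) * b * (a : B)⁻¹ * (b : B)⁻¹) = 1 := (QuotientGroup.eq_one_iff _).mpr h1
    rw [map_mul, map_mul, map_mul, map_inv, map_inv] at h2
    have h3 := mul_inv_eq_one.mp h2
    have h4 := mul_inv_eq_iff_eq_mul.mp h3
    exact h4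
  letI : CommGroup f.range := { (inferInstance : Group f.range) with mul_comm := hrange }
  haveI : Group.IsNilpotent f.range := CommGroup.isNilpotent
  haveI hnil : Group.IsNilpotent A := Subgroup.isNilpotent_of_ker_le_center f.rangeRestrict hker
  let S : Sylow q A := default
  have hSn : (S : Subgroup A).Normal :=
    Sylow.normal_of_normalizerCondition Group.normalizerCondition_of_isNilpotent S
  have hle : A ≤ (S : Subgroup A).map A.subtype := by
    refine (Subgroup.closure_le _).2 ?_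
    intro y hy
    have hyA : y ∈ A := Subgroup.subset_closure hy
    obtain ⟨c, rfl⟩ := exists_conj_of_mem hy
    have hPE : PE q (⟨c * x * c⁻¹, hyA⟩ : A) := by
      obtain ⟨k, hk⟩ := hx.conj c
      exact ⟨k, Subtype.ext (by simpa using hk)⟩
    exact ⟨_, mem_of_normal_sylow S hSn hPE, rfl⟩
  have hSp : IsPGroup q ((S : Subgroup A).map A.subtype) := S.isPGroup'.map _
  exact isPGroup_of_PE (fun g hg => PE.of_mem hSp (hle hg))

theorem commute_comm_of_central (Zb : Subgroup B) (hZb : Zb ≤ center B) {x a k : B}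
    (ha : Commute a x) (hk : x * k * x⁻¹ * k⁻¹ ∈ Zb) :
    Commute x (a * k * a⁻¹ * k⁻¹) := by
  set e := x * k * x⁻¹ * k⁻¹ with he
  have hec : ∀ g, e * g = g * e := fun g => (mem_center_iff.1 (hZb hk) g).symm
  have e1 : x * k * x⁻¹ = e * k := by rw [he]; group
  have e2 : x * k⁻¹ * x⁻¹ = k⁻¹ * e⁻¹ := by
    have : x * k⁻¹ * x⁻¹ = (x * k * x⁻¹)⁻¹ := by group
    rw [this, e1]
    group
  have e3 : x * a * x⁻¹ = a := by rw [← ha.eq]; group
  have e4 : x * a⁻¹ * x⁻¹ = a⁻¹ := by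
    have : x * a⁻¹ * x⁻¹ = (x * a * x⁻¹)⁻¹ := by group
    rw [this, e3]
  have hmain : x * (a * k * a⁻¹ * k⁻¹) * x⁻¹ = a * k * a⁻¹ * k⁻¹ := by
    calc x * (a * k * a⁻¹ * k⁻¹) * x⁻¹
        = (x * a * x⁻¹) * (x * k * x⁻¹) * (x * a⁻¹ * x⁻¹) * (x * k⁻¹ * x⁻¹) := by group
      _ = a * (e * k) * a⁻¹ * (k⁻¹ * e⁻¹) := by rw [e1, e2, e3, e4]
      _ = a * k * a⁻¹ * k⁻¹ * (e * e⁻¹) := by
          have : a * (e * k) * a⁻¹ = a * k * a⁻¹ * e := by
            calc a * (e * k) * a⁻¹ = (a * e) * (k * a⁻¹) := by group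
              _ = (e * a) * (k * a⁻¹) := by rw [hec a]
              _ = e * (a * k * a⁻¹) := by group
              _ = a * k * a⁻¹ * e := hec _
          rw [this]
          have h2 : e * k⁻¹ = k⁻¹ * e := hec _
          calc a * k * a⁻¹ * e * (k⁻¹ * e⁻¹) = a * k * a⁻¹ * (e * k⁻¹) * e⁻¹ := by group
            _ = a * k * a⁻¹ * (k⁻¹ * e) * e⁻¹ := by rw [h2]
            _ = a * k * a⁻¹ * k⁻¹ * (e * e⁻¹) := by group
      _ = a * k * a⁻¹ * k⁻¹ := by group
  have := congrArg (· * x) hmain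
  simpa [Commute, SemiconjBy] using this

theorem conj_commute_of_central (Zb : Subgroup B) (hZb : Zb ≤ center B) {x a c : B}
    (ha : x * a * x⁻¹ * a⁻¹ ∈ Zb) (hc : Commute x c) :
    Commute x (a * c * a⁻¹) := by
  set e := x * a * x⁻¹ * a⁻¹ with he
  have hec : ∀ g, e * g = g * e := fun g => (mem_center_iff.1 (hZb ha) g).symm
  have e1 : x * a * x⁻¹ = e * a := by rw [he]; group
  have e2 : x * a⁻¹ * x⁻¹ = a⁻¹ * e⁻¹ := by
    have : x * a⁻¹ * x⁻¹ = (x * a * x⁻¹)⁻¹ := by group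
    rw [this, e1]
    group
  have e3 : x * c * x⁻¹ = c := by rw [hc.eq]; group
  have hmain : x * (a * c * a⁻¹) * x⁻¹ = a * c * a⁻¹ := by
    calc x * (a * c * a⁻¹) * x⁻¹
        = (x * a * x⁻¹) * (x * c * x⁻¹) * (x * a⁻¹ * x⁻¹) := by group
      _ = (e * a) * c * (a⁻¹ * e⁻¹) := by rw [e1, e2, e3]
      _ = e * (a * c * a⁻¹) * e⁻¹ := by group
      _ = a * c * a⁻¹ := by rw [hec]; group
  have := congrArg (· * x) hmain
  simpa [Commute, SemiconjBy] using this

/-- `x` is central in its normal closure when a coprime element centralizing exactly what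
`x` does (from the point of view of lifts) is available. -/
theorem central_in_closure (Zb : Subgroup B) [Zb.Normal] (hZb : Zb ≤ center B) {x y : B} {q s : ℕ}
    [hq : Fact q.Prime] [hs : Fact s.Prime] (hsq : s ≠ q) (hx : PE q x) (hy : PE s y)
    (hcom : ∀ g h : B, (g * x * g⁻¹) * (h * x * h⁻¹) * (g * x * g⁻¹)⁻¹ * (h * x * h⁻¹)⁻¹ ∈ Zb)
    (hxy : Commute y x) (hlift : ∀ c, Commute y c → Commute x c) {k : B}
    (hk : k ∈ normalClosure ({x} : Set B)) : Commute x k := by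
  classical
  set A : Subgroup B := normalClosure ({x} : Set B) with hA
  haveI hAn : A.Normal := Subgroup.normalClosure_normal
  have hxA : x ∈ A := Subgroup.subset_normalClosure (Set.mem_singleton x)
  have hAp : IsPGroup q A := isPGroup_normalClosure Zb hZb hx hcom
  have hcm : ∀ a ∈ A, x * a * x⁻¹ * a⁻¹ ∈ Zb := fun a ha => comm_of_comm_conj Zb x hcom hxA ha
  set N : Subgroup B := A ⊓ C x with hN
  have hCx : ∀ {c : B}, Commute x c ↔ c ∈ C x := by
    intro c
    constructor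
    · intro h; exact mem_C_comm.2 h.symm
    · intro h; exact (mem_C_comm.1 h).symm
  have hAK : zpowers y ≤ normalizer (A : Set B) := by
    intro a _
    rw [Subgroup.mem_normalizer_iff]
    intro c
    constructor
    · intro hc; exact hAn.conj_mem _ hc _
    · intro hc
      have := hAn.conj_mem _ hc a⁻¹
      have e : a⁻¹ * (a * c * a⁻¹) * a⁻¹⁻¹ = c := by group
      rwa [e] at this
  have hcop : (Nat.card (zpowers y)).Coprime (Nat.card A) :=
    IsPGroup.coprime_card_of_ne s q hsq _ _ hy.isPGroup_zpowers hAp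
  have hsolv : Group.IsSolvable (zpowers y) ∨ Group.IsSolvable A := by
    left
    haveI := hy.isPGroup_zpowers.isNilpotent
    infer_instance
  have hKN : A ≤ normalizer (N : Set B) := by
    have key : ∀ a ∈ A, ∀ c ∈ N, a * c * a⁻¹ ∈ N := by
      intro a ha c hc
      refine ⟨?_, ?_⟩
      · exact A.mul_mem (A.mul_mem ha hc.1) (A.inv_mem ha)
      · exact hCx.1 (conj_commute_of_central Zb hZb (hcm a ha) (hCx.2 hc.2))
    intro a ha
    rw [Subgroup.mem_normalizer_iff]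
    intro c
    constructor
    · exact key a ha c
    · intro hc
      have := key a⁻¹ (A.inv_mem ha) _ hc
      have e : a⁻¹ * (a * c * a⁻¹) * a⁻¹⁻¹ = c := by group
      rwa [e] at this
  have hAN : zpowers y ≤ normalizer (N : Set B) := by
    have key : ∀ a ∈ zpowers y, ∀ c ∈ N, a * c * a⁻¹ ∈ N := by
      intro a ha c hc
      have hax : Commute a x := by
        obtain ⟨e, rfl⟩ := ha
        exact hxy.zpow_left e
      refine ⟨hAn.conj_mem _ hc.1 _, ?_⟩
      have hcx : Commute x c := hCx.2 hc.2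
      apply hCx.1
      exact (hax.symm.mul_right hcx).mul_right hax.symm.inv_right
    intro a ha
    rw [Subgroup.mem_normalizer_iff]
    intro c
    constructor
    · exact key a ha c
    · intro hc
      have := key a⁻¹ ((zpowers y).inv_mem ha) _ hc
      have e : a⁻¹ * (a * c * a⁻¹) * a⁻¹⁻¹ = c := by group
      rwa [e] at this
  have hfix : ∀ a ∈ zpowers y, a * k * a⁻¹ * k⁻¹ ∈ N := by
    intro a ha
    have hax : Commute a x := by
      obtain ⟨e, rfl⟩ := ha
      exact hxy.zpow_left e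
    refine ⟨A.mul_mem (hAn.conj_mem _ hk _) (A.inv_mem hk), ?_⟩
    exact hCx.1 (commute_comm_of_central Zb hZb hax (hcm k hk))
  obtain ⟨c, hc, hkc⟩ := Cfsg.Agent.Lib.Coprime.Action.exists_fixed_of_fixed_mod (K := A)
    (A := zpowers y) N hAK hcop hsolv inf_le_left hKN hAN hk hfix
  have hcy : Commute y c := by
    have := (Subgroup.mem_centralizer_iff.1 hc.2) y (mem_zpowers y)
    exact this
  have h1 : Commute x c := hlift c hcy
  have h2 : Commute x (k⁻¹ * c) := hCx.2 hkc.2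
  have h3 : k = c * (k⁻¹ * c)⁻¹ := by group
  rw [h3]
  exact h1.mul_right h2.inv_right

end Bar

/-- Kazarin modulo the center. -/
theorem exists_comm_split (h : Cfg p m G) (hp : p.Prime) {q : ℕ} [hq : Fact q.Prime] (hqp : q ≠ p)
    (hr : ∀ r : ℕ, r.Prime → r ≠ p → r ≠ q → ¬ r ∣ m) (Q : Sylow q G) {z : G}
    (hzQ : z ∈ (Q : Subgroup G)) (hzz : z ∉ center G)
    (hzQ2 : ∀ t ∈ (Q : Subgroup G), t * z * t⁻¹ * z⁻¹ ∈ center G) (g g' : G) :
    ∃ a ∈ pCore p G, ∃ b ∈ center G,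
      (g * z * g⁻¹) * (g' * z * g'⁻¹) * (g * z * g⁻¹)⁻¹ * (g' * z * g'⁻¹)⁻¹ = a * b := by
  classical
  haveI hpf : Fact p.Prime := ⟨hp⟩
  have hzp : PE q z := PE.of_mem Q.isPGroup' hzQ
  have hz : (orderOf z).Coprime p := reg_of_PE hq.out hqp hp hzp
  have hcsz : cs z = m := h.hm z hz hzz
  let π : G →* G ⧸ center G := QuotientGroup.mk' (center G)
  have hπ : Function.Surjective π := QuotientGroup.mk'_surjective _
  have h1 : (centralizer ({π z} : Set (G ⧸ center G))).index ∣ m := by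
    rw [← hcsz]
    exact Cfsg.Agent.Lib.ClassPow.index_centralizer_map_dvd π hπ z
  have h0 : (centralizer ({π z} : Set (G ⧸ center G))).index ≠ 0 := Subgroup.index_ne_zero_of_finite
  have hq1 : ¬ q ∣ (centralizer ({π z} : Set (G ⧸ center G))).index := by
    have hle : ((Q.mapSurjective hπ : Sylow q (G ⧸ center G)) : Subgroup (G ⧸ center G)) ≤
        C (π z) := by
      rintro _ ⟨t, ht, rfl⟩
      rw [mem_C]
      have h2 : π (t * z * t⁻¹ * z⁻¹) = 1 := (QuotientGroup.eq_one_iff _).2 (hzQ2 t ht)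
      simp only [map_mul, map_inv] at h2
      have h3 := mul_inv_eq_one.mp h2
      exact mul_inv_eq_iff_eq_mul.mp h3
    exact not_dvd_cs_of_sylow_le _ hle
  have hpw : ∃ a : ℕ, (centralizer ({π z} : Set (G ⧸ center G))).index = p ^ a := by
    refine ⟨_, Nat.eq_prime_pow_of_unique_prime_dvd h0 ?_⟩
    intro d hd hdd
    by_contra hdp
    have hdq : d ≠ q := by
      rintro rfl
      exact hq1 hdd
    exact hr d hd hdp hdq (hdd.trans h1)
  have h2 := Cfsg.Agent.Lib.Kazarin.Main.commutator_mem_pCore (p := p) (π z) hpw (π g) (π g')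
  apply exists_split_pCore_center
  have e : QuotientGroup.mk' (center G)
      ((g * z * g⁻¹) * (g' * z * g'⁻¹) * (g * z * g⁻¹)⁻¹ * (g' * z * g'⁻¹)⁻¹) =
      (π g * π z * (π g)⁻¹) * (π g' * π z * (π g')⁻¹) * (π g * π z * (π g)⁻¹)⁻¹ *
        (π g' * π z * (π g')⁻¹)⁻¹ := by
    simp only [map_mul, map_inv]
    rfl
  rw [e]
  exact h2

/-- Commuting modulo a normal `p`-subgroup inside a Sylow `q`-subgroup. -/
theorem commute_of_image {O : Subgroup G} [hO : O.Normal] (hOp : IsPGroup p O) (hp : p.Prime)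
    {q : ℕ} [hq : Fact q.Prime] (hqp : q ≠ p) (Q : Sylow q G) {t z : G}
    (ht : t ∈ (Q : Subgroup G)) (hz : z ∈ (Q : Subgroup G))
    (hc : Commute (QuotientGroup.mk' O t) (QuotientGroup.mk' O z)) : Commute t z := by
  have h1 : QuotientGroup.mk' O (t * z * t⁻¹ * z⁻¹) = 1 := by
    simp only [map_mul, map_inv]
    rw [hc.eq]
    group
  have h2 : t * z * t⁻¹ * z⁻¹ ∈ O := (QuotientGroup.eq_one_iff _).1 h1
  have h3 : t * z * t⁻¹ * z⁻¹ ∈ (Q : Subgroup G) :=
    (Q : Subgroup G).mul_mem ((Q : Subgroup G).mul_mem ((Q : Subgroup G).mul_mem ht hz)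
      ((Q : Subgroup G).inv_mem ht)) ((Q : Subgroup G).inv_mem hz)
  have h4 : t * z * t⁻¹ * z⁻¹ = 1 :=
    PE.eq_one_of_ne hq.out hp hqp (PE.of_mem Q.isPGroup' h3) (PE.of_mem hOp h2)
  have h5 := mul_inv_eq_one.mp h4
  exact mul_inv_eq_iff_eq_mul.mp h5

/-- Only `p` and `q` may divide `m`, but there is a noncentral element of a third prime power
order: impossible. -/
theorem no_q (h : Cfg p m G) (hp : p.Prime) {q : ℕ} [hq : Fact q.Prime] (hqp : q ≠ p)
    (hqm : q ∣ m) (hr : ∀ r : ℕ, r.Prime → r ≠ p → r ≠ q → ¬ r ∣ m) : False := by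
  classical
  haveI hpf : Fact p.Prime := ⟨hp⟩
  let Q : Sylow q G := default
  obtain ⟨t₀, y₀, ht₀, ht₀q, ht₀p, hy₀, hy₀z⟩ := h.h3 q hq.out
  haveI ht₀f : Fact t₀.Prime := ⟨ht₀⟩
  have hQnc : ¬ (Q : Subgroup G) ≤ center G := by
    intro hle
    have hle' : (Q : Subgroup G) ≤ C y₀ := fun c hc => mem_C_symm.1 (C_of_center (hle hc))
    exact not_dvd_cs_of_sylow_le Q hle' ((h.hm y₀ (reg_of_PE ht₀ ht₀p hp hy₀) hy₀z) ▸ hqm)
  obtain ⟨z, hzQ, hzz, hzQ2⟩ := exists_second_center Q hQnc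
  have hzq : PE q z := PE.of_mem Q.isPGroup' hzQ
  have hzr : (orderOf z).Coprime p := reg_of_PE hq.out hqp hp hzq
  obtain ⟨w, hw, hwz, hwc⟩ := partner h ht₀p hp hzr hzz hy₀ hy₀z
  have hwr : (orderOf w).Coprime p := reg_of_PE ht₀ ht₀p hp hw
  have hCw : C w = C z := C_eq_of_commute h hp hwr hwz hzr hzz hwc.symm
  have ht₀m : ¬ t₀ ∣ m := hr t₀ ht₀ ht₀p ht₀q
  have hcsz : cs z = m := h.hm z hzr hzz
  -- the quotient
  set O : Subgroup G := pCore p G with hO
  haveI hOn : O.Normal := inferInstance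
  have hOp : IsPGroup p O := pCore_isPGroup
  let ψ : G →* G ⧸ O := QuotientGroup.mk' O
  have hψ : Function.Surjective ψ := QuotientGroup.mk'_surjective _
  set Zb : Subgroup (G ⧸ O) := (center G).map ψ with hZbdef
  haveI hZbn : Zb.Normal := Subgroup.Normal.map inferInstance ψ hψ
  have hZb : Zb ≤ center (G ⧸ O) := by
    rintro _ ⟨c, hc, rfl⟩
    rw [mem_center_iff]
    intro g
    obtain ⟨g', rfl⟩ := hψ g
    rw [← map_mul, ← map_mul, (mem_center_iff.1 hc g')]
  have hcom : ∀ g g' : G ⧸ O, (g * ψ z * g⁻¹) * (g' * ψ z * g'⁻¹) * (g * ψ z * g⁻¹)⁻¹ *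
      (g' * ψ z * g'⁻¹)⁻¹ ∈ Zb := by
    intro g g'
    obtain ⟨g, rfl⟩ := hψ g
    obtain ⟨g', rfl⟩ := hψ g'
    obtain ⟨a, ha, b, hb, e⟩ := exists_comm_split h hp hqp hr Q hzQ hzz hzQ2 g g'
    refine ⟨b, hb, ?_⟩
    have e2 : ψ a = 1 := (QuotientGroup.eq_one_iff _).2 ha
    have e3 := congrArg ψ e
    rw [map_mul ψ a b, e2, one_mul] at e3
    rw [← e3]
    simp only [map_mul, map_inv]
  have hψzq : PE q (ψ z) := by
    obtain ⟨k, hk⟩ := hzq
    exact ⟨k, by rw [← map_pow, hk, map_one]⟩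
  have hψwt : PE t₀ (ψ w) := by
    obtain ⟨k, hk⟩ := hw
    exact ⟨k, by rw [← map_pow, hk, map_one]⟩
  have hψc : Commute (ψ w) (ψ z) := by
    have := hwc.symm.map ψ
    exact this
  have hlift : ∀ c, Commute (ψ w) c → Commute (ψ z) c := by
    intro c hc
    obtain ⟨c₀, rfl⟩ := hψ c
    obtain ⟨b₁, hb₁, hcw⟩ := lift_comm (O := O) hOp ht₀p hw hc
    have h1 : b₁ ∈ C w := mem_C_comm.2 hcw.symm
    rw [hCw] at h1
    have h2 : Commute z b₁ := (mem_C_comm.1 h1).symm
    have h3 : Commute (ψ z) (ψ b₁) := h2.map ψ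
    have h4 : ψ b₁ = ψ c₀ := hb₁
    rwa [h4] at h3
  have hF3 : ∀ u ∈ normalClosure ({ψ z} : Set (G ⧸ O)), Commute (ψ z) u := fun u hu =>
    central_in_closure Zb hZb ht₀q hψzq hψwt hcom hψc hlift hu
  -- an element of `Q` not commuting with `z`
  have hQC : ¬ (Q : Subgroup G) ≤ C z := fun hle =>
    not_dvd_cs_of_sylow_le Q hle (hcsz ▸ hqm)
  obtain ⟨t, htQ', htC'⟩ := Set.not_subset.1 hQC
  have htQ : t ∈ (Q : Subgroup G) := htQ'
  have htC : t ∉ C z := htC'
  have htq : PE q t := PE.of_mem Q.isPGroup' htQ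
  have htr : (orderOf t).Coprime p := reg_of_PE hq.out hqp hp htq
  have htz : t ∉ center G := fun hc => htC (mem_C_symm.1 (C_of_center hc))
  -- `ψ z` is not central
  have hψzc : ψ z ∉ center (G ⧸ O) := by
    intro hc
    apply htC
    rw [mem_C_comm]
    have h1 : Commute (ψ t) (ψ z) := (mem_center_iff.1 hc (ψ t))
    exact commute_of_image hOp hp hqp Q htQ hzQ h1
  -- regular elements of `C z`
  set H : Subgroup G := HH h hp hzr hzz with hH
  set Hb : Subgroup (G ⧸ O) := H.map ψ with hHb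
  have hHbn : Hb.Normal := by
    constructor
    rintro _ ⟨u, hu, rfl⟩ g
    obtain ⟨g₀, rfl⟩ := hψ g
    set z₂ : G := g₀ * z * g₀⁻¹ with hz₂
    have hz₂A : ψ z₂ ∈ normalClosure ({ψ z} : Set (G ⧸ O)) := by
      have h1 : ψ z ∈ normalClosure ({ψ z} : Set (G ⧸ O)) :=
        Subgroup.subset_normalClosure (Set.mem_singleton _)
      have h2 := (Subgroup.normalClosure_normal (s := ({ψ z} : Set (G ⧸ O)))).conj_mem _ h1 (ψ g₀)
      rw [hz₂]
      simpa only [map_mul, map_inv] using h2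
    have hcz₂ : Commute (ψ z) (ψ z₂) := hF3 _ hz₂A
    have hz₂q : PE q (ψ z₂) := by
      obtain ⟨k, hk⟩ := hzq.conj g₀
      exact ⟨k, by rw [← map_pow, hk, map_one]⟩
    obtain ⟨z₁', hz₁'e, hz₁'c⟩ := lift_comm (O := O) hOp hqp hzq hcz₂
    have hz₁'e' : ψ z₁' = ψ z₂ := hz₁'e
    obtain ⟨a, b, hab, habc, haq, hbq, haz, hbz⟩ := split q z₁'
    have hψb : ψ b = 1 := by
      have h1 : ψ b ∈ zpowers (ψ z₁') := by
        obtain ⟨e, rfl⟩ := hbz
        exact ⟨e, by simp⟩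
      rw [hz₁'e'] at h1
      have h2 : PE q (ψ b) := hz₂q.of_mem_zpowers h1
      have h3 : (orderOf (ψ b)).Coprime q :=
        Nat.Coprime.coprime_dvd_left (orderOf_map_dvd ψ b) hbq
      exact h2.eq_one_of_coprime h3
    have hψa : ψ a = ψ z₂ := by
      rw [← hz₁'e', ← hab, map_mul, hψb, mul_one]
    have haCz : a ∈ C z := mem_C_of_mem_zpowers (mem_C_comm.2 hz₁'c.symm) haz
    have har : (orderOf a).Coprime p := reg_of_PE hq.out hqp hp haq
    have haz' : a ∉ center G := by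
      intro hc
      have h1 : ψ z₂ ∈ center (G ⧸ O) := by
        rw [← hψa]
        exact hZb ⟨a, hc, rfl⟩
      apply hψzc
      have h2 := (inferInstance : (center (G ⧸ O)).Normal).conj_mem _ h1 (ψ g₀)⁻¹
      have e : (ψ g₀)⁻¹ * ψ z₂ * (ψ g₀)⁻¹⁻¹ = ψ z := by
        rw [hz₂]
        simp only [map_mul, map_inv]
        group
      rwa [e] at h2
    have hCa : C a = C z := C_eq_of_commute h hp har haz' hzr hzz (mem_C_comm.1 haCz)
    have hcu : Commute (ψ a) (ψ (g₀ * u * g₀⁻¹)) := by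
      rw [hψa]
      have h1 : Commute z u := (mem_C_comm.1 hu.1).symm
      have h2 : Commute (g₀ * z * g₀⁻¹) (g₀ * u * g₀⁻¹) := by
        have : g₀ * (z * u) * g₀⁻¹ = g₀ * (u * z) * g₀⁻¹ := by rw [h1.eq]
        show g₀ * z * g₀⁻¹ * (g₀ * u * g₀⁻¹) = g₀ * u * g₀⁻¹ * (g₀ * z * g₀⁻¹)
        calc g₀ * z * g₀⁻¹ * (g₀ * u * g₀⁻¹) = g₀ * (z * u) * g₀⁻¹ := by group
          _ = g₀ * (u * z) * g₀⁻¹ := this
          _ = g₀ * u * g₀⁻¹ * (g₀ * z * g₀⁻¹) := by group
      exact h2.map ψ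
    obtain ⟨u₁, hu₁e, hu₁c⟩ := lift_comm (O := O) hOp hqp haq hcu
    have hu₁e' : ψ u₁ = ψ (g₀ * u * g₀⁻¹) := hu₁e
    have hu₁C : u₁ ∈ C z := by
      rw [← hCa]
      exact mem_C_comm.2 hu₁c.symm
    obtain ⟨a', b', hab', -, ha'p, hb'p, ha'z, hb'z⟩ := split p u₁
    have hψa' : ψ a' = 1 := by
      have h1 : ψ a' ∈ zpowers (ψ u₁) := by
        obtain ⟨e, rfl⟩ := ha'z
        exact ⟨e, by simp⟩
      rw [hu₁e'] at h1
      have h2 : (orderOf (ψ (g₀ * u * g₀⁻¹))).Coprime p :=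
        Nat.Coprime.coprime_dvd_left (orderOf_map_dvd ψ _) (reg_conj hu.2 g₀)
      have h3 : (orderOf (ψ a')).Coprime p := reg_of_mem_zpowers h2 h1
      have h4 : PE p (ψ a') := by
        obtain ⟨k, hk⟩ := ha'p
        exact ⟨k, by rw [← map_pow, hk, map_one]⟩
      exact h4.eq_one_of_coprime h3
    have hψb' : ψ b' = ψ (g₀ * u * g₀⁻¹) := by
      rw [← hu₁e', ← hab', map_mul, hψa', one_mul]
    refine ⟨b', ?_, ?_⟩
    · exact ⟨mem_C_of_mem_zpowers hu₁C hb'z, hb'p⟩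
    · rw [hψb']
      simp only [map_mul, map_inv]
  -- `Hb` is commutative
  have hHbc : ∀ a ∈ Hb, ∀ b ∈ Hb, Commute a b := by
    rintro _ ⟨a, ha, rfl⟩ _ ⟨b, hb, rfl⟩
    exact (comm_reg h hp hzr hzz ha.2 ha.1 hb.1).map ψ
  have hwH : ψ w ∈ Hb := ⟨w, ⟨mem_C_comm.2 hwc.symm, hwr⟩, rfl⟩
  set C' : Subgroup (G ⧸ O) := C (ψ t) with hC'
  have hn1 : C'.relIndex Hb ∣ m := by
    have h1 : C'.relIndex Hb ∣ C'.index :=
      Cfsg.Agent.Lib.ClassPow.relIndex_dvd_index_of_normal_right (N := Hb) C'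
    have h2 : C'.index ∣ cs t := Cfsg.Agent.Lib.ClassPow.index_centralizer_map_dvd ψ hψ t
    rw [h.hm t htr htz] at h2
    exact h1.trans h2
  have ht₀n : ¬ t₀ ∣ C'.relIndex Hb := fun hd => ht₀m (hd.trans hn1)
  haveI hnrm : (C'.subgroupOf Hb).Normal := by
    constructor
    intro n hn g
    have : g * n * g⁻¹ = n := by
      apply Subtype.ext
      have := (hHbc _ g.2 _ n.2).eq
      simp only [Subgroup.coe_mul, Subgroup.coe_inv]
      rw [this]
      group
    rw [this]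
    exact hn
  have hpow := Subgroup.pow_index_mem (C'.subgroupOf Hb) (⟨ψ w, hwH⟩ : Hb)
  have hpow2 : (ψ w) ^ (C'.relIndex Hb) ∈ C' := by
    have := Subgroup.mem_subgroupOf.1 hpow
    have h2 : ψ w ^ (C'.subgroupOf Hb).index ∈ C' := by simpa using this
    exact h2
  have hwC' : ψ w ∈ C' := by
    have hcop : (C'.relIndex Hb).Coprime (orderOf (ψ w)) :=
      (hψwt.coprime ht₀ ht₀n).symm
    exact (zpowers_le.2 hpow2) (mem_zpowers_pow_of_coprime hcop)
  have hcwt : Commute (ψ w) (ψ t) := mem_C_comm.1 hwC'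
  obtain ⟨t₁, ht₁e, ht₁c⟩ := lift_comm (O := O) hOp ht₀p hw hcwt
  have ht₁e' : ψ t₁ = ψ t := ht₁e
  have ht₁C : t₁ ∈ C z := by
    rw [← hCw]
    exact mem_C_comm.2 ht₁c.symm
  have hfin : Commute (ψ t) (ψ z) := by
    rw [← ht₁e']
    exact (mem_C_comm.1 ht₁C).map ψ
  apply htC
  rw [mem_C_comm]
  exact commute_of_image hOp hp hqp Q htQ hzQ hfin

end Cfsg.Agent.Lib.FGStruct.TwoRegD
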