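import Mathlib
import Cfsg.Agent.Lib.PGroups.Basic
import Cfsg.Agent.Lib.Subnormal.Basic
import Cfsg.Agent.Lib.Core.Basic

/-!
# The subnormalizer of a `p`-subgroup

`SNS p V` is the set of `g` normalizing some `p`-subgroup containing `V`; by `mem_SNS_iff` below it
is the subnormalizer of `V`. Counting formula (Casolo): `|S(V) ∩ M| * n(M) = σ(M, V) * |M|`, where
`n(M)` counts the maximal `p`-subgroups of `M` and `σ(M, V)` those containing `V`.
-/

set_option autoImplicit false
set_option linter.unusedSectionVars false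
set_option linter.style.haveILetI false

namespace Cfsg.Agent.Lib.FGStruct.Subnorm

open Subgroup

section Mobius

/-- The Möbius function of a finite poset, as a function with the defining sum property. -/
theorem exists_mobius {α : Type*} [PartialOrder α] [Finite α] [DecidableEq α]
    [DecidableRel (α := α) (· ≤ ·)] [DecidableRel (α := α) (· < ·)] (L : Finset α) (b : α) :
    ∃ μ : α → ℤ, ∀ x ∈ L, ∑ y ∈ L.filter (· ≤ x), μ y = if x = b then 1 else 0 := by
  haveI : WellFoundedLT α := Finite.to_wellFoundedLT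
  let μ : α → ℤ := (wellFounded_lt (α := α)).fix (fun x rec =>
    (if x = b then 1 else 0) - ∑ y ∈ (L.filter (· < x)).attach,
      rec y.1 (Finset.mem_filter.1 y.2).2)
  have hμ : ∀ x, μ x = (if x = b then 1 else 0) - ∑ y ∈ L.filter (· < x), μ y := by
    intro x
    have h1 : μ x = _ := WellFounded.fix_eq _ _ x
    rw [h1]
    congr 1
    exact Finset.sum_attach (L.filter (· < x)) μ
  refine ⟨μ, fun x hx => ?_⟩
  have h2 : L.filter (· ≤ x) = insert x (L.filter (· < x)) := by
    ext y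
    simp only [Finset.mem_filter, Finset.mem_insert]
    constructor
    · rintro ⟨hy, hyx⟩
      rcases eq_or_lt_of_le hyx with rfl | h
      · exact Or.inl rfl
      · exact Or.inr ⟨hy, h⟩
    · rintro (rfl | ⟨hy, h⟩)
      · exact ⟨hx, le_rfl⟩
      · exact ⟨hy, h.le⟩
  rw [h2, Finset.sum_insert (by simp), hμ x]
  ring

/-- Weisner's lemma for a down-set with joins against a fixed element. -/
theorem weisner {α : Type*} [PartialOrder α] [Finite α] [DecidableEq α]
    [DecidableRel (α := α) (· ≤ ·)] [DecidableRel (α := α) (· < ·)]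
    {L D : Finset α} {b v : α} {μ : α → ℤ}
    (hμ : ∀ x ∈ L, ∑ y ∈ L.filter (· ≤ x), μ y = if x = b then 1 else 0)
    (hDL : D ⊆ L) (hdown : ∀ x ∈ D, ∀ y ∈ L, y ≤ x → y ∈ D) (hv : v ∈ D) (hvb : v ≠ b)
    (hb : b ≤ v) (J : α → α) (hJ1 : ∀ x ∈ D, J x ∈ D) (hJ2 : ∀ x ∈ D, x ≤ J x)
    (hJ3 : ∀ x ∈ D, v ≤ J x) (hJ4 : ∀ x ∈ D, ∀ u ∈ D, x ≤ u → v ≤ u → J x ≤ u) :
    ∑ x ∈ D, μ x = 0 := by
  haveI : WellFoundedLT α := Finite.to_wellFoundedLT
  set U := D.filter (v ≤ ·) with hU
  have hmaps : ∀ x ∈ D, J x ∈ U := fun x hx =>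
    Finset.mem_filter.2 ⟨hJ1 x hx, hJ3 x hx⟩
  have hF : ∀ u, u ∈ U → ∑ x ∈ D.filter (J · = u), μ x = 0 := by
    intro u
    induction u using WellFoundedLT.induction with
    | ind u ih =>
    intro hu
    obtain ⟨huD, hvu⟩ := Finset.mem_filter.1 hu
    have h1 : ∑ x ∈ D.filter (· ≤ u), μ x = 0 := by
      have h2 : L.filter (· ≤ u) = D.filter (· ≤ u) := by
        ext y
        simp only [Finset.mem_filter]
        constructor
        · rintro ⟨hy, hyu⟩
          exact ⟨hdown u huD y hy hyu, hyu⟩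
        · rintro ⟨hy, hyu⟩
          exact ⟨hDL hy, hyu⟩
      rw [← h2, hμ u (hDL huD)]
      have : u ≠ b := by
        rintro rfl
        exact hvb (le_antisymm hvu hb)
      simp [this]
    have h3 : ∑ x ∈ D.filter (· ≤ u), μ x =
        ∑ u' ∈ U.filter (· ≤ u), ∑ x ∈ D.filter (J · = u'), μ x := by
      have hmaps2 : ∀ x ∈ D.filter (· ≤ u), J x ∈ U.filter (· ≤ u) := by
        intro x hx
        obtain ⟨hxD, hxu⟩ := Finset.mem_filter.1 hx
        exact Finset.mem_filter.2 ⟨hmaps x hxD, hJ4 x hxD u huD hxu hvu⟩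
      rw [← Finset.sum_fiberwise_of_maps_to hmaps2]
      refine Finset.sum_congr rfl fun u' hu' => ?_
      obtain ⟨hu'U, hu'u⟩ := Finset.mem_filter.1 hu'
      refine Finset.sum_congr ?_ fun _ _ => rfl
      ext y
      simp only [Finset.mem_filter]
      constructor
      · rintro ⟨⟨hy, _⟩, hyu⟩
        exact ⟨hy, hyu⟩
      · rintro ⟨hy, hyu⟩
        exact ⟨⟨hy, (hJ2 y hy).trans (hyu ▸ hu'u)⟩, hyu⟩
    rw [h1] at h3
    have h4 : U.filter (· ≤ u) = insert u (U.filter (· < u)) := by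
      ext y
      simp only [Finset.mem_filter, Finset.mem_insert]
      constructor
      · rintro ⟨hy, hyx⟩
        rcases eq_or_lt_of_le hyx with rfl | h
        · exact Or.inl rfl
        · exact Or.inr ⟨hy, h⟩
      · rintro (rfl | ⟨hy, h⟩)
        · exact ⟨hu, le_rfl⟩
        · exact ⟨hy, h.le⟩
    rw [h4, Finset.sum_insert (by simp)] at h3
    have h5 : ∑ u' ∈ U.filter (· < u), ∑ x ∈ D.filter (J · = u'), μ x = 0 := by
      refine Finset.sum_eq_zero fun u' hu' => ?_
      obtain ⟨hu'U, hu'u⟩ := Finset.mem_filter.1 hu'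
      exact ih u' hu'u hu'U
    rw [h5, add_zero] at h3
    exact h3.symm
  rw [← Finset.sum_fiberwise_of_maps_to hmaps]
  exact Finset.sum_eq_zero hF

end Mobius

variable {G : Type*} [Group G]

/-- Maximal `p`-subgroups of `H`, in the ambient group. -/
def MaxP (p : ℕ) (H P : Subgroup G) : Prop :=
  P ≤ H ∧ IsPGroup p P ∧ ∀ S : Subgroup G, P ≤ S → S ≤ H → IsPGroup p S → S = P

theorem exists_maxP [Finite G] {p : ℕ} {H T : Subgroup G} (hT : T ≤ H) (hTp : IsPGroup p T) :
    ∃ R, T ≤ R ∧ MaxP p H R := by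
  have hne : ({S : Subgroup G | T ≤ S ∧ S ≤ H ∧ IsPGroup p S}).Nonempty := ⟨T, le_rfl, hT, hTp⟩
  obtain ⟨R, hR⟩ := (Set.toFinite _).exists_maximal hne
  refine ⟨R, hR.1.1, hR.1.2.1, hR.1.2.2, fun S hRS hSH hSp => ?_⟩
  exact le_antisymm (hR.2 ⟨hR.1.1.trans hRS, hSH, hSp⟩ hRS) hRS

theorem MaxP.mono {p : ℕ} {H A P : Subgroup G} (h : MaxP p H P) (hPA : P ≤ A) (hAH : A ≤ H) :
    MaxP p A P :=
  ⟨hPA, h.2.1, fun S hPS hSA hSp => h.2.2 S hPS (hSA.trans hAH) hSp⟩

theorem lemmaB {p : ℕ} {H T T₀ : Subgroup G} (hT₀ : MaxP p H T₀) (hT : T ≤ H) (hTp : IsPGroup p T)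
    (hn : T₀ ≤ normalizer (T : Set G)) : T ≤ T₀ := by
  have h1 : IsPGroup p (T₀ ⊔ T : Subgroup G) := hT₀.2.1.to_sup_of_normal_right' hTp hn
  have h2 := hT₀.2.2 _ le_sup_left (sup_le hT₀.1 hT) h1
  exact le_sup_right.trans h2.le

/-- Normalizers grow in `p`-groups. -/
theorem exists_mem_normalizer_of_lt [Finite G] {p : ℕ} [Fact p.Prime] {V Q : Subgroup G}
    (hQ : IsPGroup p Q) (h : V < Q) : ∃ x ∈ Q, x ∉ V ∧ x ∈ normalizer (V : Set G) := by
  have hn := hQ.isNilpotent
  have hc := Group.normalizerCondition_of_isNilpotent (G := Q)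
  have hlt : V.subgroupOf Q < ⊤ := by
    refine lt_top_iff_ne_top.2 fun htop => h.not_ge ?_
    intro x hx
    have : (⟨x, hx⟩ : Q) ∈ V.subgroupOf Q := by rw [htop]; trivial
    exact this
  have h2 := hc _ hlt
  obtain ⟨⟨x, hxQ⟩, hx1, hx2⟩ := SetLike.exists_of_lt h2
  refine ⟨x, hxQ, fun hxV => hx2 (mem_subgroupOf.2 hxV), ?_⟩
  rw [mem_normalizer_iff]
  intro w
  rw [mem_normalizer_iff] at hx1
  by_cases hw : w ∈ Q
  · exact hx1 ⟨w, hw⟩
  · have hwV : w ∉ V := fun h' => hw (h.le h')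
    have hwV' : x * w * x⁻¹ ∉ V := by
      intro h'
      apply hw
      have h3 := h.le h'
      have := mul_mem (mul_mem (inv_mem hxQ) h3) hxQ
      simpa [mul_assoc] using this
    simp [hwV, hwV']

/-- The subnormalizer of a `p`-subgroup: elements normalizing some `p`-overgroup. -/
def SNS (p : ℕ) (V : Subgroup G) : Set G :=
  {g | ∃ T : Subgroup G, IsPGroup p T ∧ V ≤ T ∧ g ∈ normalizer (T : Set G)}

theorem SNS_anti {p : ℕ} {V W : Subgroup G} (h : V ≤ W) : SNS p W ⊆ SNS p V := by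
  rintro g ⟨T, hT, hWT, hg⟩
  exact ⟨T, hT, h.trans hWT, hg⟩

/-- The closure of `V` under conjugation by powers of `g`. -/
def gClosure (g : G) (V : Subgroup G) : Subgroup G :=
  closure {y | ∃ i : ℤ, ∃ v ∈ V, y = g ^ i * v * (g ^ i)⁻¹}

theorem le_gClosure (g : G) (V : Subgroup G) : V ≤ gClosure g V := by
  intro v hv
  exact subset_closure ⟨0, v, hv, by simp⟩

theorem gClosure_le {g : G} {V T : Subgroup G} (hVT : V ≤ T)
    (hg : g ∈ normalizer (T : Set G)) : gClosure g V ≤ T := by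
  rw [gClosure, closure_le]
  rintro _ ⟨i, v, hv, rfl⟩
  have hgi : g ^ i ∈ normalizer (T : Set G) := zpow_mem hg i
  exact (mem_normalizer_iff.1 hgi v).1 (hVT hv)

theorem mem_normalizer_gClosure (g : G) (V : Subgroup G) :
    g ∈ normalizer ((gClosure g V : Subgroup G) : Set G) := by
  have key : ∀ k : ℤ, ∀ w ∈ gClosure g V, g ^ k * w * (g ^ k)⁻¹ ∈ gClosure g V := by
    intro k w hw
    induction hw using closure_induction with
    | mem w hw =>
      obtain ⟨i, v, hv, rfl⟩ := hw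
      apply Subgroup.subset_closure
      refine ⟨k + i, v, hv, ?_⟩
      rw [zpow_add]
      group
    | one => simp [one_mem]
    | mul u v _ _ ihu ihv =>
      have := mul_mem ihu ihv
      simpa [mul_assoc] using this
    | inv u _ ih =>
      have := inv_mem ih
      simpa [mul_assoc] using this
  rw [mem_normalizer_iff]
  intro w
  constructor
  · intro hw
    simpa using key 1 w hw
  · intro hw
    have := key (-1) _ hw
    simpa [mul_assoc] using this


/-- `|S(V) ∩ M|`. -/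
noncomputable def sn (p : ℕ) (M V : Subgroup G) : ℕ := Nat.card {g : G // g ∈ M ∧ g ∈ SNS p V}

/-- Number of maximal `p`-subgroups of `M` containing `V`. -/
noncomputable def sg (p : ℕ) (M V : Subgroup G) : ℕ := Nat.card {Q : Subgroup G // MaxP p M Q ∧ V ≤ Q}

/-- Number of maximal `p`-subgroups of `M`. -/
noncomputable def nm (p : ℕ) (M : Subgroup G) : ℕ := Nat.card {Q : Subgroup G // MaxP p M Q}

theorem card_int {α : Type*} [Fintype α] (P : α → Prop) [DecidablePred P] :
    (Nat.card {x // P x} : ℤ) = ∑ x, if P x then (1 : ℤ) else 0 := by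
  rw [Nat.card_eq_fintype_card, Fintype.card_subtype, Finset.sum_boole]

theorem nm_pos [Finite G] {p : ℕ} {M V : Subgroup G} (hV : V ≤ M) (hVp : IsPGroup p V) :
    0 < nm p M := by
  obtain ⟨R, _, hR⟩ := exists_maxP hV hVp
  rw [nm, Nat.card_pos_iff]
  exact ⟨⟨⟨R, hR⟩⟩, inferInstance⟩

/-- A maximal `p`-subgroup of `M ⊓ N(V)` containing the normal `V`, equal to `V`, forces `V` maximal
in `M`. -/
theorem maxP_of_maxP_inf_normalizer [Finite G] {p : ℕ} [Fact p.Prime] {M V : Subgroup G}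
    (h : MaxP p (M ⊓ normalizer (V : Set G)) V) (hVM : V ≤ M) : MaxP p M V := by
  refine ⟨hVM, h.2.1, fun S hVS hSM hSp => ?_⟩
  by_contra hne
  have hlt : V < S := lt_of_le_of_ne hVS (Ne.symm hne)
  obtain ⟨x, hxS, hxV, hxN⟩ := exists_mem_normalizer_of_lt hSp hlt
  have h1 : S ⊓ normalizer (V : Set G) = V := by
    refine h.2.2 _ (le_inf hVS le_normalizer) (inf_le_inf_right _ hSM) (hSp.to_le inf_le_left)
  apply hxV
  rw [← h1]
  exact mem_inf.2 ⟨hxS, hxN⟩

/-- Exchanging sums. -/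
theorem swap_aux {α β : Type*} [Fintype β] (L : Finset α) (μ : α → ℤ) (P : α → β → Prop)
    [∀ a b, Decidable (P a b)] :
    ∑ W ∈ L, μ W * (∑ g, if P W g then (1 : ℤ) else 0) =
      ∑ g, ∑ W ∈ L.filter (fun W => P W g), μ W := by
  simp only [Finset.mul_sum, Finset.sum_filter]
  rw [Finset.sum_comm]
  refine Finset.sum_congr rfl fun g _ => Finset.sum_congr rfl fun W _ => ?_
  split_ifs <;> simp

section step
variable [Finite G] {p : ℕ} [Fact p.Prime]

/-- Weisner sum over elements `g` not normalizing `V`. -/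
theorem weisner_apply {M V : Subgroup G} (hVM : V ≤ M) (L : Finset (Subgroup G))
    (hL : ∀ W, W ∈ L ↔ V ≤ W ∧ W ≤ M ⊓ normalizer (V : Set G) ∧ IsPGroup p W)
    {μ : Subgroup G → ℤ} [DecidableEq (Subgroup G)] [DecidableRel (α := Subgroup G) (· ≤ ·)]
    [DecidableRel (α := Subgroup G) (· < ·)]
    (hμ : ∀ x ∈ L, ∑ y ∈ L.filter (· ≤ x), μ y = if x = V then 1 else 0)
    {g : G} (hgM : g ∈ M) (hgN : g ∉ normalizer (V : Set G))
    [DecidablePred (fun W : Subgroup G => g ∈ SNS p W)] :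
    ∑ W ∈ L.filter (fun W => g ∈ SNS p W), μ W = 0 := by
  by_cases hgV : g ∈ SNS p V
  · obtain ⟨T₁, hT₁, hVT₁, hgT₁⟩ := hgV
    set K := gClosure g V with hK
    have hKT₁ : K ≤ T₁ := gClosure_le hVT₁ hgT₁
    have hKp : IsPGroup p K := hT₁.to_le hKT₁
    have hVK : V ≤ K := le_gClosure g V
    have hKM : K ≤ M := by
      rw [hK, gClosure, closure_le]
      rintro _ ⟨i, v, hv, rfl⟩
      exact mul_mem (mul_mem (zpow_mem hgM i) (hVM hv)) (inv_mem (zpow_mem hgM i))
    have hgK : g ∈ normalizer ((K : Subgroup G) : Set G) := mem_normalizer_gClosure g V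
    have hne : V ≠ K := by
      intro h
      exact hgN (by rw [h]; exact hgK)
    have hlt : V < K := lt_of_le_of_ne hVK hne
    obtain ⟨x, hxK, hxV, hxN⟩ := exists_mem_normalizer_of_lt hKp hlt
    set V₀ := K ⊓ normalizer (V : Set G) with hV₀
    have hV₀M : V₀ ≤ M ⊓ normalizer (V : Set G) := inf_le_inf_right _ hKM
    have hVV₀ : V ≤ V₀ := le_inf hVK le_normalizer
    have hV₀K : V₀ ≤ K := inf_le_left
    refine weisner (L := L) (b := V) (v := V₀) hμ (Finset.filter_subset _ _) ?_ ?_ ?_ hVV₀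
      (fun W => W ⊔ V₀) ?_ (fun _ _ => le_sup_left) (fun _ _ => le_sup_right) ?_
    · intro W hW W' hW' hle
      obtain ⟨_, hgW⟩ := Finset.mem_filter.1 hW
      exact Finset.mem_filter.2 ⟨hW', SNS_anti hle hgW⟩
    · refine Finset.mem_filter.2 ⟨(hL _).2 ⟨hVV₀, hV₀M, hKp.to_le hV₀K⟩, K, hKp, hV₀K, hgK⟩
    · intro h
      apply hxV
      rw [← h]
      exact mem_inf.2 ⟨hxK, hxN⟩
    · intro W hW
      obtain ⟨hWL, T, hT, hWT, hgT⟩ := Finset.mem_filter.1 hW
      obtain ⟨hVW, hWM, hWp⟩ := (hL W).1 hWL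
      have hKT : K ≤ T := gClosure_le (hVW.trans hWT) hgT
      have hsup : W ⊔ V₀ ≤ T := sup_le hWT (hV₀K.trans hKT)
      exact Finset.mem_filter.2 ⟨(hL _).2 ⟨hVW.trans le_sup_left, sup_le hWM hV₀M, hT.to_le hsup⟩,
        T, hT, hsup, hgT⟩
    · intro W hW U hU hWU hV₀U
      exact sup_le hWU hV₀U
  · have : L.filter (fun W => g ∈ SNS p W) = ∅ := by
      rw [Finset.filter_eq_empty_iff]
      intro W hW hgW
      exact hgV (SNS_anti ((hL W).1 hW).1 hgW)
    rw [this, Finset.sum_empty]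


/-- The inductive step of the counting formula. -/
theorem step {M V : Subgroup G} (hVM : V ≤ M) (hVp : IsPGroup p V) (hnotMax : ¬ MaxP p M V)
    (IH1 : ∀ W, V ≤ W → W ≤ M ⊓ normalizer (V : Set G) → IsPGroup p W →
      sn p (M ⊓ normalizer (V : Set G)) W * nm p (M ⊓ normalizer (V : Set G)) =
        sg p (M ⊓ normalizer (V : Set G)) W * Nat.card ↥(M ⊓ normalizer (V : Set G)))
    (IH2 : ∀ W, V < W → W ≤ M → IsPGroup p W → sn p M W * nm p M = sg p M W * Nat.card M) :
    sn p M V * nm p M = sg p M V * Nat.card M := by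
  classical
  haveI := Fintype.ofFinite G
  haveI := Fintype.ofFinite (Subgroup G)
  set M' := M ⊓ normalizer (V : Set G) with hM'
  set L : Finset (Subgroup G) :=
    Finset.univ.filter (fun W => V ≤ W ∧ W ≤ M' ∧ IsPGroup p W) with hLdef
  have hL : ∀ W, W ∈ L ↔ V ≤ W ∧ W ≤ M' ∧ IsPGroup p W := by
    intro W; simp [hLdef]
  obtain ⟨μ, hμ⟩ := exists_mobius L V
  have hVL : V ∈ L := (hL V).2 ⟨le_rfl, le_inf hVM le_normalizer, hVp⟩
  have hμV : μ V = 1 := by
    have h1 := hμ V hVL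
    have h2 : L.filter (· ≤ V) = {V} := by
      ext W
      simp only [Finset.mem_filter, Finset.mem_singleton]
      constructor
      · rintro ⟨hW, hWV⟩
        exact le_antisymm hWV ((hL W).1 hW).1
      · rintro rfl
        exact ⟨hVL, le_rfl⟩
    rw [h2] at h1
    simpa using h1
  have hM'M : M' ≤ M := inf_le_left
  have hM'N : M' ≤ normalizer (V : Set G) := inf_le_right
  have hVM' : V ≤ M' := le_inf hVM le_normalizer
  -- the sums
  have hsn : ∀ (A W : Subgroup G), (sn p A W : ℤ) = ∑ g, if g ∈ A ∧ g ∈ SNS p W then (1 : ℤ) else 0 :=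
    fun A W => card_int _
  have hsg : ∀ (A W : Subgroup G), (sg p A W : ℤ) = ∑ Q, if MaxP p A Q ∧ W ≤ Q then (1 : ℤ) else 0 :=
    fun A W => card_int _
  -- identity A
  have hA : ∑ W ∈ L, μ W * (sn p M W : ℤ) = ∑ W ∈ L, μ W * (sn p M' W : ℤ) := by
    simp only [hsn]
    rw [swap_aux, swap_aux]
    refine Finset.sum_congr rfl fun g _ => ?_
    by_cases hgM' : g ∈ M'
    · have hgM := hM'M hgM'
      simp [hgM', hgM]
    · by_cases hgM : g ∈ M
      · have hgN : g ∉ normalizer (V : Set G) := fun h => hgM' (mem_inf.2 ⟨hgM, h⟩)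
        simp only [hgM, hgM', true_and, false_and, Finset.filter_false, Finset.sum_empty]
        exact weisner_apply hVM L hL hμ hgM hgN
      · simp [hgM, hgM']
  -- identity B
  have hB : ∑ W ∈ L, μ W * (sg p M' W : ℤ) = 0 := by
    simp only [hsg]
    rw [swap_aux]
    refine Finset.sum_eq_zero fun Q _ => ?_
    by_cases hQ : MaxP p M' Q
    · have hVQ : V ≤ Q := lemmaB hQ hVM' hVp (hQ.1.trans hM'N)
      have hQL : Q ∈ L := (hL Q).2 ⟨hVQ, hQ.1, hQ.2.1⟩
      have hne : Q ≠ V := by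
        rintro rfl
        exact hnotMax (maxP_of_maxP_inf_normalizer hQ hVM)
      have := hμ Q hQL
      rw [if_neg hne] at this
      simpa only [hQ, true_and] using this
    · simp [hQ]
  -- identity C
  have hC : ∑ W ∈ L, μ W * (sg p M W : ℤ) = 0 := by
    simp only [hsg]
    rw [swap_aux]
    refine Finset.sum_eq_zero fun Q _ => ?_
    by_cases hQ : MaxP p M Q
    · by_cases hVQ : V ≤ Q
      · have hVQne : V ≠ Q := by
          rintro rfl
          exact hnotMax hQ
        have hlt : V < Q := lt_of_le_of_ne hVQ hVQne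
        obtain ⟨x, hxQ, hxV, hxN⟩ := exists_mem_normalizer_of_lt hQ.2.1 hlt
        set U := Q ⊓ M' with hU
        have hUL : U ∈ L := (hL U).2 ⟨le_inf hVQ hVM', inf_le_right, hQ.2.1.to_le inf_le_left⟩
        have hne : U ≠ V := by
          intro h
          apply hxV
          rw [← h]
          exact mem_inf.2 ⟨hxQ, mem_inf.2 ⟨hQ.1 hxQ, hxN⟩⟩
        have := hμ U hUL
        rw [if_neg hne] at this
        rw [← this]
        refine Finset.sum_congr ?_ fun _ _ => rfl
        ext W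
        simp only [Finset.mem_filter, hQ, true_and]
        constructor
        · rintro ⟨hW, hWQ⟩
          exact ⟨hW, le_inf hWQ ((hL W).1 hW).2.1⟩
        · rintro ⟨hW, hWU⟩
          exact ⟨hW, hWU.trans inf_le_left⟩
      · refine Finset.sum_eq_zero fun W hW => ?_
        exfalso
        obtain ⟨hWL, _, hWQ⟩ := Finset.mem_filter.1 hW
        exact hVQ (((hL W).1 hWL).1.trans hWQ)
    · simp [hQ]
  -- conclusion
  have hD : ∑ W ∈ L, μ W * (sn p M W : ℤ) = 0 := by
    rw [hA]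
    have hpos : (nm p M' : ℤ) ≠ 0 := by
      have := nm_pos (p := p) hVM' hVp
      exact_mod_cast this.ne'
    have h1 : (∑ W ∈ L, μ W * (sn p M' W : ℤ)) * (nm p M' : ℤ) = 0 := by
      rw [Finset.sum_mul]
      have h2 : ∀ W ∈ L, μ W * (sn p M' W : ℤ) * (nm p M' : ℤ) =
          μ W * (sg p M' W : ℤ) * (Nat.card M' : ℤ) := by
        intro W hW
        obtain ⟨hVW, hWM, hWp⟩ := (hL W).1 hW
        have := IH1 W hVW hWM hWp
        have h3 : (sn p M' W : ℤ) * (nm p M' : ℤ) = (sg p M' W : ℤ) * (Nat.card M' : ℤ) := by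
          exact_mod_cast this
        rw [mul_assoc, h3, mul_assoc]
      rw [Finset.sum_congr rfl h2, ← Finset.sum_mul, hB, zero_mul]
    exact (mul_eq_zero.1 h1).resolve_right hpos
  rw [← Finset.add_sum_erase L _ hVL, hμV, one_mul] at hD hC
  have hfinal : (sn p M V : ℤ) * (nm p M : ℤ) = (sg p M V : ℤ) * (Nat.card M : ℤ) := by
    have h2 : ∀ W ∈ L.erase V, μ W * (sn p M W : ℤ) * (nm p M : ℤ) =
        μ W * (sg p M W : ℤ) * (Nat.card M : ℤ) := by
      intro W hW
      obtain ⟨hne, hWL⟩ := Finset.mem_erase.1 hW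
      obtain ⟨hVW, hWM, hWp⟩ := (hL W).1 hWL
      have hlt : V < W := lt_of_le_of_ne hVW (Ne.symm hne)
      have := IH2 W hlt (hWM.trans hM'M) hWp
      have h3 : (sn p M W : ℤ) * (nm p M : ℤ) = (sg p M W : ℤ) * (Nat.card M : ℤ) := by
        exact_mod_cast this
      rw [mul_assoc, h3, mul_assoc]
    have h4 : (∑ W ∈ L.erase V, μ W * (sn p M W : ℤ)) * (nm p M : ℤ) =
        (∑ W ∈ L.erase V, μ W * (sg p M W : ℤ)) * (Nat.card M : ℤ) := by
      rw [Finset.sum_mul, Finset.sum_mul]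
      exact Finset.sum_congr rfl h2
    have h5 : (sn p M V : ℤ) = - ∑ W ∈ L.erase V, μ W * (sn p M W : ℤ) := by linarith
    have h6 : (sg p M V : ℤ) = - ∑ W ∈ L.erase V, μ W * (sg p M W : ℤ) := by linarith
    rw [h5, h6, neg_mul, neg_mul, h4]
  exact_mod_cast hfinal


/-- Subgroups of `M` that are maximal `p`-subgroups correspond to Sylow subgroups of `↥M`. -/
noncomputable def maxPEquiv (M : Subgroup G) : {Q : Subgroup G // MaxP p M Q} ≃ Sylow p M :=
  Equiv.ofBijective
    (fun Q => {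
      toSubgroup := Q.1.subgroupOf M
      isPGroup' := by
        have h := Q.2.2.1
        exact h.of_equiv (subgroupOfEquivOfLe Q.2.1).symm
      is_maximal' := by
        intro S hS hle
        have h1 : (S.map M.subtype) = Q.1 := by
          refine Q.2.2.2 _ ?_ ?_ (hS.map _)
          · intro x hx
            exact ⟨⟨x, Q.2.1 hx⟩, hle (mem_subgroupOf.2 hx), rfl⟩
          · rintro _ ⟨x, _, rfl⟩
            exact x.2
        rw [← h1]
        exact (comap_map_eq_self_of_injective M.subtype_injective S).symm })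
    (by
      constructor
      · intro Q₁ Q₂ h
        have h1 : Q₁.1.subgroupOf M = Q₂.1.subgroupOf M := congrArg (fun S : Sylow p M => (S : Subgroup M)) h
        apply Subtype.ext
        have h2 := congrArg (fun S : Subgroup M => S.map M.subtype) h1
        simpa [map_subgroupOf_eq_of_le Q₁.2.1, map_subgroupOf_eq_of_le Q₂.2.1] using h2
      · intro S
        refine ⟨⟨(S : Subgroup M).map M.subtype, ?_, S.isPGroup'.map _, ?_⟩, ?_⟩
        · rintro _ ⟨x, _, rfl⟩
          exact x.2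
        · intro T hST hTM hT
          have h1 : T.subgroupOf M = (S : Subgroup M) := by
            refine S.is_maximal' ?_ ?_
            · exact hT.of_equiv (subgroupOfEquivOfLe hTM).symm
            · intro x hx
              exact hST ⟨x, hx, rfl⟩
          rw [← h1]
          exact (map_subgroupOf_eq_of_le hTM).symm
        · apply Sylow.ext
          exact comap_map_eq_self_of_injective M.subtype_injective _)

theorem nm_eq_card_sylow (M : Subgroup G) : nm p M = Nat.card (Sylow p M) :=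
  Nat.card_congr (maxPEquiv M)

/-- Sylow's theorem in `M`: `|N_M(V)| * n(M) = |M|`. -/
theorem card_inf_normalizer_mul_nm {M V : Subgroup G} (hV : MaxP p M V) :
    Nat.card ↥(M ⊓ normalizer (V : Set G)) * nm p M = Nat.card M := by
  set P : Sylow p M := maxPEquiv M ⟨V, hV⟩ with hP
  have hPc : (P : Subgroup M) = V.subgroupOf M := rfl
  have h1 := P.card_eq_index_normalizer
  rw [nm_eq_card_sylow, h1]
  have h2 : Nat.card ↥(normalizer ((P : Subgroup M) : Set M)) = Nat.card ↥(M ⊓ normalizer (V : Set G)) := by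
    have h3 : (normalizer ((P : Subgroup M) : Set M)).map M.subtype = M ⊓ normalizer (V : Set G) := by
      ext x
      constructor
      · rintro ⟨y, hy, rfl⟩
        refine mem_inf.2 ⟨y.2, ?_⟩
        have hy' : y ∈ normalizer ((P : Subgroup M) : Set M) := hy
        rw [hPc, mem_normalizer_iff] at hy'
        change (y : G) ∈ _
        rw [mem_normalizer_iff]
        intro w
        by_cases hw : w ∈ M
        · exact hy' ⟨w, hw⟩
        · have hwV : w ∉ V := fun h' => hw (hV.1 h')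
          have hwV' : (y : G) * w * (y : G)⁻¹ ∉ V := by
            intro h'
            apply hw
            have := mul_mem (mul_mem (inv_mem y.2) (hV.1 h')) y.2
            simpa [mul_assoc] using this
          simp [hwV, hwV']
      · intro hx
        obtain ⟨hxM, hxN⟩ := mem_inf.1 hx
        refine ⟨⟨x, hxM⟩, ?_, rfl⟩
        rw [mem_normalizer_iff] at hxN
        change (⟨x, hxM⟩ : M) ∈ normalizer ((P : Subgroup M) : Set M)
        rw [hPc, mem_normalizer_iff]
        intro w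
        exact hxN w
    rw [← h3]
    exact Nat.card_congr (equivMapOfInjective _ _ M.subtype_injective).toEquiv
  rw [← h2]
  exact card_mul_index _

/-- The counting formula. -/
theorem main_count : ∀ (n : ℕ) (M : Subgroup G), Nat.card M = n → ∀ V : Subgroup G, V ≤ M →
    IsPGroup p V → sn p M V * nm p M = sg p M V * Nat.card M := by
  intro n
  induction n using Nat.strong_induction_on with
  | _ n IHn =>
  intro M hM
  have key : ∀ (m : ℕ) (V : Subgroup G), Nat.card G - Nat.card V = m → V ≤ M → IsPGroup p V →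
      sn p M V * nm p M = sg p M V * Nat.card M := by
    intro m
    induction m using Nat.strong_induction_on with
    | _ m IHm =>
    intro V hm hVM hVp
    by_cases hN : M ≤ normalizer (V : Set G)
    · -- normal case
      have h1 : sn p M V = Nat.card M := by
        refine Nat.card_congr ⟨fun g => ⟨g.1, g.2.1⟩, fun g => ⟨g.1, g.2, V, hVp, le_rfl, hN g.2⟩,
          fun _ => rfl, fun _ => rfl⟩
      have h2 : sg p M V = nm p M := by
        refine Nat.card_congr ⟨fun Q => ⟨Q.1, Q.2.1⟩, fun Q => ⟨Q.1, Q.2, ?_⟩, fun _ => rfl, fun _ => rfl⟩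
        exact lemmaB Q.2 hVM hVp (Q.2.1.trans hN)
      rw [h1, h2, mul_comm]
    by_cases hmax : MaxP p M V
    · -- Sylow case
      have hsub : ∀ g : G, g ∈ M → g ∈ SNS p V → g ∈ normalizer (V : Set G) := by
        rintro g hgM ⟨T, hT, hVT, hgT⟩
        have h3 : T ⊓ M = V := hmax.2.2 _ (le_inf hVT hVM) inf_le_right (hT.to_le inf_le_left)
        rw [← h3, mem_normalizer_iff]
        intro w
        have h4 := mem_normalizer_iff.1 hgT w
        have h5 : w ∈ M ↔ g * w * g⁻¹ ∈ M := by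
          constructor
          · intro hw; exact mul_mem (mul_mem hgM hw) (inv_mem hgM)
          · intro hw
            have := mul_mem (mul_mem (inv_mem hgM) hw) hgM
            simpa [mul_assoc] using this
        simp only [SetLike.mem_coe, mem_inf, h4, h5]
      have h1 : sn p M V = Nat.card ↥(M ⊓ normalizer (V : Set G)) := by
        refine Nat.card_congr ⟨fun g => ⟨g.1, mem_inf.2 ⟨g.2.1, hsub g.1 g.2.1 g.2.2⟩⟩,
          fun g => ⟨g.1, (mem_inf.1 g.2).1, V, hVp, le_rfl, (mem_inf.1 g.2).2⟩,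
          fun _ => rfl, fun _ => rfl⟩
      have h2 : sg p M V = 1 := by
        rw [sg, Nat.card_eq_one_iff_unique]
        refine ⟨⟨?_⟩, ⟨⟨V, hmax, le_rfl⟩⟩⟩
        rintro ⟨Q₁, hQ₁, hVQ₁⟩ ⟨Q₂, hQ₂, hVQ₂⟩
        apply Subtype.ext
        exact (hmax.2.2 Q₁ hVQ₁ hQ₁.1 hQ₁.2.1).trans (hmax.2.2 Q₂ hVQ₂ hQ₂.1 hQ₂.2.1).symm
      rw [h1, h2, one_mul]
      exact card_inf_normalizer_mul_nm hmax
    · -- general case
      refine step hVM hVp hmax ?_ ?_
      · intro W hVW hWM hWp
        have hlt : M ⊓ normalizer (V : Set G) < M :=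
          lt_of_le_of_ne inf_le_left fun h => hN (inf_eq_left.1 h)
        have := Cfsg.Agent.Lib.PGroups.Basic.card_lt_of_lt hlt
        exact IHn _ (hM ▸ this) _ rfl W hWM hWp
      · intro W hVW hWM hWp
        have hlt := Cfsg.Agent.Lib.PGroups.Basic.card_lt_of_lt hVW
        have hle : Nat.card W ≤ Nat.card G := Subgroup.card_le_card_group W
        exact IHm _ (by omega) W rfl hWM hWp
  intro V hVM hVp
  exact key _ V rfl hVM hVp

end step

section final
variable [Finite G] {p : ℕ} [Fact p.Prime]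

/-- A subgroup of a `p`-group is subnormal in it. -/
theorem SN_of_isPGroup {T : Subgroup G} (hT : IsPGroup p T) :
    ∀ (n : ℕ) (V : Subgroup G), Nat.card T - Nat.card V = n → V ≤ T →
      Cfsg.Agent.Lib.Subnormal.Basic.SN V T := by
  intro n
  induction n using Nat.strong_induction_on with
  | _ n IH =>
  intro V hn hVT
  rcases eq_or_lt_of_le hVT with rfl | hlt
  · exact Cfsg.Agent.Lib.Subnormal.Basic.SN.refl _
  · obtain ⟨x, hxT, hxV, hxN⟩ := exists_mem_normalizer_of_lt hT hlt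
    set V₁ := T ⊓ normalizer (V : Set G) with hV₁
    have h1 : V ≤ V₁ := le_inf hVT le_normalizer
    have h2 : V < V₁ := lt_of_le_of_ne h1 fun h => hxV (by rw [h]; exact mem_inf.2 ⟨hxT, hxN⟩)
    have h3 := Cfsg.Agent.Lib.PGroups.Basic.card_lt_of_lt h2
    have h4 : Nat.card V₁ ≤ Nat.card T :=
      Subgroup.card_le_of_le inf_le_left
    have h5 := IH _ (by omega) V₁ rfl inf_le_left
    exact (Cfsg.Agent.Lib.Subnormal.Basic.SN.of_le_normalizer h1 inf_le_right).trans h5

/-- The subnormalizer, in Mathlib's language. -/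
theorem mem_SNS_iff {V : Subgroup G} (hV : IsPGroup p V) (g : G) :
    g ∈ SNS p V ↔ (V.subgroupOf (V ⊔ zpowers g)).IsSubnormal := by
  constructor
  · rintro ⟨T, hT, hVT, hgT⟩
    apply Cfsg.Agent.Lib.Subnormal.Basic.isSubnormal_subgroupOf_of_SN
    set J := V ⊔ zpowers g with hJ
    have hVJ : V ≤ J := le_sup_left
    have hgJ : g ∈ J := mem_sup_right (mem_zpowers g)
    have h1 : V ≤ T ⊓ J := le_inf hVT hVJ
    have h2 := SN_of_isPGroup (hT.to_le inf_le_left : IsPGroup p ↥(T ⊓ J)) _ V rfl h1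
    refine h2.trans (Cfsg.Agent.Lib.Subnormal.Basic.SN.of_le_normalizer inf_le_right ?_)
    -- `J` normalizes `T ⊓ J`
    have h3 : J ≤ normalizer (T : Set G) := by
      rw [hJ, sup_le_iff]
      constructor
      · exact hVT.trans le_normalizer
      · rw [zpowers_le]
        exact hgT
    refine le_trans (le_inf h3 le_rfl) ?_
    intro x hx
    obtain ⟨hx1, hx2⟩ := mem_inf.1 hx
    rw [mem_normalizer_iff] at hx1 ⊢
    intro w
    have h4 : w ∈ J ↔ x * w * x⁻¹ ∈ J := by
      constructor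
      · intro hw; exact mul_mem (mul_mem hx2 hw) (inv_mem hx2)
      · intro hw
        have := mul_mem (mul_mem (inv_mem hx2) hw) hx2
        simpa [mul_assoc] using this
    simp only [SetLike.mem_coe, mem_inf, hx1 w, h4]
  · intro h
    set J := V ⊔ zpowers g with hJ
    have hVJ : V ≤ J := le_sup_left
    have hgJ : g ∈ J := mem_sup_right (mem_zpowers g)
    have hVp : IsPGroup p ↥(V.subgroupOf J) := hV.of_equiv (subgroupOfEquivOfLe hVJ).symm
    have h1 := Cfsg.Agent.Lib.Core.Basic.le_pCore_of_isSubnormal h hVp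
    refine ⟨(Cfsg.pCore p J).map J.subtype, ?_, ?_, ?_⟩
    · exact (Cfsg.Agent.Lib.Core.Basic.pCore_isPGroup).map _
    · intro v hv
      exact ⟨⟨v, hVJ hv⟩, h1 (mem_subgroupOf.2 hv), rfl⟩
    · have hn : (Cfsg.pCore p J).Normal := inferInstance
      rw [mem_normalizer_iff]
      intro w
      constructor
      · rintro ⟨y, hy, rfl⟩
        exact ⟨⟨g, hgJ⟩ * y * ⟨g, hgJ⟩⁻¹, hn.conj_mem y hy _, rfl⟩
      · rintro ⟨y, hy, hyw⟩
        have hw : w = ((⟨g, hgJ⟩⁻¹ * y * ⟨g, hgJ⟩ : J) : G) := by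
          have : g * w * g⁻¹ = y := hyw.symm
          rw [coe_mul, coe_mul]
          change w = g⁻¹ * (y : G) * g
          rw [← this]
          group
        refine ⟨⟨g, hgJ⟩⁻¹ * y * ⟨g, hgJ⟩, ?_, hw.symm⟩
        have := hn.conj_mem y hy (⟨g, hgJ⟩⁻¹)
        simpa using this


/-- `Sylow p G` versus maximal `p`-subgroups of `⊤`. -/
theorem maxP_top_sylow (Q : Sylow p G) : MaxP p ⊤ (Q : Subgroup G) :=
  ⟨le_top, Q.isPGroup', fun _ hQS _ hS => Q.is_maximal' hS hQS⟩

/-- A maximal `p`-subgroup of `⊤` as a Sylow subgroup. -/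
def sylowOfMaxP {Q : Subgroup G} (h : MaxP p ⊤ Q) : Sylow p G where
  toSubgroup := Q
  isPGroup' := h.2.1
  is_maximal' := fun {S} hS hle => h.2.2 S hle le_top hS

/-- Maximal `p`-subgroups of `⊤` as Sylow subgroups. -/
noncomputable def maxPTopEquiv (V : Subgroup G) :
    {Q : Subgroup G // MaxP p ⊤ Q ∧ V ≤ Q} ≃ {Q : Sylow p G // V ≤ (Q : Subgroup G)} where
  toFun Q := ⟨{ toSubgroup := Q.1, isPGroup' := Q.2.1.2.1,
                is_maximal' := fun {S} hS hle => Q.2.1.2.2 S hle le_top hS }, Q.2.2⟩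
  invFun Q := ⟨(Q.1 : Subgroup G), maxP_top_sylow Q.1, Q.2⟩
  left_inv _ := rfl
  right_inv _ := rfl

/-- The number of elements of the subnormalizer. -/
theorem card_subnormalizer {V : Subgroup G} (hV : IsPGroup p V) (P : Sylow p G) :
    Nat.card {g : G // (V.subgroupOf (V ⊔ zpowers g)).IsSubnormal} =
      Nat.card {Q : Sylow p G // V ≤ (Q : Subgroup G)} *
        Nat.card (normalizer ((P : Subgroup G) : Set G)) := by
  have h1 := main_count (p := p) (G := G) _ ⊤ rfl V le_top hV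
  have h2 : sn p ⊤ V = Nat.card {g : G // (V.subgroupOf (V ⊔ zpowers g)).IsSubnormal} := by
    refine Nat.card_congr ⟨fun g => ⟨g.1, (mem_SNS_iff hV _).1 g.2.2⟩,
      fun g => ⟨g.1, mem_top _, (mem_SNS_iff hV _).2 g.2⟩, fun _ => rfl, fun _ => rfl⟩
  have h3 : sg p ⊤ V = Nat.card {Q : Sylow p G // V ≤ (Q : Subgroup G)} :=
    Nat.card_congr (maxPTopEquiv V)
  have h4 : nm p (⊤ : Subgroup G) = Nat.card (Sylow p G) := by
    refine Nat.card_congr ⟨fun Q => sylowOfMaxP Q.2,
      fun Q => ⟨(Q : Subgroup G), maxP_top_sylow Q⟩, fun _ => rfl, fun _ => rfl⟩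
  have h5 : Nat.card (⊤ : Subgroup G) = Nat.card (Sylow p G) *
      Nat.card (normalizer ((P : Subgroup G) : Set G)) := by
    rw [Subgroup.card_top, P.card_eq_index_normalizer]
    exact (index_mul_card _).symm
  rw [h2, h3, h4, h5] at h1
  have hpos : 0 < Nat.card (Sylow p G) := Nat.card_pos
  have h6 : Nat.card (Sylow p G) * Nat.card {g : G // (V.subgroupOf (V ⊔ zpowers g)).IsSubnormal} =
      Nat.card (Sylow p G) * (Nat.card {Q : Sylow p G // V ≤ (Q : Subgroup G)} *
        Nat.card (normalizer ((P : Subgroup G) : Set G))) := by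
    rw [mul_comm, h1]; ring
  exact Nat.eq_of_mul_eq_mul_left hpos h6

/-- Fibers of constant size. -/
theorem card_of_fibers {T B : Type*} [Finite T] [Finite B] (f : T → B) (d : ℕ)
    (h : ∀ b, Nat.card {t // f t = b} = d) : Nat.card T = Nat.card B * d := by
  classical
  haveI := Fintype.ofFinite B
  haveI := Fintype.ofFinite T
  rw [Nat.card_congr (Equiv.sigmaFiberEquiv f).symm, Nat.card_sigma]
  simp only [h, Finset.sum_const, Finset.card_univ, smul_eq_mul, Nat.card_eq_fintype_card]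

theorem map_conj_eq_iff (g g₀ : G) (H : Subgroup G) :
    H.map (MulAut.conj g).toMonoidHom = H.map (MulAut.conj g₀).toMonoidHom ↔
      g₀⁻¹ * g ∈ normalizer (H : Set G) := by
  rw [mem_normalizer_iff]
  constructor
  · intro h w
    constructor
    · intro hw
      have h1 : g * w * g⁻¹ ∈ H.map (MulAut.conj g₀).toMonoidHom := by
        rw [← h]; exact ⟨w, hw, rfl⟩
      obtain ⟨v, hv, hve⟩ := h1
      have h2 : g₀ * v * g₀⁻¹ = g * w * g⁻¹ := hve
      have h3 : g₀⁻¹ * g * w * (g₀⁻¹ * g)⁻¹ = v := by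
        have : v = g₀⁻¹ * (g₀ * v * g₀⁻¹) * g₀ := by group
        rw [this, h2]; group
      rw [h3]; exact hv
    · intro hw
      have h1 : g₀ * (g₀⁻¹ * g * w * (g₀⁻¹ * g)⁻¹) * g₀⁻¹ ∈ H.map (MulAut.conj g₀).toMonoidHom :=
        ⟨_, hw, rfl⟩
      rw [← h] at h1
      obtain ⟨v, hv, hve⟩ := h1
      have h2 : g * v * g⁻¹ = g₀ * (g₀⁻¹ * g * w * (g₀⁻¹ * g)⁻¹) * g₀⁻¹ := hve
      have h3 : v = w := by
        have : g * v * g⁻¹ = g * w * g⁻¹ := by rw [h2]; group
        simpa using this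
      rwa [← h3]
  · intro h
    ext w
    constructor
    · rintro ⟨v, hv, rfl⟩
      have h1 := (h v).1 hv
      refine ⟨_, h1, ?_⟩
      change g₀ * (g₀⁻¹ * g * v * (g₀⁻¹ * g)⁻¹) * g₀⁻¹ = g * v * g⁻¹
      group
    · rintro ⟨v, hv, rfl⟩
      have h1 : g⁻¹ * g₀ * v * (g⁻¹ * g₀)⁻¹ ∈ H := by
        rw [h]
        have : g₀⁻¹ * g * (g⁻¹ * g₀ * v * (g⁻¹ * g₀)⁻¹) * (g₀⁻¹ * g)⁻¹ = v := by group
        rw [this]; exact hv
      refine ⟨_, h1, ?_⟩
      change g * (g⁻¹ * g₀ * v * (g⁻¹ * g₀)⁻¹) * g⁻¹ = g₀ * v * g₀⁻¹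
      group

/-- Double counting of `{g | g H g⁻¹ ≤ P}`. -/
theorem card_double (H : Subgroup G) (P : Sylow p G) :
    Nat.card {Q : Sylow p G // H ≤ (Q : Subgroup G)} *
        Nat.card (normalizer ((P : Subgroup G) : Set G)) =
      Nat.card {K : Subgroup G // K ≤ (P : Subgroup G) ∧
          ∃ g : G, K = H.map (MulAut.conj g).toMonoidHom} *
        Nat.card (normalizer (H : Set G)) := by
  classical
  let T := {g : G // H.map (MulAut.conj g).toMonoidHom ≤ (P : Subgroup G)}
  have hT : ∀ g : G, H.map (MulAut.conj g).toMonoidHom ≤ (P : Subgroup G) →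
      H ≤ ((g⁻¹ • P : Sylow p G) : Subgroup G) := by
    intro g hg h hh
    rw [Sylow.coe_subgroup_smul, Cfsg.Agent.Lib.Subnormal.Basic.mem_conj]
    have : g * h * g⁻¹ ∈ (P : Subgroup G) := hg ⟨h, hh, rfl⟩
    simpa using this
  have hT' : ∀ g : G, H ≤ ((g⁻¹ • P : Sylow p G) : Subgroup G) →
      H.map (MulAut.conj g).toMonoidHom ≤ (P : Subgroup G) := by
    rintro g hg _ ⟨h, hh, rfl⟩
    have := hg hh
    rw [Sylow.coe_subgroup_smul, Cfsg.Agent.Lib.Subnormal.Basic.mem_conj] at this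
    simpa using this
  let f₁ : T → {K : Subgroup G // K ≤ (P : Subgroup G) ∧
      ∃ g : G, K = H.map (MulAut.conj g).toMonoidHom} := fun t => ⟨_, t.2, t.1, rfl⟩
  let f₂ : T → {Q : Sylow p G // H ≤ (Q : Subgroup G)} := fun t => ⟨t.1⁻¹ • P, hT t.1 t.2⟩
  have h1 := card_of_fibers f₁ (Nat.card (normalizer (H : Set G))) (by
    rintro ⟨K, hKP, g₀, rfl⟩
    refine Nat.card_congr (Equiv.ofBijective
      (fun t => ⟨g₀⁻¹ * t.1.1, (map_conj_eq_iff _ _ _).1 (congrArg Subtype.val t.2)⟩) ⟨?_, ?_⟩)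
    · rintro ⟨⟨a, ha⟩, ha'⟩ ⟨⟨b, hb⟩, hb'⟩ hab
      have : g₀⁻¹ * a = g₀⁻¹ * b := congrArg Subtype.val hab
      simp only [mul_right_inj] at this
      subst this
      rfl
    · rintro ⟨n, hn⟩
      have hn' : H.map (MulAut.conj (g₀ * n)).toMonoidHom = H.map (MulAut.conj g₀).toMonoidHom :=
        (map_conj_eq_iff _ _ _).2 (by simpa using hn)
      refine ⟨⟨⟨g₀ * n, hn' ▸ hKP⟩, Subtype.ext hn'⟩, ?_⟩
      apply Subtype.ext
      simp)
  have h2 := card_of_fibers f₂ (Nat.card (normalizer ((P : Subgroup G) : Set G))) (by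
    rintro ⟨Q, hHQ⟩
    obtain ⟨h₀, hh₀⟩ : ∃ h₀ : G, h₀⁻¹ • P = Q := by
      obtain ⟨h₀, hh₀⟩ := MulAction.exists_smul_eq G P Q
      exact ⟨h₀⁻¹, by simpa using hh₀⟩
    have hst : ∀ g : G, g⁻¹ • P = Q ↔ h₀ * g⁻¹ ∈ normalizer ((P : Subgroup G) : Set G) := by
      intro g
      have key : h₀ * g⁻¹ ∈ normalizer ((P : Subgroup G) : Set G) ↔ (h₀ * g⁻¹) • P = P :=
        Sylow.smul_eq_iff_mem_normalizer.symm
      rw [key, ← hh₀, mul_smul]
      constructor
      · intro h
        rw [h, smul_inv_smul]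
      · intro h
        have := congrArg (fun S : Sylow p G => h₀⁻¹ • S) h
        simpa using this
    refine Nat.card_congr (Equiv.ofBijective
      (fun t => ⟨h₀ * t.1.1⁻¹, (hst _).1 (congrArg Subtype.val t.2)⟩) ⟨?_, ?_⟩)
    · rintro ⟨⟨a, ha⟩, ha'⟩ ⟨⟨b, hb⟩, hb'⟩ hab
      have : h₀ * a⁻¹ = h₀ * b⁻¹ := congrArg Subtype.val hab
      simp only [mul_right_inj, inv_inj] at this
      subst this
      rfl
    · rintro ⟨n, hn⟩
      have hg : (n⁻¹ * h₀)⁻¹ • P = Q := by
        rw [hst]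
        simpa using hn
      refine ⟨⟨⟨n⁻¹ * h₀, hT' _ (by rw [hg]; exact hHQ)⟩, Subtype.ext hg⟩, ?_⟩
      apply Subtype.ext
      simp)
  rw [← h1, h2]

end final

end Cfsg.Agent.Lib.FGStruct.Subnorm
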