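import Mathlib
import Cfsg.Agent.Lib.FGStruct.Subnorm
import Cfsg.Agent.Lib.Coprime.Action

/-!
# The subnormalizer count along quotients

For a surjective `f : G →* Γ` with kernel a `p`-group or a `p'`-group, the size of the subnormalizer
of a `p`-subgroup `H` of `G` versus that of `f(H)` in `Γ`.
-/

set_option autoImplicit false
set_option linter.unusedSectionVars false
set_option linter.style.haveILetI false

namespace Cfsg.Agent.Lib.FGStruct.SubnormQuot

open Subgroup Cfsg.Agent.Lib.FGStruct.Subnorm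

universe u

variable {G : Type*} [Group G] [Finite G] {p : ℕ} [Fact p.Prime]

/-- Size of the subnormalizer. -/
noncomputable def SC (H : Subgroup G) : ℕ :=
  Nat.card {g : G // (H.subgroupOf (H ⊔ zpowers g)).IsSubnormal}

/-- Number of Sylow subgroups containing `H`. -/
noncomputable def SG (p : ℕ) (H : Subgroup G) : ℕ :=
  Nat.card {Q : Sylow p G // H ≤ (Q : Subgroup G)}

theorem SG_bot : SG p (⊥ : Subgroup G) = Nat.card (Sylow p G) :=
  Nat.card_congr ⟨fun Q => Q.1, fun Q => ⟨Q, bot_le⟩, fun _ => rfl, fun _ => rfl⟩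

/-- The subnormalizer formula without normalizers. -/
theorem SC_mul {H : Subgroup G} (hH : IsPGroup p H) :
    SC H * Nat.card (Sylow p G) = SG p H * Nat.card G := by
  obtain P : Sylow p G := default
  have h1 := card_subnormalizer hH P
  have h2 : Nat.card (Sylow p G) * Nat.card (normalizer ((P : Subgroup G) : Set G)) = Nat.card G := by
    rw [P.card_eq_index_normalizer]
    exact index_mul_card _
  rw [SC, SG, h1, ← h2]
  ring

/-- The order of the image times the order of the part in the kernel. -/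
theorem card_map_mul {Γ : Type*} [Group Γ] (f : G →* Γ) (A : Subgroup G) :
    Nat.card (A.map f) * Nat.card ↥(A ⊓ f.ker) = Nat.card A := by
  have h1 : (f.comp A.subtype).ker = (f.ker).subgroupOf A := by
    ext x
    simp [MonoidHom.mem_ker, mem_subgroupOf]
  have h2 : Nat.card ↥(f.comp A.subtype).range = Nat.card (A.map f) := by
    rw [MonoidHom.range_comp, range_subtype]
  have h3 := Subgroup.card_mul_index (f.comp A.subtype).ker
  rw [index_ker, h2, h1] at h3
  have h4 : Nat.card ↥((f.ker).subgroupOf A) = Nat.card ↥(A ⊓ f.ker) := by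
    exact Nat.card_congr ⟨fun x => ⟨x.1.1, mem_inf.2 ⟨x.1.2, x.2⟩⟩,
      fun y => ⟨⟨y.1, (mem_inf.1 y.2).1⟩, (mem_inf.1 y.2).2⟩, fun _ => rfl, fun _ => rfl⟩
  rw [h4] at h3
  rw [mul_comm]
  exact h3


theorem mem_smul_sylow {g x : G} {Q : Sylow p G} :
    x ∈ ((g • Q : Sylow p G) : Subgroup G) ↔ g⁻¹ * x * g ∈ (Q : Subgroup G) := by
  rw [Sylow.coe_subgroup_smul, Cfsg.Agent.Lib.Subnormal.Basic.mem_conj]

section quot
variable {Γ : Type*} [Group Γ] (f : G →* Γ) (hf : Function.Surjective f)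

/-- Two Sylow subgroups with the same image are conjugate under the kernel. -/
theorem conj_of_same_image (Q Q' : Sylow p G)
    (h : (Q : Subgroup G).map f = (Q' : Subgroup G).map f) : ∃ n ∈ f.ker, n • Q = Q' := by
  set N := f.ker with hN
  haveI : N.Normal := f.normal_ker
  set M := N ⊔ (Q : Subgroup G) with hM
  have hQM : (Q : Subgroup G) ≤ M := le_sup_right
  have hQ'M : (Q' : Subgroup G) ≤ M := by
    intro x hx
    have h1 : f x ∈ (Q : Subgroup G).map f := by rw [h]; exact ⟨x, hx, rfl⟩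
    obtain ⟨q, hq, hqx⟩ := h1
    rw [hM, mem_sup_of_normal_left]
    refine ⟨x * q⁻¹, ?_, q, hq, by group⟩
    rw [hN, MonoidHom.mem_ker, map_mul, map_inv, hqx]
    group
  have hidx : ∀ R : Sylow p G, (R : Subgroup G) ≤ M → ¬ p ∣ (R : Subgroup G).relIndex M := by
    intro R hR hd
    apply R.not_dvd_index
    rw [← relIndex_mul_index hR]
    exact hd.trans (dvd_mul_right _ _)
  obtain ⟨m, hm, hmc⟩ := Cfsg.Agent.Lib.Coprime.SchurZassenhaus.exists_conj_of_sylow_like M
    (Q : Subgroup G) (Q' : Subgroup G) p hQM hQ'M Q.isPGroup' Q'.isPGroup' (hidx Q hQM) (hidx Q' hQ'M)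
  rw [hM, mem_sup_of_normal_left] at hm
  obtain ⟨n, hn, q, hq, rfl⟩ := hm
  refine ⟨n, hn, ?_⟩
  apply Sylow.ext
  ext x
  rw [mem_smul_sylow, ← hmc, Cfsg.Agent.Lib.Subnormal.Basic.mem_conj]
  have hq' : (q : G) ∈ normalizer ((Q : Subgroup G) : Set G) := le_normalizer hq
  have := mem_normalizer_iff.1 (inv_mem hq') (n⁻¹ * x * n)
  rw [this]
  constructor <;> intro h' <;> simpa [mul_assoc] using h'

/-- Image of a Sylow subgroup containing `H`. -/
noncomputable def imgY (H : Subgroup G) :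
    {Q : Sylow p G // H ≤ (Q : Subgroup G)} → {Q : Sylow p Γ // H.map f ≤ (Q : Subgroup Γ)} :=
  fun Q => ⟨Q.1.mapSurjective hf, map_mono Q.2⟩

theorem exists_lift {H : Subgroup G} (hH : IsPGroup p H) (b : Sylow p Γ)
    (hb : H.map f ≤ (b : Subgroup Γ)) : ∃ Q : Sylow p G, H ≤ (Q : Subgroup G) ∧
      Q.mapSurjective hf = b := by
  obtain ⟨Q₁, hQ₁⟩ := Sylow.mapSurjective_surjective hf p b
  set N := f.ker with hN
  haveI : N.Normal := f.normal_ker
  set M := N ⊔ (Q₁ : Subgroup G) with hM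
  have hQM : (Q₁ : Subgroup G) ≤ M := le_sup_right
  have hmemM : ∀ x, f x ∈ (b : Subgroup Γ) → x ∈ M := by
    intro x hx
    rw [← hQ₁] at hx
    obtain ⟨q, hq, hqx⟩ := hx
    rw [hM, mem_sup_of_normal_left]
    refine ⟨x * q⁻¹, ?_, q, hq, by group⟩
    rw [hN, MonoidHom.mem_ker, map_mul, map_inv, hqx]
    group
  have hHM : H ≤ M := fun x hx => hmemM x (hb ⟨x, hx, rfl⟩)
  have hH' : IsPGroup p (H.subgroupOf M) := hH.of_equiv (subgroupOfEquivOfLe hHM).symm
  obtain ⟨S, hS⟩ := hH'.exists_le_sylow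
  have hSi := Cfsg.Agent.Lib.Coprime.Action.isSylowIn_map S
  have hidx : ¬ p ∣ (Q₁ : Subgroup G).relIndex M := by
    intro hd
    apply Q₁.not_dvd_index
    rw [← relIndex_mul_index hQM]
    exact hd.trans (dvd_mul_right _ _)
  obtain ⟨m, hm, hmc⟩ := Cfsg.Agent.Lib.Coprime.SchurZassenhaus.exists_conj_of_sylow_like M
    (Q₁ : Subgroup G) ((S : Subgroup M).map M.subtype) p hQM hSi.1 Q₁.isPGroup' hSi.2.1 hidx hSi.2.2
  rw [hM, mem_sup_of_normal_left] at hm
  obtain ⟨n, hn, q, hq, rfl⟩ := hm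
  refine ⟨n • Q₁, ?_, ?_⟩
  · intro x hx
    have h1 : x ∈ (S : Subgroup M).map M.subtype := ⟨⟨x, hHM hx⟩, hS hx, rfl⟩
    rw [← hmc, Cfsg.Agent.Lib.Subnormal.Basic.mem_conj] at h1
    rw [mem_smul_sylow]
    have hq' : (q : G) ∈ normalizer ((Q₁ : Subgroup G) : Set G) := le_normalizer hq
    have := mem_normalizer_iff.1 (inv_mem hq') (n⁻¹ * x * n)
    rw [this]
    simpa [mul_assoc] using h1
  · apply Sylow.ext
    rw [← hQ₁]
    simp only [Sylow.coe_mapSurjective]
    ext y
    constructor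
    · rintro ⟨x, hx, rfl⟩
      have hx' : x ∈ ((n • Q₁ : Sylow p G) : Subgroup G) := hx
      rw [mem_smul_sylow] at hx'
      refine ⟨_, hx', ?_⟩
      have hn1 : f n = 1 := hn
      simp [hn1]
    · rintro ⟨x, hx, rfl⟩
      refine ⟨n * x * n⁻¹, ?_, ?_⟩
      · change _ ∈ ((n • Q₁ : Sylow p G) : Subgroup G)
        rw [mem_smul_sylow]
        have e : n⁻¹ * (n * x * n⁻¹) * n = x := by group
        rw [e]; exact hx
      · have hn1 : f n = 1 := hn
        simp [hn1]


omit [Finite G] [Fact p.Prime] in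
theorem mem_normalizer_of_mem_centralizer {Q : Subgroup G} {d : G}
    (h : d ∈ centralizer (Q : Set G)) : d ∈ normalizer (Q : Set G) := by
  rw [mem_normalizer_iff]
  intro w
  constructor
  · intro hw
    have hc := mem_centralizer_iff.1 h w hw
    have : d * w * d⁻¹ = w := by rw [← hc]; group
    rw [this]; exact hw
  · intro hw
    have hc := mem_centralizer_iff.1 h _ hw
    have e : d * (d * w * d⁻¹) * d⁻¹ = d * w * d⁻¹ := by
      rw [← hc]; group
    have : w = d * w * d⁻¹ := by
      have := congrArg (fun x => d⁻¹ * x * d) e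
      simpa [mul_assoc] using this.symm
    rw [this]; exact hw

/-- Variant of constant-fibre counting. -/
theorem card_mul_of_fibers {T B : Type*} [Finite T] [Finite B] (φ : T → B) (e d : ℕ)
    (h : ∀ b, Nat.card {t // φ t = b} * e = d) : Nat.card T * e = Nat.card B * d := by
  classical
  haveI := Fintype.ofFinite B
  haveI := Fintype.ofFinite T
  rw [Nat.card_congr (Equiv.sigmaFiberEquiv φ).symm, Nat.card_sigma, Finset.sum_mul,
    Finset.sum_congr rfl (fun b _ => h b), Finset.sum_const, Finset.card_univ, smul_eq_mul,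
    Nat.card_eq_fintype_card (α := B)]

section coprime

variable (hcop : (Nat.card f.ker).Coprime p)
include hcop

theorem eq_one_of_mem_inf {Q : Subgroup G} (hQ : IsPGroup p Q) {x : G} (hxQ : x ∈ Q)
    (hxN : x ∈ f.ker) : x = 1 := by
  obtain ⟨k, hk⟩ := IsPGroup.iff_card.1 hQ
  have h1 : orderOf x ∣ p ^ k := hk ▸ Subgroup.orderOf_dvd_natCard Q hxQ
  have h2 : orderOf x ∣ Nat.card f.ker := Subgroup.orderOf_dvd_natCard _ hxN
  have h3 : (p ^ k).Coprime (Nat.card f.ker) := Nat.Coprime.pow_left _ hcop.symm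
  exact orderOf_eq_one_iff.1 (Nat.eq_one_of_dvd_coprimes h3 h1 h2)

/-- Elements of the kernel normalizing a `p`-subgroup centralize it. -/
theorem mem_centralizer_of_mem_normalizer {Q : Subgroup G} (hQ : IsPGroup p Q) {n : G}
    (hn : n ∈ f.ker) (hnQ : n ∈ normalizer (Q : Set G)) : n ∈ centralizer (Q : Set G) := by
  rw [mem_centralizer_iff]
  intro q hq
  have h1 : n * q * n⁻¹ ∈ Q := (mem_normalizer_iff.1 hnQ q).1 hq
  have h2 : (n * q * n⁻¹) * q⁻¹ ∈ Q := mul_mem h1 (inv_mem hq)
  have h3 : (n * q * n⁻¹) * q⁻¹ ∈ f.ker := by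
    have hn1 : f n = 1 := hn
    simp [MonoidHom.mem_ker, hn1]
  have h4 := eq_one_of_mem_inf f hcop hQ h2 h3
  have : n * q * n⁻¹ = q := by
    have := mul_inv_eq_one.1 h4
    exact this
  calc q * n = (n * q * n⁻¹) * n := by rw [this]
    _ = n * q := by group

/-- The centralizers in the kernel of two Sylow subgroups have the same order. -/
theorem card_centralizer_sylow (P Q : Sylow p G) :
    Nat.card ↥(f.ker ⊓ centralizer ((Q : Subgroup G) : Set G)) =
      Nat.card ↥(f.ker ⊓ centralizer ((P : Subgroup G) : Set G)) := by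
  obtain ⟨g, rfl⟩ := MulAction.exists_smul_eq G P Q
  have hconj : ∀ {g x : G}, x ∈ f.ker → g * x * g⁻¹ ∈ f.ker := by
    intro g x hx
    have hx1 : f x = 1 := hx
    simp [MonoidHom.mem_ker, hx1]
  refine Nat.card_congr ⟨fun c => ⟨g⁻¹ * c.1 * g, mem_inf.2 ⟨?_, ?_⟩⟩,
    fun c => ⟨g * c.1 * g⁻¹, mem_inf.2 ⟨?_, ?_⟩⟩, ?_, ?_⟩
  · simpa using hconj (g := g⁻¹) (mem_inf.1 c.2).1
  · rw [mem_centralizer_iff]
    intro q hq
    have hc := mem_centralizer_iff.1 (mem_inf.1 c.2).2 (g * q * g⁻¹) (by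
      change _ ∈ ((g • P : Sylow p G) : Subgroup G)
      rw [mem_smul_sylow]
      have e : g⁻¹ * (g * q * g⁻¹) * g = q := by group
      rw [e]; exact hq)
    have h2 : q * (g⁻¹ * c.1 * g) = g⁻¹ * ((g * q * g⁻¹) * c.1) * g := by group
    rw [h2, hc]
    group
  · exact hconj (mem_inf.1 c.2).1
  · rw [mem_centralizer_iff]
    intro q hq
    have hq' : g⁻¹ * q * g ∈ (P : Subgroup G) := mem_smul_sylow.1 hq
    have hc := mem_centralizer_iff.1 (mem_inf.1 c.2).2 (g⁻¹ * q * g) hq'
    have h2 : q * (g * c.1 * g⁻¹) = g * ((g⁻¹ * q * g) * c.1) * g⁻¹ := by group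
    rw [h2, hc]
    group
  · intro c
    apply Subtype.ext
    simp [mul_assoc]
  · intro c
    apply Subtype.ext
    simp [mul_assoc]

/-- Fibre count in the coprime case. -/
theorem fiber_card {H : Subgroup G} (hH : IsPGroup p H) (P : Sylow p G)
    (b : {Q : Sylow p Γ // H.map f ≤ (Q : Subgroup Γ)}) :
    Nat.card {t : {Q : Sylow p G // H ≤ (Q : Subgroup G)} // imgY f hf H t = b} *
        Nat.card ↥(f.ker ⊓ centralizer ((P : Subgroup G) : Set G)) =
      Nat.card ↥(f.ker ⊓ centralizer (H : Set G)) := by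
  classical
  obtain ⟨Q₀, hHQ₀, hQ₀b⟩ := exists_lift f hf hH b.1 b.2
  rw [← card_centralizer_sylow f hcop P Q₀]
  set C := f.ker ⊓ centralizer (H : Set G) with hC
  have hmem : ∀ c : C, H ≤ (((c : G) • Q₀ : Sylow p G) : Subgroup G) := by
    intro c h hh
    rw [mem_smul_sylow]
    have hc := mem_centralizer_iff.1 (mem_inf.1 c.2).2 h hh
    have : (c : G)⁻¹ * h * c = h := by
      rw [mul_assoc, hc]; group
    rw [this]
    exact hHQ₀ hh
  have himg : ∀ n ∈ f.ker, (n • Q₀).mapSurjective hf = Q₀.mapSurjective hf := by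
    intro n hn
    apply Sylow.ext
    simp only [Sylow.coe_mapSurjective]
    have hn1 : f n = 1 := hn
    ext y
    constructor
    · rintro ⟨x, hx, rfl⟩
      have hx' : x ∈ ((n • Q₀ : Sylow p G) : Subgroup G) := hx
      rw [mem_smul_sylow] at hx'
      refine ⟨_, hx', ?_⟩
      simp [hn1]
    · rintro ⟨x, hx, rfl⟩
      refine ⟨n * x * n⁻¹, ?_, ?_⟩
      · change _ ∈ ((n • Q₀ : Sylow p G) : Subgroup G)
        rw [mem_smul_sylow]
        have e : n⁻¹ * (n * x * n⁻¹) * n = x := by group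
        rw [e]; exact hx
      · simp [hn1]
  let φ : C → {t : {Q : Sylow p G // H ≤ (Q : Subgroup G)} // imgY f hf H t = b} := fun c =>
    ⟨⟨(c : G) • Q₀, hmem c⟩, by
      apply Subtype.ext
      change ((c : G) • Q₀).mapSurjective hf = b.1
      rw [himg _ (mem_inf.1 c.2).1, hQ₀b]⟩
  have hφ : ∀ t, ∃ c : C, φ c = t := by
    rintro ⟨⟨Q', hHQ'⟩, hQ'b⟩
    have h1 : (Q₀ : Subgroup G).map f = (Q' : Subgroup G).map f := by
      have h2 : Q₀.mapSurjective hf = Q'.mapSurjective hf := by
        rw [hQ₀b]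
        exact (congrArg Subtype.val hQ'b).symm
      exact congrArg (fun S : Sylow p Γ => (S : Subgroup Γ)) h2
    obtain ⟨n, hn, hnQ⟩ := conj_of_same_image f Q₀ Q' h1
    have hnC : n ∈ centralizer (H : Set G) := by
      rw [mem_centralizer_iff]
      intro h hh
      have h2 : h ∈ ((n • Q₀ : Sylow p G) : Subgroup G) := by rw [hnQ]; exact hHQ' hh
      rw [mem_smul_sylow] at h2
      have h3 : (n⁻¹ * h * n) * h⁻¹ ∈ (Q₀ : Subgroup G) := mul_mem h2 (inv_mem (hHQ₀ hh))
      have h4 : (n⁻¹ * h * n) * h⁻¹ ∈ f.ker := by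
        have hn1 : f n = 1 := hn
        simp [MonoidHom.mem_ker, hn1]
      have h5 := eq_one_of_mem_inf f hcop Q₀.isPGroup' h3 h4
      have h6 : n⁻¹ * h * n = h := mul_inv_eq_one.1 h5
      calc h * n = n * (n⁻¹ * h * n) := by group
        _ = n * h := by rw [h6]
    refine ⟨⟨n, mem_inf.2 ⟨hn, hnC⟩⟩, ?_⟩
    apply Subtype.ext
    apply Subtype.ext
    exact hnQ
  have hcard := card_of_fibers φ (Nat.card ↥(f.ker ⊓ centralizer ((Q₀ : Subgroup G) : Set G))) (by
    intro t
    obtain ⟨c₀, rfl⟩ := hφ t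
    have hle : f.ker ⊓ centralizer ((Q₀ : Subgroup G) : Set G) ≤ C := by
      refine inf_le_inf_left _ ?_
      exact centralizer_le hHQ₀
    have hiff : ∀ c : C, φ c = φ c₀ ↔ (c₀ : G)⁻¹ * c ∈ f.ker ⊓ centralizer ((Q₀ : Subgroup G) : Set G) := by
      intro c
      constructor
      · intro h
        have h1 : (c : G) • Q₀ = (c₀ : G) • Q₀ := congrArg (fun t => t.1.1) h
        have h2 : ((c₀ : G)⁻¹ * c) • Q₀ = Q₀ := by
          rw [mul_smul, h1, inv_smul_smul]
        have h3 : (c₀ : G)⁻¹ * c ∈ f.ker := mul_mem (inv_mem (mem_inf.1 c₀.2).1) (mem_inf.1 c.2).1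
        have h4 : (c₀ : G)⁻¹ * c ∈ normalizer ((Q₀ : Subgroup G) : Set G) :=
          Sylow.smul_eq_iff_mem_normalizer.1 h2
        exact mem_inf.2 ⟨h3, mem_centralizer_of_mem_normalizer f hcop Q₀.isPGroup' h3 h4⟩
      · intro h
        have h2 : ((c₀ : G)⁻¹ * c) • Q₀ = Q₀ :=
          Sylow.smul_eq_iff_mem_normalizer.2 (mem_normalizer_of_mem_centralizer (mem_inf.1 h).2)
        apply Subtype.ext
        apply Subtype.ext
        change (c : G) • Q₀ = (c₀ : G) • Q₀
        calc (c : G) • Q₀ = (c₀ : G) • (((c₀ : G)⁻¹ * c) • Q₀) := by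
              rw [smul_smul]; simp
          _ = (c₀ : G) • Q₀ := by rw [h2]
    refine Nat.card_congr ⟨fun c => ⟨(c₀ : G)⁻¹ * c.1, (hiff c.1).1 c.2⟩,
      fun d => ⟨⟨(c₀ : G) * d.1, mul_mem c₀.2 (hle d.2)⟩, (hiff _).2 (by simpa using d.2)⟩, ?_, ?_⟩
    · intro c
      apply Subtype.ext
      apply Subtype.ext
      simp
    · intro d
      apply Subtype.ext
      simp)
  rw [hcard]


include hf in
/-- Coprime kernel: the count of Sylow subgroups containing `H`. -/
theorem SG_mul_coprime {H : Subgroup G} (hH : IsPGroup p H) (P : Sylow p G) :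
    SG p H * Nat.card ↥(f.ker ⊓ centralizer ((P : Subgroup G) : Set G)) =
      SG p (H.map f) * Nat.card ↥(f.ker ⊓ centralizer (H : Set G)) := by
  haveI : Finite Γ := Finite.of_surjective f hf
  exact card_mul_of_fibers (imgY f hf H) _ _ (fiber_card f hf hcop hH P)

include hf in
/-- Coprime kernel: the size of the subnormalizer. -/
theorem SC_coprime {H : Subgroup G} (hH : IsPGroup p H) :
    SC H = SC (H.map f) * Nat.card ↥(f.ker ⊓ centralizer (H : Set G)) := by
  haveI : Finite Γ := Finite.of_surjective f hf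
  obtain P : Sylow p G := default
  set e := Nat.card ↥(f.ker ⊓ centralizer ((P : Subgroup G) : Set G)) with he
  set C := Nat.card ↥(f.ker ⊓ centralizer (H : Set G)) with hC
  have H1 := SG_mul_coprime f hf hcop hH P
  have H2 := SG_mul_coprime f hf hcop (IsPGroup.of_bot : IsPGroup p (⊥ : Subgroup G)) P
  have hbot : (⊥ : Subgroup G).map f = ⊥ := map_bot f
  have hcent : f.ker ⊓ centralizer (((⊥ : Subgroup G) : Subgroup G) : Set G) = f.ker := by
    rw [inf_eq_left]
    intro x _
    rw [mem_centralizer_iff]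
    intro h hh
    have : h = 1 := hh
    simp [this]
  rw [hbot, hcent, SG_bot, SG_bot] at H2
  have hG : Nat.card G = Nat.card Γ * Nat.card f.ker := by
    have h1 := card_map_mul f (⊤ : Subgroup G)
    rw [top_inf_eq, Subgroup.card_top, ← MonoidHom.range_eq_map,
      MonoidHom.range_eq_top.2 hf, Subgroup.card_top] at h1
    exact h1.symm
  have h1 := SC_mul hH
  have h2 := SC_mul (hH.map f)
  have hpos : 0 < Nat.card (Sylow p G) * e := Nat.mul_pos Nat.card_pos Nat.card_pos
  refine Nat.eq_of_mul_eq_mul_right hpos ?_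
  calc SC H * (Nat.card (Sylow p G) * e) = (SC H * Nat.card (Sylow p G)) * e := by ring
    _ = (SG p H * Nat.card G) * e := by rw [h1]
    _ = (SG p H * e) * Nat.card G := by ring
    _ = (SG p (H.map f) * C) * (Nat.card Γ * Nat.card f.ker) := by rw [H1, hG]
    _ = (SG p (H.map f) * Nat.card Γ) * C * Nat.card f.ker := by ring
    _ = (SC (H.map f) * Nat.card (Sylow p Γ)) * C * Nat.card f.ker := by rw [h2]
    _ = (SC (H.map f) * C) * (Nat.card (Sylow p Γ) * Nat.card f.ker) := by ring
    _ = (SC (H.map f) * C) * (Nat.card (Sylow p G) * e) := by rw [H2]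

/-- A Sylow subgroup embeds in the quotient by a coprime kernel. -/
theorem card_map_sylow_coprime (P : Sylow p G) :
    Nat.card ((P : Subgroup G).map f) = Nat.card P := by
  have h := card_map_mul f (P : Subgroup G)
  have hb : (P : Subgroup G) ⊓ f.ker = ⊥ := by
    rw [eq_bot_iff]
    intro x hx
    exact eq_one_of_mem_inf f hcop P.isPGroup' (mem_inf.1 hx).1 (mem_inf.1 hx).2
  rw [hb, Subgroup.card_bot, mul_one] at h
  exact h

end coprime

section pgroup

variable (hN : IsPGroup p f.ker)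
include hN

include hf in
theorem SG_pgroup {H : Subgroup G} (hH : IsPGroup p H) : SG p H = SG p (H.map f) := by
  haveI : Finite Γ := Finite.of_surjective f hf
  haveI : f.ker.Normal := f.normal_ker
  refine Nat.card_congr (Equiv.ofBijective (imgY f hf H) ⟨?_, ?_⟩)
  · rintro ⟨Q, hQ⟩ ⟨Q', hQ'⟩ h
    have h1 : (Q : Subgroup G).map f = (Q' : Subgroup G).map f :=
      congrArg (fun S : {Q : Sylow p Γ // H.map f ≤ (Q : Subgroup Γ)} => (S.1 : Subgroup Γ)) h
    apply Subtype.ext
    apply Sylow.ext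
    have h2 : f.ker ≤ (Q : Subgroup G) := hN.le_sylow_of_normal Q
    have h3 : f.ker ≤ (Q' : Subgroup G) := hN.le_sylow_of_normal Q'
    rw [← comap_map_eq_self h2, h1, comap_map_eq_self h3]
  · rintro ⟨b, hb⟩
    obtain ⟨Q, hQ, hQb⟩ := exists_lift f hf hH b hb
    exact ⟨⟨Q, hQ⟩, Subtype.ext hQb⟩

include hf in
theorem SC_pgroup {H : Subgroup G} (hH : IsPGroup p H) :
    SC H = SC (H.map f) * Nat.card f.ker := by
  haveI : Finite Γ := Finite.of_surjective f hf
  have H1 := SG_pgroup f hf hN hH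
  have H2 := SG_pgroup f hf hN (IsPGroup.of_bot : IsPGroup p (⊥ : Subgroup G))
  rw [Subgroup.map_bot, SG_bot, SG_bot] at H2
  have hG : Nat.card G = Nat.card Γ * Nat.card f.ker := by
    have h1 := card_map_mul f (⊤ : Subgroup G)
    rw [top_inf_eq, Subgroup.card_top, ← MonoidHom.range_eq_map,
      MonoidHom.range_eq_top.2 hf, Subgroup.card_top] at h1
    exact h1.symm
  have h1 := SC_mul hH
  have h2 := SC_mul (hH.map f)
  have hpos : 0 < Nat.card (Sylow p G) := Nat.card_pos
  refine Nat.eq_of_mul_eq_mul_right hpos ?_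
  calc SC H * Nat.card (Sylow p G) = SG p (H.map f) * (Nat.card Γ * Nat.card f.ker) := by
        rw [h1, H1, hG]
    _ = (SG p (H.map f) * Nat.card Γ) * Nat.card f.ker := by ring
    _ = (SC (H.map f) * Nat.card (Sylow p Γ)) * Nat.card f.ker := by rw [h2]
    _ = SC (H.map f) * Nat.card f.ker * Nat.card (Sylow p G) := by rw [H2]; ring

theorem card_map_sylow_pgroup (P : Sylow p G) :
    Nat.card ((P : Subgroup G).map f) * Nat.card f.ker = Nat.card P := by
  haveI : f.ker.Normal := f.normal_ker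
  have h := card_map_mul f (P : Subgroup G)
  have hb : (P : Subgroup G) ⊓ f.ker = f.ker := inf_eq_right.2 (hN.le_sylow_of_normal P)
  rw [hb] at h
  exact h

end pgroup

/-- Preimages of subsets along a surjection. -/
theorem card_preimage {Γ' : Type*} [Group Γ'] [Finite Γ'] (f' : G →* Γ') (hf' : Function.Surjective f')
    (Pr : Γ' → Prop) :
    Nat.card {u : G // Pr (f' u)} = Nat.card {b : Γ' // Pr b} * Nat.card f'.ker := by
  refine card_of_fibers (fun u : {u : G // Pr (f' u)} => (⟨f' u.1, u.2⟩ : {b : Γ' // Pr b})) _ ?_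
  rintro ⟨b, hb⟩
  obtain ⟨u₀, rfl⟩ := hf' b
  refine Nat.card_congr ⟨fun t => ⟨u₀⁻¹ * t.1.1, ?_⟩, fun n => ⟨⟨u₀ * n.1, ?_⟩, ?_⟩, ?_, ?_⟩
  · have h1 : f' t.1.1 = f' u₀ := congrArg Subtype.val t.2
    simp [MonoidHom.mem_ker, h1]
  · have h1 : f' n.1 = 1 := n.2
    simpa [h1] using hb
  · have h1 : f' n.1 = 1 := n.2
    apply Subtype.ext
    simp [h1]
  · intro t
    apply Subtype.ext
    apply Subtype.ext
    simp
  · intro n
    apply Subtype.ext
    simp

end quot

/-- The factor attached to a section of the chain. -/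
noncomputable def fac (p : ℕ) (H A B : Subgroup G) : ℕ :=
  if (A.relIndex B).Coprime p then
    Nat.card {u : G // u ∈ B ∧ ∀ h ∈ H, h * u * h⁻¹ * u⁻¹ ∈ A} / Nat.card A else 1

theorem fac_map {Γ : Type*} [Group Γ] (f : G →* Γ) (hf : Function.Surjective f) (H A B : Subgroup G)
    (hA : f.ker ≤ A) (hB : f.ker ≤ B) :
    fac p (H.map f) (A.map f) (B.map f) = fac p H A B := by
  haveI : Finite Γ := Finite.of_surjective f hf
  have hrel : (A.map f).relIndex (B.map f) = A.relIndex B := by
    rw [relIndex_map_map, sup_eq_left.2 hA, sup_eq_left.2 hB]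
  have hX : Nat.card {u : G // u ∈ B ∧ ∀ h ∈ H, h * u * h⁻¹ * u⁻¹ ∈ A} =
      Nat.card {v : Γ // v ∈ B.map f ∧ ∀ h ∈ H.map f, h * v * h⁻¹ * v⁻¹ ∈ A.map f} *
        Nat.card f.ker := by
    rw [← card_preimage f hf (fun v : Γ => v ∈ B.map f ∧ ∀ h ∈ H.map f, h * v * h⁻¹ * v⁻¹ ∈ A.map f)]
    refine Nat.card_congr (Equiv.subtypeEquivRight ?_)
    intro u
    have hmem : ∀ {D : Subgroup G}, f.ker ≤ D → ∀ x : G, f x ∈ D.map f ↔ x ∈ D := by
      intro D hD x
      rw [← mem_comap, comap_map_eq_self hD]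
    rw [hmem hB]
    refine and_congr_right fun _ => ?_
    constructor
    · rintro h₀ _ ⟨h, hh, rfl⟩
      have := (hmem hA _).2 (h₀ h hh)
      simpa using this
    · intro h₀ h hh
      have := h₀ (f h) ⟨h, hh, rfl⟩
      rw [← hmem hA]
      simpa using this
  have hAc : Nat.card A = Nat.card (A.map f) * Nat.card f.ker := by
    have h := card_map_mul f A
    rw [inf_eq_right.2 hA] at h
    exact h.symm
  unfold fac
  rw [hrel, hX, hAc]
  split_ifs
  · exact (Nat.mul_div_mul_right _ _ (Nat.card_pos : 0 < Nat.card f.ker)).symm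
  · rfl

/-- The chain formula for the subnormalizer. -/
theorem chain_formula (n : ℕ) : ∀ {G : Type u} [Group G] [Finite G] (H : Subgroup G)
    (_hH : IsPGroup p H) (P : Sylow p G) (M : Fin (n + 1) → Subgroup G) (_h0 : M 0 = ⊥)
    (_hn : M (Fin.last n) = ⊤) (_hmono : Monotone M) (_hnormal : ∀ i, (M i).Normal)
    (_hfac : ∀ i : Fin n, (∃ m : ℕ, (M i.castSucc).relIndex (M i.succ) = p ^ m) ∨
      ((M i.castSucc).relIndex (M i.succ)).Coprime p),
    SC H = Nat.card (P : Subgroup G) * ∏ i : Fin n, fac p H (M i.castSucc) (M i.succ) := by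
  induction n with
  | zero =>
    intro G _ _ H hH P M h0 hn _ _ _
    have htop : (⊥ : Subgroup G) = ⊤ := by rw [← h0, ← hn]; rfl
    haveI hs : Subsingleton G := by
      refine ⟨fun a b => ?_⟩
      have ha : a ∈ (⊥ : Subgroup G) := by rw [htop]; trivial
      have hb : b ∈ (⊥ : Subgroup G) := by rw [htop]; trivial
      rw [mem_bot.1 ha, mem_bot.1 hb]
    have h1 : SC H = 1 := by
      rw [SC, Nat.card_eq_one_iff_unique]
      refine ⟨inferInstance, ⟨⟨1, ?_⟩⟩⟩
      have : H.subgroupOf (H ⊔ zpowers (1 : G)) = ⊤ := by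
        ext x
        have : x = 1 := Subsingleton.elim _ _
        simp [this, one_mem]
      rw [this]
      exact Subgroup.IsSubnormal.top
    have h2 : Nat.card (P : Subgroup G) = 1 := by
      rw [Nat.card_eq_one_iff_unique]
      exact ⟨inferInstance, ⟨1⟩⟩
    simp only [h1, h2, Fin.prod_univ_zero, mul_one]
  | succ n ih =>
    intro G _ _ H hH P M h0 hn hmono hnormal hfac
    set N := M (0 : Fin (n + 1)).succ with hN
    haveI hNn : N.Normal := hnormal _
    let f : G →* G ⧸ N := QuotientGroup.mk' N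
    have hf : Function.Surjective f := QuotientGroup.mk'_surjective N
    have hker : f.ker = N := QuotientGroup.ker_mk' N
    have hNle : ∀ i : Fin (n + 1), N ≤ M i.succ := fun i =>
      hmono (Fin.succ_le_succ_iff.2 (Fin.zero_le _))
    let M' : Fin (n + 1) → Subgroup (G ⧸ N) := fun i => (M i.succ).map f
    have hM'0 : M' 0 = ⊥ := by
      change N.map f = ⊥
      rw [eq_bot_iff]
      rintro _ ⟨x, hx, rfl⟩
      have : x ∈ f.ker := by rw [hker]; exact hx
      exact this
    have hM'n : M' (Fin.last n) = ⊤ := by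
      change (M (Fin.last n).succ).map f = ⊤
      rw [Fin.succ_last, hn, ← MonoidHom.range_eq_map]
      exact MonoidHom.range_eq_top.2 hf
    have hmono' : Monotone M' := fun i j hij =>
      map_mono (hmono (Fin.succ_le_succ_iff.2 hij))
    have hnormal' : ∀ i, (M' i).Normal := fun i => by
      haveI := hnormal i.succ
      exact Subgroup.Normal.map inferInstance f hf
    have hrel : ∀ i : Fin n, (M' i.castSucc).relIndex (M' i.succ) =
        (M i.succ.castSucc).relIndex (M i.succ.succ) := by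
      intro i
      change ((M i.castSucc.succ).map f).relIndex ((M i.succ.succ).map f) = _
      rw [relIndex_map_map, hker, sup_eq_left.2 (hNle _), sup_eq_left.2 (hNle _),
        Fin.succ_castSucc]
    have hfac' : ∀ i : Fin n, (∃ m : ℕ, (M' i.castSucc).relIndex (M' i.succ) = p ^ m) ∨
        ((M' i.castSucc).relIndex (M' i.succ)).Coprime p := by
      intro i
      rw [hrel]
      exact hfac i.succ
    have IH := ih (H.map f) (hH.map f) (P.mapSurjective hf) M' hM'0 hM'n hmono' hnormal' hfac'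
    have hfacs : ∀ i : Fin n, fac p (H.map f) (M' i.castSucc) (M' i.succ) =
        fac p H (M i.succ.castSucc) (M i.succ.succ) := by
      intro i
      change fac p (H.map f) ((M i.castSucc.succ).map f) ((M i.succ.succ).map f) = _
      rw [fac_map f hf H _ _ (by rw [hker]; exact hNle _) (by rw [hker]; exact hNle _),
        Fin.succ_castSucc]
    rw [Fin.prod_univ_succ]
    have hbot : M (0 : Fin (n + 1)).castSucc = ⊥ := by
      rw [Fin.castSucc_zero]; exact h0
    rw [Finset.prod_congr rfl (fun i _ => (hfacs i).symm), hbot]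
    have hrel0 : (⊥ : Subgroup G).relIndex (M (0 : Fin (n + 1)).succ) = Nat.card N := by
      rw [relIndex_bot_left]
    have hfirst := hfac 0
    rw [hbot, hrel0] at hfirst
    by_cases hc : (Nat.card N).Coprime p
    · have hc' : (Nat.card f.ker).Coprime p := by rw [hker]; exact hc
      have e1 := SC_coprime f hf hc' hH
      have e2 := card_map_sylow_coprime f hc' P
      have hfac0 : fac p H ⊥ (M (0 : Fin (n + 1)).succ) =
          Nat.card ↥(f.ker ⊓ centralizer (H : Set G)) := by
        unfold fac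
        rw [hrel0, if_pos hc, Subgroup.card_bot, Nat.div_one, hker]
        refine Nat.card_congr ⟨fun u => ⟨u.1, mem_inf.2 ⟨u.2.1, ?_⟩⟩,
          fun u => ⟨u.1, (mem_inf.1 u.2).1, ?_⟩, fun _ => rfl, fun _ => rfl⟩
        · rw [mem_centralizer_iff]
          intro h hh
          have h1 := u.2.2 h hh
          have h2 : h * u.1 * h⁻¹ * (u.1)⁻¹ = 1 := h1
          have h3 : h * u.1 * h⁻¹ = u.1 := mul_inv_eq_one.1 h2
          calc h * u.1 = (h * u.1 * h⁻¹) * h := by group
            _ = u.1 * h := by rw [h3]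
        · intro h hh
          have hc2 := mem_centralizer_iff.1 (mem_inf.1 u.2).2 h hh
          have : h * u.1 * h⁻¹ * (u.1)⁻¹ = 1 := by rw [hc2]; group
          rw [this]; exact one_mem _
      rw [e1, IH, hfac0]
      change _ = Nat.card (P : Subgroup G) * _
      rw [show Nat.card ((P.mapSurjective hf : Sylow p (G ⧸ N)) : Subgroup (G ⧸ N)) =
        Nat.card (P : Subgroup G) from e2]
      ring
    · obtain ⟨m, hm⟩ := hfirst.resolve_right hc
      have hNp : IsPGroup p f.ker := by
        rw [hker]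
        exact IsPGroup.of_card hm
      have e1 := SC_pgroup f hf hNp hH
      have e2 := card_map_sylow_pgroup f hNp P
      have hfac0 : fac p H ⊥ (M (0 : Fin (n + 1)).succ) = 1 := by
        unfold fac
        rw [hrel0, if_neg hc]
      rw [e1, IH, hfac0, hker]
      rw [hker] at e2
      rw [← e2]
      change Nat.card ((P.mapSurjective hf : Sylow p (G ⧸ N)) : Subgroup (G ⧸ N)) * _ * _ = _
      have : ((P.mapSurjective hf : Sylow p (G ⧸ N)) : Subgroup (G ⧸ N)) = (P : Subgroup G).map f := rfl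
      rw [this]
      ring

end Cfsg.Agent.Lib.FGStruct.SubnormQuot
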