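import Mathlib
import Cfsg.Agent.Lib.Transfer.Tate
import Cfsg.Agent.Lib.PGroups.Basic
import Cfsg.Agent.Lib.CoprimeGen.Basic
import Cfsg.Agent.Lib.Frobenius.FixedPoints
import Cfsg.Agent.Lib.Frobenius.Normal
import Cfsg.Agent.Lib.FGStruct.SubnormQuot

/-!
# Camina pairs

`(G, N)` with `gN ⊆ g^G` for all `g ∉ N`. We prove that `N` has a normal `p`-complement for
each prime `p` dividing `|G : N|` and the trichotomy of Camina.
-/

set_option autoImplicit false
set_option linter.style.haveILetI false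
set_option linter.unusedSectionVars false

namespace Cfsg.Agent.Lib.FGStruct.Camina

open Subgroup Cfsg Cfsg.Agent.Lib.Transfer.Basic
open scoped commutatorElement Pointwise

variable {G : Type*} [Group G] [Finite G] {N : Subgroup G} [hNn : N.Normal]

/-- The Camina condition. -/
def IsCamina (N : Subgroup G) : Prop :=
  ∀ g : G, g ∉ N → ∀ n ∈ N, ∃ x : G, x * g * x⁻¹ = g * n

theorem pow_eq_one_of_commute (h : IsCamina N) {g n : G} (hg : g ∉ N) (hn : n ∈ N)
    (hc : Commute g n) {k : ℕ} (hk : g ^ k = 1) : n ^ k = 1 := by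
  obtain ⟨x, hx⟩ := h g hg n hn
  have h1 : (g * n) ^ k = 1 := by
    rw [← hx, conj_pow, hk]; group
  rw [hc.mul_pow, hk, one_mul] at h1
  exact h1

/-- `x ∈ S` if two coprime powers are. -/
theorem mem_of_pow_mem_of_coprime (S : Subgroup G) {x : G} {a b : ℕ} (hab : a.Coprime b)
    (ha : x ^ a ∈ S) (hb : x ^ b ∈ S) : x ∈ S := by
  have h1 : ((Nat.gcd a b : ℕ) : ℤ) = (a : ℤ) * Nat.gcdA a b + (b : ℤ) * Nat.gcdB a b :=
    Nat.gcd_eq_gcd_ab a b
  rw [hab.gcd_eq_one] at h1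
  have h2 : x = (x ^ a) ^ (Nat.gcdA a b) * (x ^ b) ^ (Nat.gcdB a b) := by
    rw [← zpow_natCast, ← zpow_natCast, ← zpow_mul, ← zpow_mul, ← zpow_add, ← h1]
    simp
  rw [h2]
  exact S.mul_mem (S.zpow_mem ha _) (S.zpow_mem hb _)

/-- An element outside `N` has a power of prime power order outside `N`. -/
theorem exists_prime_power_not_mem (N : Subgroup G) {u : G} (hu : u ∉ N) :
    ∃ p k m : ℕ, p.Prime ∧ u ^ m ∉ N ∧ orderOf (u ^ m) = p ^ k := by
  induction' hn : orderOf u using Nat.strong_induction_on with n ih generalizing u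
  have hu1 : u ≠ 1 := fun h => hu (h ▸ N.one_mem)
  have hn0 : n ≠ 0 := by
    rw [← hn]; exact (orderOf_pos u).ne'
  have hn1 : n ≠ 1 := by
    rw [← hn]; intro h; exact hu1 (orderOf_eq_one_iff.1 h)
  set p := n.minFac with hp
  have hpp : p.Prime := Nat.minFac_prime hn1
  obtain ⟨k, d, hd, hnk⟩ := Nat.exists_eq_pow_mul_and_not_dvd hn0 p hpp.ne_one
  have hk : k ≠ 0 := by
    rintro rfl
    apply hd
    simp only [pow_zero, one_mul] at hnk
    rw [← hnk]
    exact Nat.minFac_dvd n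
  have hdpos : 0 < d := Nat.pos_of_ne_zero (by rintro rfl; simp at hnk; exact hn0 hnk)
  have hcop : (p ^ k).Coprime d := Nat.Coprime.pow_left _ ((Nat.Prime.coprime_iff_not_dvd hpp).2 hd)
  by_cases h1 : u ^ d ∈ N
  · have h2 : u ^ (p ^ k) ∉ N := fun h => hu (mem_of_pow_mem_of_coprime N hcop h h1)
    have h3 : orderOf (u ^ (p ^ k)) = d := by
      rw [orderOf_pow' _ (pow_ne_zero _ hpp.ne_zero), hn, hnk, Nat.gcd_mul_right_left]
      exact Nat.mul_div_cancel_left _ (pow_pos hpp.pos _) |>.symm ▸ rfl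
    have h4 : d < n := by
      rw [hnk]
      exact lt_mul_of_one_lt_left hdpos (Nat.one_lt_pow hk hpp.one_lt)
    obtain ⟨q, l, m, hq, hm, ho⟩ := ih d h4 h2 h3
    refine ⟨q, l, p ^ k * m, hq, ?_, ?_⟩
    · rwa [pow_mul]
    · rwa [pow_mul]
  · refine ⟨p, k, d, hpp, h1, ?_⟩
    rw [orderOf_pow' _ hdpos.ne', hn, hnk, Nat.gcd_mul_left_left]
    exact Nat.mul_div_cancel _ hdpos

/-- Orbit counting for a map whose fibres are the cosets of a subgroup. -/
theorem card_eq_range_mul {X B : Type*} [Group X] [Finite X] (f : X → B) (K : Subgroup X)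
    (hf : ∀ x y, f x = f y ↔ x⁻¹ * y ∈ K) :
    Nat.card X = Nat.card (Set.range f) * Nat.card K := by
  refine Cfsg.Agent.Lib.FGStruct.Subnorm.card_of_fibers (Set.rangeFactorization f) _ ?_
  rintro ⟨_, ⟨x₀, rfl⟩⟩
  refine Nat.card_congr ⟨fun t => ⟨x₀⁻¹ * t.1, (hf _ _).1 ?_⟩,
    fun k => ⟨x₀ * k.1, ?_⟩, ?_, ?_⟩
  · have := congrArg Subtype.val t.2
    exact this.symm
  · apply Subtype.ext
    exact ((hf x₀ (x₀ * k.1)).2 (by simpa using k.2)).symm
  · intro t
    apply Subtype.ext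
    simp
  · intro k
    apply Subtype.ext
    simp

section transitivity

variable {p : ℕ} [hp : Fact p.Prime]

/-- The stabilizer of a coset. -/
def stabCoset (N : Subgroup G) [hN : N.Normal] (g₀ : G) : Subgroup G where
  carrier := {t | t * g₀ * t⁻¹ * g₀⁻¹ ∈ N}
  mul_mem' := by
    intro s t hs ht
    have h1 := hN.conj_mem _ ht s
    have e : (s * t) * g₀ * (s * t)⁻¹ * g₀⁻¹ =
        (s * (t * g₀ * t⁻¹ * g₀⁻¹) * s⁻¹) * (s * g₀ * s⁻¹ * g₀⁻¹) := by group
    change _ ∈ N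
    rw [e]
    exact N.mul_mem h1 hs
  one_mem' := by
    change _ ∈ N
    simp [N.one_mem]
  inv_mem' := by
    intro t ht
    have h1 : t⁻¹ * (t * g₀ * t⁻¹ * g₀⁻¹)⁻¹ * t ∈ N := by
      have := hN.conj_mem _ (N.inv_mem ht) t⁻¹
      simpa using this
    change _ ∈ N
    have e : t⁻¹ * g₀ * t⁻¹⁻¹ * g₀⁻¹ =
        (t⁻¹ * (t * g₀ * t⁻¹ * g₀⁻¹)⁻¹ * t)⁻¹⁻¹ := by group
    rw [e]
    simpa using h1

theorem mem_stabCoset {g₀ t : G} : t ∈ stabCoset N g₀ ↔ t * g₀ * t⁻¹ * g₀⁻¹ ∈ N := Iff.rfl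

/-- Key transitivity: for `g₀ ∈ P ∖ N` central in `P` modulo `N`, the `P`-class of `g₀` is
`g₀ (P ∩ N)`. -/
theorem exists_conj_eq_mul (h : IsCamina N) (P : Sylow p G) {g₀ : G}
    (hg₀P : g₀ ∈ (P : Subgroup G)) (hg₀N : g₀ ∉ N)
    (hcent : ∀ y ∈ (P : Subgroup G), y * g₀ * y⁻¹ * g₀⁻¹ ∈ N) {b : G} (hbN : b ∈ N)
    (hbP : b ∈ (P : Subgroup G)) : ∃ w ∈ (P : Subgroup G), w * g₀ * w⁻¹ = g₀ * b := by
  classical
  set T := stabCoset N g₀ with hT
  set C : Subgroup G := centralizer {g₀} with hC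
  have hmemC : ∀ x : G, x ∈ C ↔ x * g₀ = g₀ * x := by
    intro x
    rw [hC, mem_centralizer_singleton_iff]
  have hCT : C ≤ T := by
    intro c hc
    rw [hT, mem_stabCoset, (hmemC c).1 hc]
    simp [N.one_mem]
  -- fibres in `T`
  let φ : T → N := fun t => ⟨g₀⁻¹ * t * g₀ * (t : G)⁻¹, by
    have := hNn.conj_mem _ t.2 g₀⁻¹
    have e : g₀⁻¹ * (t : G) * g₀ * (t : G)⁻¹ =
        g₀⁻¹ * ((t : G) * g₀ * (t : G)⁻¹ * g₀⁻¹) * g₀⁻¹⁻¹ := by group
    rw [e]; exact this⟩
  have hφ : Function.Surjective φ := by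
    rintro ⟨n, hn⟩
    obtain ⟨x, hx⟩ := h g₀ hg₀N n hn
    have hxT : x ∈ T := by
      rw [hT, mem_stabCoset, hx]
      have e : g₀ * n * g₀⁻¹ = g₀ * n * g₀⁻¹ := rfl
      exact hNn.conj_mem _ hn g₀
    refine ⟨⟨x, hxT⟩, Subtype.ext ?_⟩
    change g₀⁻¹ * x * g₀ * x⁻¹ = n
    have e : g₀⁻¹ * x * g₀ * x⁻¹ = g₀⁻¹ * (x * g₀ * x⁻¹) := by group
    rw [e, hx]; group
  have hcardT : Nat.card T = Nat.card N * Nat.card C := by
    have h1 := card_eq_range_mul φ (C.subgroupOf T) (by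
      intro x y
      rw [mem_subgroupOf, hmemC]
      have e1 : φ x = φ y ↔ g₀⁻¹ * (x : G) * g₀ * (x : G)⁻¹ = g₀⁻¹ * (y : G) * g₀ * (y : G)⁻¹ :=
        Subtype.ext_iff
      rw [e1]
      simp only [Subgroup.coe_mul, Subgroup.coe_inv]
      constructor
      · intro e
        have e2 : (x : G) * g₀ * (x : G)⁻¹ = (y : G) * g₀ * (y : G)⁻¹ := by
          have := congrArg (fun z => g₀ * z) e
          simpa [mul_assoc] using this
        have e3 : g₀ = (x : G)⁻¹ * ((y : G) * g₀ * (y : G)⁻¹) * x := by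
          rw [← e2]; group
        calc (x : G)⁻¹ * y * g₀ = ((x : G)⁻¹ * y) * g₀ * ((x : G)⁻¹ * y)⁻¹ * ((x : G)⁻¹ * y) := by
              group
          _ = ((x : G)⁻¹ * ((y : G) * g₀ * (y : G)⁻¹) * x) * ((x : G)⁻¹ * y) := by group
          _ = g₀ * ((x : G)⁻¹ * y) := by rw [← e3]
      · intro e
        have e2 : (y : G) * g₀ = (x : G) * (g₀ * ((x : G)⁻¹ * y)) := by
          rw [← e]; group
        have e3 : (y : G) * g₀ * (y : G)⁻¹ = (x : G) * g₀ * (x : G)⁻¹ := by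
          rw [e2]; group
        have : g₀⁻¹ * (y : G) * g₀ * (y : G)⁻¹ = g₀⁻¹ * ((y : G) * g₀ * (y : G)⁻¹) := by group
        rw [this, e3]; group)
    have h2 : Nat.card (C.subgroupOf T) = Nat.card C := by
      refine Nat.card_congr (subgroupOfEquivOfLe hCT).toEquiv
    have h3 : Nat.card (Set.range φ) = Nat.card N := by
      rw [hφ.range_eq]
      exact Nat.card_congr (Equiv.Set.univ _)
    rw [h1, h2, h3]
  set B : Subgroup G := N ⊓ P with hB
  set S : Subgroup G := (P : Subgroup G) ⊓ C with hS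
  -- divisibility
  have hdvd : Nat.card B * Nat.card S ∣ Nat.card (P : Subgroup G) := by
    obtain ⟨a, ha⟩ := IsPGroup.iff_card.1 (P.isPGroup'.to_le (inf_le_right : B ≤ P))
    obtain ⟨c, hc⟩ := IsPGroup.iff_card.1 (P.isPGroup'.to_le (inf_le_left : S ≤ P))
    rw [ha, hc, ← pow_add]
    apply Sylow.pow_dvd_card_of_pow_dvd_card
    rw [pow_add, ← ha, ← hc]
    have h1 : Nat.card B ∣ Nat.card N := Subgroup.card_dvd_of_le inf_le_left
    have h2 : Nat.card S ∣ Nat.card C := Subgroup.card_dvd_of_le inf_le_right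
    have h3 : Nat.card T ∣ Nat.card G := Subgroup.card_subgroup_dvd_card T
    rw [hcardT] at h3
    exact (Nat.mul_dvd_mul h1 h2).trans h3
  -- the map on `P`
  let ψ : ↥(P : Subgroup G) → B := fun y => ⟨g₀⁻¹ * y * g₀ * (y : G)⁻¹, by
    refine mem_inf.2 ⟨?_, ?_⟩
    · have := hNn.conj_mem _ (hcent y y.2) g₀⁻¹
      have e : g₀⁻¹ * (y : G) * g₀ * (y : G)⁻¹ =
          g₀⁻¹ * ((y : G) * g₀ * (y : G)⁻¹ * g₀⁻¹) * g₀⁻¹⁻¹ := by group
      rw [e]; exact this
    · exact mul_mem (mul_mem (mul_mem (inv_mem hg₀P) y.2) hg₀P) (inv_mem y.2)⟩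
  have hcardP : Nat.card (P : Subgroup G) = Nat.card (Set.range ψ) * Nat.card S := by
    have h1 := card_eq_range_mul ψ (C.subgroupOf (P : Subgroup G)) (by
      intro x y
      rw [mem_subgroupOf, hmemC]
      have e1 : ψ x = ψ y ↔ g₀⁻¹ * (x : G) * g₀ * (x : G)⁻¹ = g₀⁻¹ * (y : G) * g₀ * (y : G)⁻¹ :=
        Subtype.ext_iff
      rw [e1]
      simp only [Subgroup.coe_mul, Subgroup.coe_inv]
      constructor
      · intro e
        have e2 : (x : G) * g₀ * (x : G)⁻¹ = (y : G) * g₀ * (y : G)⁻¹ := by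
          have := congrArg (fun z => g₀ * z) e
          simpa [mul_assoc] using this
        have e3 : g₀ = (x : G)⁻¹ * ((y : G) * g₀ * (y : G)⁻¹) * x := by
          rw [← e2]; group
        calc (x : G)⁻¹ * y * g₀ = ((x : G)⁻¹ * y) * g₀ * ((x : G)⁻¹ * y)⁻¹ * ((x : G)⁻¹ * y) := by
              group
          _ = ((x : G)⁻¹ * ((y : G) * g₀ * (y : G)⁻¹) * x) * ((x : G)⁻¹ * y) := by group
          _ = g₀ * ((x : G)⁻¹ * y) := by rw [← e3]
      · intro e
        have e2 : (y : G) * g₀ = (x : G) * (g₀ * ((x : G)⁻¹ * y)) := by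
          rw [← e]; group
        have e3 : (y : G) * g₀ * (y : G)⁻¹ = (x : G) * g₀ * (x : G)⁻¹ := by
          rw [e2]; group
        have : g₀⁻¹ * (y : G) * g₀ * (y : G)⁻¹ = g₀⁻¹ * ((y : G) * g₀ * (y : G)⁻¹) := by group
        rw [this, e3]; group)
    have h2 : Nat.card (C.subgroupOf (P : Subgroup G)) = Nat.card S := by
      refine Nat.card_congr ⟨fun x => ⟨x.1.1, mem_inf.2 ⟨x.1.2, x.2⟩⟩,
        fun y => ⟨⟨y.1, (mem_inf.1 y.2).1⟩, (mem_inf.1 y.2).2⟩, fun _ => rfl, fun _ => rfl⟩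
    rw [h1, h2]
  have hSpos : 0 < Nat.card S := Nat.card_pos
  have hsurj : Function.Surjective ψ := by
    rw [← Set.range_eq_univ]
    apply Set.eq_of_subset_of_ncard_le (Set.subset_univ _) _ Set.finite_univ
    rw [Set.ncard_univ, ← Nat.card_coe_set_eq]
    have h1 : Nat.card B * Nat.card S ≤ Nat.card (Set.range ψ) * Nat.card S := by
      rw [← hcardP]
      exact Nat.le_of_dvd Nat.card_pos hdvd
    exact Nat.le_of_mul_le_mul_right h1 hSpos
  obtain ⟨w, hw⟩ := hsurj ⟨b, mem_inf.2 ⟨hbN, hbP⟩⟩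
  refine ⟨w, w.2, ?_⟩
  have h1 : g₀⁻¹ * (w : G) * g₀ * (w : G)⁻¹ = b := congrArg Subtype.val hw
  rw [← h1]; group

/-- A central element modulo `N` of `P`. -/
theorem exists_central_mod (P : Sylow p G) (hPN : ¬ (P : Subgroup G) ≤ N) :
    ∃ g₀ ∈ (P : Subgroup G), g₀ ∉ N ∧ g₀ ^ p ∈ N ∧
      ∀ y ∈ (P : Subgroup G), y * g₀ * y⁻¹ * g₀⁻¹ ∈ N := by
  classical
  let f : ↥(P : Subgroup G) →* G ⧸ N := (QuotientGroup.mk' N).comp (P : Subgroup G).subtype
  have hf : ∀ x : G, (x : G ⧸ N) = 1 ↔ x ∈ N := fun x => QuotientGroup.eq_one_iff x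
  have hQp : IsPGroup p f.range := IsPGroup.of_surjective P.isPGroup' f.rangeRestrict f.rangeRestrict_surjective
  have hne : (⊤ : Subgroup f.range) ≠ ⊥ := by
    intro h0
    apply hPN
    intro x hx
    have h1 : (⟨f ⟨x, hx⟩, ⟨⟨x, hx⟩, rfl⟩⟩ : f.range) ∈ (⊤ : Subgroup f.range) := mem_top _
    rw [h0] at h1
    have h2 : f ⟨x, hx⟩ = 1 := congrArg Subtype.val (mem_bot.1 h1)
    exact (hf x).1 h2
  obtain ⟨z, -, hzc, hzo⟩ := Cfsg.Agent.Lib.PGroups.Basic.exists_central_orderOf_eq hQp ⊤ hne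
  obtain ⟨⟨g₀, hg₀⟩, hz⟩ := z.2
  refine ⟨g₀, hg₀, ?_, ?_, ?_⟩
  · intro hN
    have h1 : (z : G ⧸ N) = 1 := by
      rw [← hz]; exact (hf g₀).2 hN
    have h2 : z = 1 := Subtype.ext h1
    rw [h2, orderOf_one] at hzo
    exact hp.out.ne_one hzo.symm
  · have h1 : z ^ p = 1 := by
      have := pow_orderOf_eq_one z
      rwa [hzo] at this
    have h2 : ((z ^ p : f.range) : G ⧸ N) = 1 := by rw [h1]; rfl
    rw [Subgroup.coe_pow, ← hz] at h2
    rw [← hf]
    exact h2
  · intro y hy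
    have h1 := mem_center_iff.1 hzc ⟨f ⟨y, hy⟩, ⟨⟨y, hy⟩, rfl⟩⟩
    have h2 : f ⟨y, hy⟩ * (z : G ⧸ N) = (z : G ⧸ N) * f ⟨y, hy⟩ :=
      congrArg Subtype.val h1
    rw [← hz] at h2
    rw [← hf]
    change (y : G ⧸ N) * (g₀ : G ⧸ N) * (y : G ⧸ N)⁻¹ * (g₀ : G ⧸ N)⁻¹ = 1
    have h3 : (y : G ⧸ N) * (g₀ : G ⧸ N) = (g₀ : G ⧸ N) * (y : G ⧸ N) := h2
    rw [h3]; group

/-- Camina: `N` has a normal `p`-complement if `p` divides `|G : N|`. -/
theorem hasNormalPComplement (h : IsCamina N) (P : Sylow p G) (hPN : ¬ (P : Subgroup G) ≤ N) :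
    HasNormalPComplement p N := by
  obtain ⟨g₀, hg₀P, hg₀N, -, hcent⟩ := exists_central_mod P hPN
  apply Cfsg.Agent.Lib.Transfer.Tate.hasNormalPComplement_of_inf_le_frattini P N
  intro b hb
  obtain ⟨w, hw, hwb⟩ := exists_conj_eq_mul h P hg₀P hg₀N hcent hb.1 hb.2
  refine ⟨⟨b, hb.2⟩, ?_, rfl⟩
  apply Cfsg.Agent.Lib.PGroups.Basic.commutator_le_frattini P.isPGroup'
  have e : (⟨b, hb.2⟩ : ↥(P : Subgroup G)) = ⁅(⟨g₀⁻¹, inv_mem hg₀P⟩ : ↥(P : Subgroup G)), ⟨w, hw⟩⁆ := by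
    apply Subtype.ext
    have : b = g₀⁻¹ * (w * g₀ * w⁻¹) := by rw [hwb]; group
    simp only [commutatorElement_def, Subgroup.coe_mul, Subgroup.coe_inv, inv_inv]
    rw [this]; group
  rw [e]
  exact Subgroup.commutator_mem_commutator (mem_top _) (mem_top _)

/-- The normal `p`-complement of `N`, as a subgroup of `G`. -/
noncomputable def compl (p : ℕ) (N : Subgroup G) : Subgroup G := (pResidual p N).map N.subtype

omit [hNn : N.Normal] in
theorem compl_le (p : ℕ) (N : Subgroup G) : compl p N ≤ N := by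
  rintro _ ⟨x, -, rfl⟩
  exact x.2

instance compl_normal (p : ℕ) (N : Subgroup G) [N.Normal] : (compl p N).Normal := by
  unfold compl
  infer_instance

omit [hNn : N.Normal] in
theorem mem_compl (hC : HasNormalPComplement p N) {x : G} :
    x ∈ compl p N ↔ x ∈ N ∧ (orderOf x).Coprime p := by
  constructor
  · rintro ⟨y, hy, rfl⟩
    refine ⟨y.2, ?_⟩
    have := (Cfsg.Agent.Lib.Transfer.Basic.mem_pResidual_iff_of_hasNormalPComplement hC y).1 hy
    simpa using this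
  · rintro ⟨h1, h2⟩
    refine ⟨⟨x, h1⟩, ?_, rfl⟩
    apply (Cfsg.Agent.Lib.Transfer.Basic.mem_pResidual_iff_of_hasNormalPComplement hC _).2
    simpa using h2

omit [hNn : N.Normal] in
theorem coprime_card_compl (hC : HasNormalPComplement p N) : (Nat.card (compl p N)).Coprime p := by
  have h1 := Cfsg.Agent.Lib.Transfer.Basic.hasNormalPComplement_iff_pResidual.1 hC
  have h2 : Nat.card (compl p N) = Nat.card (pResidual p N) := by
    unfold compl
    exact Nat.card_congr (Subgroup.equivMapOfInjective _ _ N.subtype_injective).symm.toEquiv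
  rwa [h2]

omit [Finite G] [hNn : N.Normal] in
/-- A `p`-element in a `p'`-subgroup is trivial. -/
theorem eq_one_of_mem_coprime [Finite G] {M : Subgroup G} (hM : (Nat.card M).Coprime p) {x : G} (hx : x ∈ M)
    {k : ℕ} (hk : x ^ (p ^ k) = 1) : x = 1 := by
  have h1 : orderOf x ∣ Nat.card M := Subgroup.orderOf_dvd_natCard M hx
  have h2 : orderOf x ∣ p ^ k := orderOf_dvd_of_pow_eq_one hk
  exact orderOf_eq_one_iff.1 (Nat.eq_one_of_dvd_coprimes (hM.pow_right k) h1 h2)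

omit [Finite G] [hNn : N.Normal] in
theorem exists_pow_eq_one_of_mem_sylow (P : Sylow p G) {x : G} (hx : x ∈ (P : Subgroup G)) :
    ∃ k : ℕ, x ^ (p ^ k) = 1 := by
  obtain ⟨k, hk⟩ := P.isPGroup' ⟨x, hx⟩
  exact ⟨k, by simpa using congrArg Subtype.val hk⟩

omit [Finite G] [hNn : N.Normal] in
theorem not_le_commutator_top {X : Type*} [Group X] [hX : Group.IsNilpotent X] (B : Subgroup X)
    (hB : B ≠ ⊥) : ¬ B ≤ ⁅B, (⊤ : Subgroup X)⁆ := by
  intro h
  obtain ⟨n, hn⟩ := Subgroup.nilpotent_iff_lowerCentralSeries.1 hX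
  have key : ∀ m, B ≤ (⊤ : Subgroup X).lowerCentralSeries m := by
    intro m
    induction m with
    | zero => simp
    | succ m ih =>
      rw [Subgroup.lowerCentralSeries_succ]
      exact h.trans (Subgroup.commutator_mono ih le_rfl)
  apply hB
  rw [eq_bot_iff, ← hn]
  exact key n

/-- The centralizer of `P ∩ N` in a normal `p'`-subgroup is trivial: the key consequence of the
Camina condition together with coprime generation. -/
theorem inf_centralizer_eq_bot (h : IsCamina N) (P : Sylow p G) (hPN : ¬ (P : Subgroup G) ≤ N)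
    {M : Subgroup G} [hMn : M.Normal] (hMN : M ≤ N) (hMc : (Nat.card M).Coprime p)
    (hB : N ⊓ (P : Subgroup G) ≠ ⊥) :
    M ⊓ centralizer ((N ⊓ (P : Subgroup G) : Subgroup G) : Set G) = ⊥ := by
  classical
  set B : Subgroup G := N ⊓ (P : Subgroup G) with hBdef
  set Y : Subgroup G := M ⊓ centralizer (B : Set G) with hY
  obtain ⟨g₀, hg₀P, hg₀N, hg₀p, hcent⟩ := exists_central_mod P hPN
  have hBnorm : ∀ d ∈ (P : Subgroup G), ∀ x ∈ B, d * x * d⁻¹ ∈ B := by
    intro d hd x hx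
    exact mem_inf.2 ⟨hNn.conj_mem x hx.1 d, mul_mem (mul_mem hd hx.2) (inv_mem hd)⟩
  have hPL : (P : Subgroup G) ≤ normalizer (B : Set G) := by
    intro d hd
    rw [mem_normalizer_iff]
    intro x
    constructor
    · exact hBnorm d hd x
    · intro hx
      have := hBnorm d⁻¹ (inv_mem hd) _ hx
      simpa [mul_assoc] using this
  have hYnorm : ∀ d ∈ (P : Subgroup G), ∀ y ∈ Y, d * y * d⁻¹ ∈ Y := by
    intro d hd y hy
    refine mem_inf.2 ⟨hMn.conj_mem y hy.1 d, ?_⟩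
    rw [mem_centralizer_iff]
    intro x hx
    have hx' : d⁻¹ * x * d ∈ B := by simpa using hBnorm d⁻¹ (inv_mem hd) x hx
    have hc := mem_centralizer_iff.1 hy.2 _ hx'
    calc x * (d * y * d⁻¹) = d * ((d⁻¹ * x * d) * y) * d⁻¹ := by group
      _ = d * (y * (d⁻¹ * x * d)) * d⁻¹ := by rw [hc]
      _ = (d * y * d⁻¹) * x := by group
  have hYL : Y ≤ normalizer (B : Set G) := by
    intro y hy
    rw [mem_normalizer_iff]
    intro x
    have hc : ∀ z ∈ B, z * y = y * z := fun z hz => mem_centralizer_iff.1 hy.2 z hz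
    constructor
    · intro hx
      have : y * x * y⁻¹ = x := by rw [← hc x hx]; group
      rwa [this]
    · intro hx
      have h1 := hc _ hx
      have : x = y * x * y⁻¹ := by
        have e : y * x * y⁻¹ * y = y * (y * x * y⁻¹) := h1
        have e2 : y * x = y * (y * x * y⁻¹) := by simpa using e
        exact mul_left_cancel e2
      rw [this]; exact hx
  let L : Subgroup G := normalizer (B : Set G)
  let B' : Subgroup L := B.subgroupOf L
  haveI hB'n : B'.Normal := normal_in_normalizer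
  let π : L →* L ⧸ B' := QuotientGroup.mk' B'
  have hπ : ∀ y : L, π y = 1 ↔ (y : G) ∈ B := fun y => by
    change (y : L ⧸ B') = 1 ↔ _
    rw [QuotientGroup.eq_one_iff]
    exact mem_subgroupOf
  have hMB : ∀ x, x ∈ M → x ∈ B → x = 1 := by
    intro x hxM hxB
    obtain ⟨k, hk⟩ := exists_pow_eq_one_of_mem_sylow P hxB.2
    exact eq_one_of_mem_coprime hMc hxM hk
  let a : L ⧸ B' := π ⟨g₀, hPL hg₀P⟩
  have ha1 : a ≠ 1 := by
    intro h0
    exact hg₀N ((hπ _).1 h0).1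
  have hap : a ^ p = 1 := by
    change π ⟨g₀, hPL hg₀P⟩ ^ p = 1
    rw [← map_pow, hπ]
    exact mem_inf.2 ⟨hg₀p, pow_mem hg₀P p⟩
  have hoa : orderOf a = p := orderOf_eq_prime hap ha1
  -- an element of `B` outside `[B, P]`
  haveI hPnil : Group.IsNilpotent ↥(P : Subgroup G) := P.isPGroup'.isNilpotent
  have hB₀ : B.subgroupOf (P : Subgroup G) ≠ ⊥ := by
    intro h0
    apply hB
    rw [eq_bot_iff]
    intro x hx
    have h1 : (⟨x, hx.2⟩ : ↥(P : Subgroup G)) ∈ B.subgroupOf (P : Subgroup G) := mem_subgroupOf.2 hx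
    rw [h0] at h1
    exact congrArg Subtype.val (mem_bot.1 h1)
  obtain ⟨b₀, hb₀, hb₀c⟩ := SetLike.not_le_iff_exists.1 (not_le_commutator_top _ hB₀)
  have hb₀B : (b₀ : G) ∈ B := mem_subgroupOf.1 hb₀
  obtain ⟨w, hw, hwb⟩ := exists_conj_eq_mul h P hg₀P hg₀N hcent hb₀B.1 hb₀B.2
  have hbe : (b₀ : G) = g₀⁻¹ * (w * g₀ * w⁻¹) := by rw [hwb]; group
  have hkey : ∀ u ∈ B, (b₀ : G) = u⁻¹ * w * u * w⁻¹ → False := by
    intro u hu e
    apply hb₀c
    have e2 : b₀ = ⁅(⟨u⁻¹, inv_mem hu.2⟩ : ↥(P : Subgroup G)), (⟨w, hw⟩ : ↥(P : Subgroup G))⁆ := by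
      apply Subtype.ext
      simp only [commutatorElement_def, Subgroup.coe_mul, Subgroup.coe_inv, inv_inv]
      exact e
    rw [e2]
    exact Subgroup.commutator_mem_commutator (mem_subgroupOf.2 (inv_mem hu)) (mem_top _)
  let wb : L ⧸ B' := π ⟨w, hPL hw⟩
  have hcomm : a * wb = wb * a := by
    have h1 : (⟨w, hPL hw⟩ : L) * ⟨g₀, hPL hg₀P⟩ =
        ⟨g₀, hPL hg₀P⟩ * ⟨b₀, hPL hb₀B.2⟩ * ⟨w, hPL hw⟩ := by
      apply Subtype.ext
      change w * g₀ = g₀ * b₀ * w
      rw [← hwb]; group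
    have h2 : π ⟨(b₀ : G), hPL hb₀B.2⟩ = 1 := (hπ _).2 hb₀B
    have h3 := congrArg π h1
    rw [map_mul, map_mul, map_mul, h2, mul_one] at h3
    exact h3.symm
  have hwb1 : wb ≠ 1 := by
    intro h0
    have hwB : w ∈ B := (hπ _).1 h0
    apply hb₀c
    have e2 : b₀ = ⁅(⟨w, hw⟩ : ↥(P : Subgroup G)), (⟨g₀⁻¹, inv_mem hg₀P⟩ : ↥(P : Subgroup G))⁆⁻¹ := by
      apply Subtype.ext
      simp only [commutatorElement_def, Subgroup.coe_mul, Subgroup.coe_inv, inv_inv, mul_inv_rev]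
      rw [hbe]; group
    rw [e2]
    exact inv_mem (Subgroup.commutator_mem_commutator (mem_subgroupOf.2 hwB) (mem_top _))
  obtain ⟨kw, hkw⟩ := exists_pow_eq_one_of_mem_sylow P hw
  have hwbp : wb ^ (p ^ kw) = 1 := by
    change π ⟨w, hPL hw⟩ ^ (p ^ kw) = 1
    rw [← map_pow, hπ]
    change w ^ (p ^ kw) ∈ B
    rw [hkw]; exact one_mem _
  obtain ⟨j, -, hj⟩ := (Nat.dvd_prime_pow hp.out).1 (orderOf_dvd_of_pow_eq_one hwbp)
  have hj0 : j ≠ 0 := by
    rintro rfl
    rw [pow_zero] at hj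
    exact hwb1 (orderOf_eq_one_iff.1 hj)
  have hpd : p ∣ orderOf wb := by
    rw [hj]; exact dvd_pow_self p hj0
  let c : L ⧸ B' := wb ^ (orderOf wb / p)
  have hoc : orderOf c = p := orderOf_pow_orderOf_div (orderOf_pos wb).ne' hpd
  have hcp : c ^ p = 1 := by
    have := pow_orderOf_eq_one c
    rwa [hoc] at this
  have hc1 : c ≠ 1 := by
    intro h0
    rw [h0, orderOf_one] at hoc
    exact hp.out.ne_one hoc.symm
  have hac : a ∉ zpowers c := by
    intro hmem
    have h1 : a ∈ zpowers wb := by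
      have h2 : c ∈ zpowers wb := pow_mem (mem_zpowers wb) _
      exact (zpowers_le.2 h2) hmem
    obtain ⟨i, hi⟩ := mem_zpowers_iff.1 h1
    let wl : L := ⟨w, hPL hw⟩
    have h2 : π (wl ^ i) = π ⟨g₀, hPL hg₀P⟩ := by
      rw [map_zpow]; exact hi
    have h3 : π ((wl ^ i)⁻¹ * ⟨g₀, hPL hg₀P⟩) = 1 := by
      rw [map_mul, map_inv, h2]; group
    have hu : (((wl ^ i)⁻¹ * ⟨g₀, hPL hg₀P⟩ : L) : G) ∈ B := (hπ _).1 h3
    have hu' : (w ^ i)⁻¹ * g₀ ∈ B := by simpa [wl] using hu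
    refine hkey _ hu' ?_
    have hcw : w * w ^ i = w ^ i * w := ((Commute.refl w).zpow_right i).eq
    rw [hbe]
    have h4 : g₀ = w ^ i * ((w ^ i)⁻¹ * g₀) := by group
    generalize hv : (w ^ i)⁻¹ * g₀ = v at *
    rw [h4]
    simp only [mul_inv_rev]
    have h5 : w * (w ^ i * v) * w⁻¹ = w ^ i * (w * v * w⁻¹) := by
      rw [← mul_assoc w, hcw]; group
    rw [h5]; group
  -- the elementary abelian group
  have hacc : a * c = c * a := (Commute.pow_right hcomm _).eq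
  have hgen : ∀ x ∈ ({a, c} : Set (L ⧸ B')), ∀ y ∈ ({a, c} : Set (L ⧸ B')), x * y = y * x := by
    rintro x (rfl | rfl) y (rfl | rfl)
    · rfl
    · exact hacc
    · exact hacc.symm
    · rfl
  let A : Subgroup (L ⧸ B') := closure {a, c}
  have hAab : IsMulCommutative A := isMulCommutative_closure hgen
  have hAcomm : ∀ x ∈ A, ∀ y ∈ A, x * y = y * x := fun x hx y hy =>
    congrArg Subtype.val (hAab.is_comm.comm ⟨x, hx⟩ ⟨y, hy⟩)
  have hApow : ∀ x ∈ A, x ^ p = 1 := by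
    intro x hx
    induction hx using Subgroup.closure_induction with
    | mem x hx =>
      rcases hx with rfl | rfl
      · exact hap
      · exact hcp
    | one => simp
    | mul x y hx hy h1 h2 =>
      rw [(show Commute x y from hAcomm x hx y hy).mul_pow, h1, h2, one_mul]
    | inv x hx h1 => rw [inv_pow, h1, inv_one]
  have haA : a ∈ A := subset_closure (Or.inl rfl)
  have hcA : c ∈ A := subset_closure (Or.inr rfl)
  let PL : Subgroup L := (P : Subgroup G).subgroupOf L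
  have hAP : A ≤ PL.map π := by
    refine (closure_le _).2 ?_
    rintro x (rfl | rfl)
    · exact ⟨⟨g₀, hPL hg₀P⟩, mem_subgroupOf.2 hg₀P, rfl⟩
    · exact pow_mem (show wb ∈ PL.map π from ⟨⟨w, hPL hw⟩, mem_subgroupOf.2 hw, rfl⟩) _
  let Y' : Subgroup L := Y.subgroupOf L
  let X : Subgroup (L ⧸ B') := Y'.map π
  have hPLn : PL ≤ normalizer (Y' : Set L) := by
    rintro ⟨d, hdL⟩ hd
    have hd' : d ∈ (P : Subgroup G) := mem_subgroupOf.1 hd
    rw [mem_normalizer_iff]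
    rintro ⟨x, hxL⟩
    change (⟨x, hxL⟩ : L) ∈ Y.subgroupOf L ↔ _ ∈ Y.subgroupOf L
    rw [mem_subgroupOf, mem_subgroupOf]
    constructor
    · exact fun hx => hYnorm d hd' x hx
    · intro hx
      have := hYnorm d⁻¹ (inv_mem hd') _ hx
      simpa [mul_assoc] using this
  have hAn : A ≤ normalizer (X : Set (L ⧸ B')) :=
    hAP.trans ((map_mono hPLn).trans (le_normalizer_map π))
  have hXp : ¬ p ∣ Nat.card X := by
    intro hd
    have h1 : Nat.card X ∣ Nat.card Y' := Subgroup.card_map_dvd _ _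
    have h2 : Nat.card Y' = Nat.card Y := Nat.card_congr (subgroupOfEquivOfLe hYL).toEquiv
    have h3 : Nat.card Y ∣ Nat.card M := Subgroup.card_dvd_of_le inf_le_left
    have h4 : p ∣ Nat.card M := hd.trans (h1.trans (h2 ▸ h3))
    exact (Nat.Prime.coprime_iff_not_dvd hp.out).1 hMc.symm h4
  have hXeq := Cfsg.Agent.Lib.CoprimeGen.Basic.eq_hyperJoin (p := p) (A := A) (X := X)
    ⟨hAab, hApow⟩ hXp hAn
  have hcardA : p < Nat.card A := by
    have h1 : zpowers a < A := by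
      refine lt_of_le_of_ne (zpowers_le.2 haA) ?_
      intro h0
      have hc' : c ∈ zpowers a := h0 ▸ hcA
      have h2 : zpowers c = zpowers a := by
        apply Subgroup.eq_of_le_of_card_ge (zpowers_le.2 hc')
        rw [Nat.card_zpowers, Nat.card_zpowers, hoa, hoc]
      exact hac (h2 ▸ mem_zpowers a)
    have h2 := Cfsg.Agent.Lib.PGroups.Basic.card_lt_of_lt h1
    rwa [Nat.card_zpowers, hoa] at h2
  have hbot : Cfsg.Agent.Lib.CoprimeGen.Basic.hyperJoin p A X = ⊥ := by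
    unfold Cfsg.Agent.Lib.CoprimeGen.Basic.hyperJoin
    rw [iSup_eq_bot]
    rintro ⟨A₀, hA₀, hidx⟩
    have hA₀1 : A₀ ≠ ⊥ := by
      rintro rfl
      rw [relIndex_bot_left] at hidx
      exact absurd hcardA (not_lt.2 hidx)
    obtain ⟨⟨dbar, hd0⟩, hd1⟩ := Subgroup.ne_bot_iff_exists_ne_one.1 hA₀1
    have hd1' : dbar ≠ 1 := fun h0 => hd1 (Subtype.ext h0)
    obtain ⟨d, hd, rfl⟩ := hAP (hA₀ hd0)
    have hdP : (d : G) ∈ (P : Subgroup G) := mem_subgroupOf.1 hd
    have hdN : (d : G) ∉ N := by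
      intro hdN
      exact hd1' ((hπ d).2 (mem_inf.2 ⟨hdN, hdP⟩))
    rw [eq_bot_iff]
    rintro xb ⟨⟨y, hy, rfl⟩, hxc⟩
    have hyY : (y : G) ∈ Y := mem_subgroupOf.1 hy
    have h1 := mem_centralizer_iff.1 hxc _ hd0
    have h2 : π (y * d * y⁻¹ * d⁻¹) = 1 := by
      rw [map_mul, map_mul, map_mul, map_inv, map_inv, ← h1]; group
    have h3 : ((y * d * y⁻¹ * d⁻¹ : L) : G) ∈ B := (hπ _).1 h2
    have h4 : ((y * d * y⁻¹ * d⁻¹ : L) : G) ∈ M := by
      have h5 : (y : G) * (d : G) * (y : G)⁻¹ * (d : G)⁻¹ =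
          (y : G) * ((d : G) * (y : G)⁻¹ * (d : G)⁻¹) := by group
      simp only [Subgroup.coe_mul, Subgroup.coe_inv]
      rw [h5]
      exact mul_mem hyY.1 (hMn.conj_mem _ (inv_mem hyY.1) _)
    have h5 := hMB _ h4 h3
    have h6 : Commute (d : G) (y : G) := by
      have h7 : (y : G) * (d : G) * (y : G)⁻¹ * (d : G)⁻¹ = 1 := by simpa using h5
      have h8 : (y : G) * (d : G) = (d : G) * y := by
        have := congrArg (fun z => z * (d : G) * (y : G)) h7
        simpa [mul_assoc] using this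
      exact h8.symm
    obtain ⟨kd, hkd⟩ := exists_pow_eq_one_of_mem_sylow P hdP
    have h9 := pow_eq_one_of_commute h hdN (hMN hyY.1) h6 hkd
    have h10 := eq_one_of_mem_coprime hMc hyY.1 h9
    have h11 : y = 1 := Subtype.ext h10
    rw [h11, map_one]
    exact one_mem _
  rw [eq_bot_iff]
  intro y hy
  have hyL := hYL hy
  have h1 : π ⟨y, hyL⟩ ∈ X := ⟨⟨y, hyL⟩, mem_subgroupOf.2 hy, rfl⟩
  rw [hXeq, hbot] at h1
  have h2 : y ∈ B := (hπ _).1 (mem_bot.1 h1)
  exact mem_bot.2 (hMB y hy.1 h2)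

omit [hNn : N.Normal] hp in
/-- Frobenius action: if `B⟨h⟩` acts on an abelian `V` with `C_V(B) = 1`, then `h` has a nontrivial
fixed point on `V`. -/
theorem exists_fixed_of_frobenius (B V : Subgroup G) {h : G} {q : ℕ} (hq : q.Prime)
    (ho : orderOf h = q) (hhB : h ∈ normalizer (B : Set G)) (hB1 : B ≠ ⊥)
    (hfpf : ∀ b ∈ B, h * b = b * h → b = 1) (hBV : B ≤ normalizer (V : Set G))
    (hhV : h ∈ normalizer (V : Set G)) (hVab : IsMulCommutative V) (hV1 : V ≠ ⊥)
    (hcop : (Nat.card V).Coprime (Nat.card B))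
    (hCB : ∀ v ∈ V, (∀ b ∈ B, b * v = v * b) → v = 1) :
    ∃ v ∈ V, v ≠ 1 ∧ h * v = v * h := by
  classical
  let L : Subgroup G := normalizer (B : Set G)
  let B' : Subgroup L := B.subgroupOf L
  haveI hB'n : B'.Normal := normal_in_normalizer
  let hL : L := ⟨h, hhB⟩
  have hoL : orderOf hL = q := by
    rw [← ho]; exact Subgroup.orderOf_mk h hhB
  let H' : Subgroup L := zpowers hL
  have hB'1 : B' ≠ ⊥ := by
    intro h0
    apply hB1
    rw [eq_bot_iff]
    intro x hx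
    have h1 : (⟨x, le_normalizer hx⟩ : L) ∈ B' := mem_subgroupOf.2 hx
    rw [h0] at h1
    exact congrArg Subtype.val (mem_bot.1 h1)
  have hH'1 : H' ≠ ⊥ := by
    intro h0
    have h1 : hL ∈ H' := mem_zpowers hL
    rw [h0] at h1
    have h2 : hL = 1 := mem_bot.1 h1
    rw [h2, orderOf_one] at hoL
    exact hq.ne_one hoL.symm
  have hfpf' : ∀ k ∈ H', k ≠ 1 → ∀ n ∈ B', k * n = n * k → n = 1 := by
    intro k hk hk1 n hn hkn
    have h1 : zpowers k = H' := by
      apply Subgroup.eq_of_le_of_card_ge (zpowers_le.2 hk)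
      have h2 : Nat.card H' = q := by rw [Nat.card_zpowers, hoL]
      have h3 : Nat.card (zpowers k) ∣ q := h2 ▸ Subgroup.card_dvd_of_le (zpowers_le.2 hk)
      rcases (Nat.dvd_prime hq).1 h3 with h4 | h4
      · exfalso
        rw [Nat.card_zpowers] at h4
        exact hk1 (orderOf_eq_one_iff.1 h4)
      · rw [h2, h4]
    have h2 : hL ∈ zpowers k := h1 ▸ mem_zpowers hL
    obtain ⟨i, hi⟩ := mem_zpowers_iff.1 h2
    have h3 : Commute k n := hkn
    have h4 : Commute hL n := by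
      rw [← hi]; exact h3.zpow_left i
    apply Subtype.ext
    exact hfpf _ (mem_subgroupOf.1 hn) (by simpa using congrArg Subtype.val h4.eq)
  have hdisj : B' ⊓ H' = ⊥ := by
    rw [eq_bot_iff]
    intro x hx
    by_contra hx1
    exact hx1 (hfpf' x hx.2 hx1 x hx.1 rfl)
  obtain ⟨hFr, hKer⟩ :=
    Cfsg.Agent.Lib.Frobenius.Normal.isFrobeniusComplement_subgroupOf_sup B' H' hB'1 hH'1 hdisj hfpf'
  let F : Subgroup L := B' ⊔ H'
  have hFV : ∀ f : F, ((f : L) : G) ∈ normalizer (V : Set G) := by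
    have h1 : F ≤ (normalizer (V : Set G)).subgroupOf L := by
      refine sup_le ?_ ?_
      · intro x hx
        exact mem_subgroupOf.2 (hBV (mem_subgroupOf.1 hx))
      · refine zpowers_le.2 ?_
        exact mem_subgroupOf.2 hhV
    exact fun f => mem_subgroupOf.1 (h1 f.2)
  letI : CommGroup V := { (inferInstance : Group V) with mul_comm := hVab.is_comm.comm }
  let φ : F →* MulAut V := V.normalizerMonoidHom.comp
    ((L.subtype.comp F.subtype).codRestrict _ hFV)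
  have hφ : ∀ (f : F) (v : V), ((φ f v : V) : G) = ((f : L) : G) * v * ((f : L) : G)⁻¹ :=
    fun f v => rfl
  haveI : Nontrivial V := (Subgroup.nontrivial_iff_ne_bot V).2 hV1
  have hkerset : (Cfsg.Agent.Lib.Frobenius.Theorem.kernel (H'.subgroupOf F) : Set F) =
      (B'.subgroupOf F : Set F) := by
    rw [Cfsg.Agent.Lib.Frobenius.Theorem.coe_kernel hFr]
    exact hKer
  have hkermem : ∀ b (hb : b ∈ B), (⟨⟨b, le_normalizer hb⟩, mem_sup_left (mem_subgroupOf.2 hb)⟩ : F) ∈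
      Cfsg.Agent.Lib.Frobenius.Theorem.kernel (H'.subgroupOf F) := by
    intro b hb
    have : ((⟨⟨b, le_normalizer hb⟩, mem_sup_left (mem_subgroupOf.2 hb)⟩ : F) : F) ∈
        (Cfsg.Agent.Lib.Frobenius.Theorem.kernel (H'.subgroupOf F) : Set F) := by
      rw [hkerset]
      exact mem_subgroupOf.2 (mem_subgroupOf.2 hb)
    exact this
  have hindex : (H'.subgroupOf F).index = Nat.card B := by
    rw [← Cfsg.Agent.Lib.Frobenius.Theorem.card_kernel hFr]
    have h1 : Cfsg.Agent.Lib.Frobenius.Theorem.kernel (H'.subgroupOf F) = B'.subgroupOf F :=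
      SetLike.coe_injective hkerset
    rw [h1]
    have h2 : Nat.card (B'.subgroupOf F) = Nat.card B' :=
      Nat.card_congr (subgroupOfEquivOfLe (le_sup_left : B' ≤ F)).toEquiv
    have h3 : Nat.card B' = Nat.card B :=
      Nat.card_congr (subgroupOfEquivOfLe (le_normalizer : B ≤ L)).toEquiv
    rw [h2, h3]
  obtain ⟨v, hv1, hv⟩ := Cfsg.Agent.Lib.Frobenius.FixedPoints.exists_fixed hFr φ (by
    intro v hv
    apply Subtype.ext
    apply hCB v v.2
    intro b hb
    have h1 := congrArg Subtype.val (hv _ (hkermem b hb))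
    rw [hφ] at h1
    have h2 : b * (v : G) * b⁻¹ = v := h1
    calc b * (v : G) = b * v * b⁻¹ * b := by group
      _ = v * b := by rw [h2]) (by rw [hindex]; exact hcop)
  refine ⟨v, v.2, fun h0 => hv1 (Subtype.ext h0), ?_⟩
  have h1 := congrArg Subtype.val (hv ⟨hL, mem_sup_right (mem_zpowers hL)⟩
    (mem_subgroupOf.2 (mem_zpowers hL)))
  rw [hφ] at h1
  have h2 : h * (v : G) * h⁻¹ = v := h1
  calc h * (v : G) = h * v * h⁻¹ * h := by group
    _ = v * h := by rw [h2]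

omit [hNn : N.Normal] in
/-- A `p`-element has a conjugate in `P`. -/
theorem exists_conj_mem (P : Sylow p G) {y : G} {k : ℕ} (hy : y ^ (p ^ k) = 1) :
    ∃ g : G, g * y * g⁻¹ ∈ (P : Subgroup G) := by
  have h1 : IsPGroup p (zpowers y) := by
    rw [IsPGroup.iff_card, Nat.card_zpowers]
    obtain ⟨j, -, hj⟩ := (Nat.dvd_prime_pow hp.out).1 (orderOf_dvd_of_pow_eq_one hy)
    exact ⟨j, hj⟩
  obtain ⟨Q, hQ⟩ := h1.exists_le_sylow
  obtain ⟨g, rfl⟩ := MulAction.exists_smul_eq G P Q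
  have h2 := hQ (mem_zpowers y)
  refine ⟨g⁻¹, ?_⟩
  rw [Cfsg.Agent.Lib.FGStruct.SubnormQuot.mem_smul_sylow] at h2
  simpa using h2

end transitivity

/-- **Camina's trichotomy.** -/
theorem trichotomy (h : IsCamina N) (hN1 : N ≠ ⊥) (hN2 : N ≠ ⊤) :
    (∀ x ∈ N, x ≠ 1 → centralizer ({x} : Set G) ≤ N) ∨ IsPrimePow (Nat.card N) ∨
      IsPrimePow N.index := by
  classical
  by_contra hcon
  push_neg at hcon
  obtain ⟨⟨x, hxN, hx1, hxc⟩, hN3, hN4⟩ := hcon
  obtain ⟨u, huc, huN⟩ := SetLike.not_le_iff_exists.1 hxc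
  obtain ⟨p, k, m, hp, hum, ho⟩ := exists_prime_power_not_mem N huN
  haveI hpf : Fact p.Prime := ⟨hp⟩
  have hcx : Commute (u ^ m) x := by
    have h1 : u * x = x * u := (mem_centralizer_singleton_iff.1 huc)
    exact Commute.pow_left h1 m
  have hump : (u ^ m) ^ (p ^ k) = 1 := by
    rw [← ho]; exact pow_orderOf_eq_one _
  have hxp : x ^ (p ^ k) = 1 := pow_eq_one_of_commute h hum hxN hcx hump
  obtain B₀ : Sylow p N := default
  set B : Subgroup G := (B₀ : Subgroup N).map N.subtype with hBdef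
  have hBp : IsPGroup p B := B₀.isPGroup'.map _
  have hBN : B ≤ N := by
    rintro _ ⟨y, -, rfl⟩
    exact y.2
  obtain ⟨P, hBP⟩ := hBp.exists_le_sylow
  have hNP : N ⊓ (P : Subgroup G) = B := by
    apply le_antisymm _ (le_inf hBN hBP)
    have h1 : IsPGroup p ((P : Subgroup G).subgroupOf N) :=
      P.isPGroup'.comap_of_injective N.subtype N.subtype_injective
    have h2 : (B₀ : Subgroup N) ≤ (P : Subgroup G).subgroupOf N := by
      intro y hy
      exact mem_subgroupOf.2 (hBP ⟨y, hy, rfl⟩)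
    have h3 := B₀.is_maximal' h1 h2
    rintro y ⟨hyN, hyP⟩
    have h4 : (⟨y, hyN⟩ : N) ∈ (P : Subgroup G).subgroupOf N := mem_subgroupOf.2 hyP
    rw [h3] at h4
    exact ⟨_, h4, rfl⟩
  have hPN : ¬ (P : Subgroup G) ≤ N := by
    intro hle
    obtain ⟨g, hg⟩ := exists_conj_mem P hump
    have h1 := hNn.conj_mem _ (hle hg) g⁻¹
    apply hum
    simpa [mul_assoc] using h1
  have hB1 : N ⊓ (P : Subgroup G) ≠ ⊥ := by
    obtain ⟨g, hg⟩ := exists_conj_mem P hxp
    intro h0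
    have h1 : g * x * g⁻¹ ∈ N ⊓ (P : Subgroup G) := ⟨hNn.conj_mem x hxN g, hg⟩
    rw [h0] at h1
    apply hx1
    have h2 : g * x * g⁻¹ = 1 := mem_bot.1 h1
    have h3 : x = g⁻¹ * (g * x * g⁻¹) * g := by group
    rw [h3, h2]; group
  have hC : HasNormalPComplement p N := hasNormalPComplement h P hPN
  set M : Subgroup G := compl p N with hM
  haveI hMn : M.Normal := compl_normal p N
  have hMc : (Nat.card M).Coprime p := coprime_card_compl hC
  have hMN : M ≤ N := compl_le p N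
  have hY := inf_centralizer_eq_bot h P hPN hMN hMc hB1
  rw [hNP] at hY hB1
  -- the decomposition of `N`
  have hcompl := isComplement'_pResidual hC B₀
  have hdecomp : ∀ n ∈ N, ∃ m ∈ M, ∃ b ∈ B, n = m * b := by
    intro n hn
    have h1 : (⟨n, hn⟩ : N) ∈ pResidual p N ⊔ (B₀ : Subgroup N) := by
      rw [hcompl.sup_eq_top]; trivial
    obtain ⟨y, hy, z, hz, hyz⟩ := mem_sup_of_normal_left.1 h1
    exact ⟨y, ⟨y, hy, rfl⟩, z, ⟨z, hz, rfl⟩, (congrArg Subtype.val hyz).symm⟩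
  have hB1' : B ≠ ⊥ := hB1
  have hBP' : ∀ b ∈ B, ∃ j : ℕ, b ^ (p ^ j) = 1 := fun b hb =>
    exists_pow_eq_one_of_mem_sylow P (hBP hb)
  have hMB : ∀ y, y ∈ M → y ∈ B → y = 1 := by
    intro y hy hyB
    obtain ⟨j, hj⟩ := hBP' y hyB
    exact eq_one_of_mem_coprime hMc hy hj
  have hM1 : M ≠ ⊥ := by
    intro h0
    have h1 : N ≤ B := by
      intro n hn
      obtain ⟨m, hm, b, hb, rfl⟩ := hdecomp n hn
      rw [h0, mem_bot] at hm
      simpa [hm] using hb
    have h2 : N = B := le_antisymm h1 hBN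
    obtain ⟨j, hj⟩ := IsPGroup.iff_card.1 hBp
    apply hN3
    have h3 : Nat.card N = p ^ j := by
      rw [← hj]
      exact Nat.card_congr (MulEquiv.subgroupCongr h2).toEquiv
    rw [h3]
    apply (Nat.Prime.isPrimePow hp).pow
    rintro rfl
    apply hN1
    rw [pow_zero] at h3
    exact (Subgroup.card_eq_one).1 h3
  -- `N ∩ N_G(B) = B`
  have hNH : ∀ n ∈ N, n ∈ normalizer (B : Set G) → n ∈ B := by
    intro n hn hnH
    obtain ⟨m, hm, b, hb, rfl⟩ := hdecomp n hn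
    have hmH : m ∈ normalizer (B : Set G) := by
      have := mul_mem hnH (inv_mem (le_normalizer hb))
      simpa using this
    have hmC : m ∈ centralizer (B : Set G) := by
      rw [mem_centralizer_iff]
      intro y hy
      have h1 : m * y * m⁻¹ ∈ B := (mem_normalizer_iff.1 hmH y).1 hy
      have h2 : m * y * m⁻¹ * y⁻¹ ∈ B := mul_mem h1 (inv_mem hy)
      have h3 : m * y * m⁻¹ * y⁻¹ ∈ M := by
        have e : m * y * m⁻¹ * y⁻¹ = m * (y * m⁻¹ * y⁻¹) := by group
        rw [e]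
        exact mul_mem hm (hMn.conj_mem _ (inv_mem hm) _)
      have h4 := hMB _ h3 h2
      have h5 : m * y = y * m := by
        have := congrArg (fun z => z * y * m) h4
        simpa [mul_assoc] using this
      exact h5.symm
    have h1 : m ∈ M ⊓ centralizer (B : Set G) := ⟨hm, hmC⟩
    rw [hY, mem_bot] at h1
    simpa [h1] using hb
  -- a second prime
  have hidx0 : N.index ≠ 0 := Subgroup.FiniteIndex.index_ne_zero
  have hidx1 : N.index ≠ 1 := by
    rw [Ne, Subgroup.index_eq_one]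
    exact hN2
  obtain ⟨q, hq, hqp, hqd⟩ : ∃ q : ℕ, q.Prime ∧ q ≠ p ∧ q ∣ N.index := by
    by_contra hno
    push_neg at hno
    have h1 := Nat.eq_prime_pow_of_unique_prime_dvd hidx0 (fun {d} hd hdd => by
      by_contra hdp
      exact hno d hd hdp hdd)
    apply hN4
    rw [h1]
    apply (Nat.Prime.isPrimePow hp).pow
    intro h0
    rw [h0, pow_zero] at h1
    exact hidx1 h1
  haveI hqf : Fact q.Prime := ⟨hq⟩
  obtain Q : Sylow q G := default
  have hQN : ¬ (Q : Subgroup G) ≤ N := by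
    intro hle
    exact Q.not_dvd_index (hqd.trans (index_dvd_of_le hle))
  obtain ⟨h₀, hh₀Q, hh₀N⟩ := SetLike.not_le_iff_exists.1 hQN
  obtain ⟨t, ht⟩ := exists_pow_eq_one_of_mem_sylow Q hh₀Q
  have hFr := Sylow.normalizer_sup_eq_top B₀
  have hh₀ : h₀ ∈ normalizer (B : Set G) ⊔ N := by
    rw [hFr]; trivial
  obtain ⟨h₁, hh₁H, n, hn, hh₁n⟩ := mem_sup_of_normal_right.1 hh₀
  have hh₁N : h₁ ∉ N := by
    intro h0
    apply hh₀N
    rw [← hh₁n]
    exact mul_mem h0 hn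
  have hh₁q : h₁ ^ (q ^ t) ∈ N := by
    have h1 : ((h₁ ^ (q ^ t) : G) : G ⧸ N) = 1 := by
      have h2 : (h₁ : G ⧸ N) = (h₀ : G ⧸ N) := by
        rw [← hh₁n, QuotientGroup.mk_mul, (QuotientGroup.eq_one_iff n).2 hn, mul_one]
      rw [QuotientGroup.mk_pow, h2, ← QuotientGroup.mk_pow, ht]
      rfl
    exact (QuotientGroup.eq_one_iff _).1 h1
  obtain ⟨a, d, hd, hoad⟩ :=
    Nat.exists_eq_pow_mul_and_not_dvd (orderOf_pos h₁).ne' q hq.ne_one
  have hh₂N : h₁ ^ d ∉ N := by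
    intro h0
    have hcopd : (q ^ t).Coprime d :=
      Nat.Coprime.pow_left _ ((Nat.Prime.coprime_iff_not_dvd hq).2 hd)
    exact hh₁N (mem_of_pow_mem_of_coprime N hcopd hh₁q h0)
  have hh₂q : (h₁ ^ d) ^ (q ^ a) = 1 := by
    rw [← pow_mul, mul_comm, ← hoad]
    exact pow_orderOf_eq_one h₁
  obtain ⟨a', -, ha'⟩ := (Nat.dvd_prime_pow hq).1 (orderOf_dvd_of_pow_eq_one hh₂q)
  have ha'0 : a' ≠ 0 := by
    rintro rfl
    rw [pow_zero] at ha'
    have := orderOf_eq_one_iff.1 ha'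
    exact hh₂N (this ▸ N.one_mem)
  have hqo : q ∣ orderOf (h₁ ^ d) := by
    rw [ha']; exact dvd_pow_self q ha'0
  set hh : G := (h₁ ^ d) ^ (orderOf (h₁ ^ d) / q) with hhh
  have hoh : orderOf hh = q := orderOf_pow_orderOf_div (orderOf_pos _).ne' hqo
  have hhH : hh ∈ normalizer (B : Set G) := pow_mem (pow_mem hh₁H d) _
  have hhN : hh ∉ N := by
    intro h0
    obtain ⟨j, hj⟩ := hBP' hh (hNH hh h0 hhH)
    have h1 : q ∣ p ^ j := hoh ▸ orderOf_dvd_of_pow_eq_one hj
    exact hqp ((Nat.prime_dvd_prime_iff_eq hq hp).1 (hq.dvd_of_dvd_pow h1))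
  have hq1 : ∀ n ∈ N, hh * n = n * hh → n ^ q = 1 := by
    intro n hn hc
    apply pow_eq_one_of_commute h hhN hn hc
    rw [← hoh]
    exact pow_orderOf_eq_one hh
  have hfpf : ∀ b ∈ B, hh * b = b * hh → b = 1 := by
    intro b hb hc
    have h1 := hq1 b (hBN hb) hc
    obtain ⟨j, hj⟩ := hBP' b hb
    have h2 : orderOf b ∣ q := orderOf_dvd_of_pow_eq_one h1
    have h3 : orderOf b ∣ p ^ j := orderOf_dvd_of_pow_eq_one hj
    have h4 : q.Coprime (p ^ j) := Nat.Coprime.pow_right _ ((Nat.coprime_primes hq hp).2 hqp)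
    exact orderOf_eq_one_iff.1 (Nat.eq_one_of_dvd_coprimes h4 h2 h3)
  -- every prime dividing `|M|` equals `q`
  have hMq : ∀ {r : ℕ}, r.Prime → r ∣ Nat.card M → r = q := by
    intro r hr hrd
    by_contra hrq
    haveI hrf : Fact r.Prime := ⟨hr⟩
    have hBMn : B ≤ normalizer (M : Set G) := by
      rw [Subgroup.normalizer_eq_top_iff.2 hMn]
      exact le_top
    have hcopBM : (Nat.card B).Coprime (Nat.card M) := by
      obtain ⟨j, hj⟩ := IsPGroup.iff_card.1 hBp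
      rw [hj]
      exact (hMc.pow_right j).symm
    have hsolv : Group.IsSolvable B ∨ Group.IsSolvable M := by
      left
      haveI := hBp.isNilpotent
      infer_instance
    obtain ⟨R, hR, hBR⟩ := Cfsg.Agent.Lib.Coprime.Action.exists_invariant_sylowIn (p := r)
      hBMn hcopBM hsolv
    have hhM : hh ∈ normalizer (M : Set G) := by
      rw [Subgroup.normalizer_eq_top_iff.2 hMn]
      trivial
    have hR₁ := hR.conj_of_mem_normalizer hhM
    have hBR₁ : B ≤ normalizer ((MulAut.conj hh • R : Subgroup G) : Set G) := by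
      intro b hb
      rw [Cfsg.Agent.Lib.Coprime.Action.mem_normalizer_conj_iff]
      apply hBR
      have := (mem_normalizer_iff.1 (inv_mem hhH) b).1 hb
      simpa using this
    obtain ⟨c, hc, hcR⟩ := Cfsg.Agent.Lib.Coprime.Action.invariant_sylowIn_conj hBMn hcopBM hsolv
      hR hR₁ hBR hBR₁
    rw [hY, mem_bot] at hc
    rw [hc, map_one, one_smul] at hcR
    have hhR : hh ∈ normalizer (R : Set G) :=
      Cfsg.Agent.Lib.Coprime.Action.mem_normalizer_of_conj_smul_eq hcR.symm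
    -- the centre of `R`
    let V : Subgroup G := R ⊓ centralizer (R : Set G)
    have hVM : V ≤ M := inf_le_left.trans hR.1
    have hVab : IsMulCommutative V := ⟨⟨fun a b => Subtype.ext
      (mem_centralizer_iff.1 (mem_inf.1 b.2).2 a (mem_inf.1 a.2).1)⟩⟩
    have hRcard : r ∣ Nat.card R := by
      have h1 := Cfsg.Agent.Lib.Coprime.Action.card_eq_card_mul_relIndex hR.1
      rw [h1] at hrd
      exact (hr.dvd_mul.1 hrd).resolve_right hR.2.2
    have hRne : (⊤ : Subgroup R) ≠ ⊥ := by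
      intro h0
      have h1 : Nat.card R = 1 := by
        rw [← Subgroup.card_top, h0, Subgroup.card_bot]
      rw [h1] at hRcard
      exact hr.one_lt.ne' (Nat.dvd_one.1 hRcard)
    have hV1 : V ≠ ⊥ := by
      obtain ⟨z, -, hzc, hzo⟩ :=
        Cfsg.Agent.Lib.PGroups.Basic.exists_central_orderOf_eq hR.2.1 ⊤ hRne
      intro h0
      have h1 : (z : G) ∈ V := by
        refine mem_inf.2 ⟨z.2, ?_⟩
        rw [mem_centralizer_iff]
        intro y hy
        exact congrArg Subtype.val (mem_center_iff.1 hzc ⟨y, hy⟩)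
      rw [h0, mem_bot] at h1
      have h2 : z = 1 := Subtype.ext h1
      rw [h2, orderOf_one] at hzo
      exact hr.ne_one hzo.symm
    have hVn : normalizer (R : Set G) ≤ normalizer (V : Set G) := by
      intro g hg
      have key : ∀ g ∈ normalizer (R : Set G), ∀ x ∈ V, g * x * g⁻¹ ∈ V := by
        intro g hg x hx
        refine mem_inf.2 ⟨(mem_normalizer_iff.1 hg x).1 hx.1, ?_⟩
        rw [mem_centralizer_iff]
        intro y hy
        have hy' : g⁻¹ * y * g ∈ R := by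
          have := (mem_normalizer_iff.1 (inv_mem hg) y).1 hy
          simpa using this
        have hc := mem_centralizer_iff.1 hx.2 _ hy'
        calc y * (g * x * g⁻¹) = g * ((g⁻¹ * y * g) * x) * g⁻¹ := by group
          _ = g * (x * (g⁻¹ * y * g)) * g⁻¹ := by rw [hc]
          _ = (g * x * g⁻¹) * y := by group
      rw [mem_normalizer_iff]
      intro x
      refine ⟨key g hg x, fun hx => ?_⟩
      have := key g⁻¹ (inv_mem hg) _ hx
      simpa [mul_assoc] using this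
    have hcopVB : (Nat.card V).Coprime (Nat.card B) := by
      have h1 : Nat.card V ∣ Nat.card M := Subgroup.card_dvd_of_le hVM
      exact Nat.Coprime.coprime_dvd_left h1 hcopBM.symm
    have hCB : ∀ v ∈ V, (∀ b ∈ B, b * v = v * b) → v = 1 := by
      intro v hv hvc
      have h1 : v ∈ M ⊓ centralizer (B : Set G) :=
        ⟨hVM hv, mem_centralizer_iff.2 hvc⟩
      rw [hY] at h1
      exact mem_bot.1 h1
    obtain ⟨v, hvV, hv1, hvc⟩ := exists_fixed_of_frobenius B V hq hoh hhH hB1' hfpf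
      (hBR.trans hVn) (hVn hhR) hVab hV1 hcopVB hCB
    have h1 := hq1 v (hMN (hVM hvV)) hvc
    obtain ⟨s, hs⟩ := hR.2.1 ⟨v, hvV.1⟩
    have h2 : v ^ (r ^ s) = 1 := by simpa using congrArg Subtype.val hs
    have h3 : orderOf v ∣ q := orderOf_dvd_of_pow_eq_one h1
    have h4 : orderOf v ∣ r ^ s := orderOf_dvd_of_pow_eq_one h2
    have h5 : q.Coprime (r ^ s) :=
      Nat.Coprime.pow_right _ ((Nat.coprime_primes hq hr).2 (Ne.symm hrq))
    exact hv1 (orderOf_eq_one_iff.1 (Nat.eq_one_of_dvd_coprimes h5 h3 h4))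
  have hcardM := Nat.eq_prime_pow_of_unique_prime_dvd (Nat.card_pos (α := M)).ne' hMq
  have hC₂ : HasNormalPComplement q N := hasNormalPComplement h Q hQN
  have hBM₂ : B ≤ compl q N := by
    intro b hb
    refine (mem_compl hC₂).2 ⟨hBN hb, ?_⟩
    obtain ⟨j, hj⟩ := hBP' b hb
    have h1 : orderOf b ∣ p ^ j := orderOf_dvd_of_pow_eq_one hj
    exact Nat.Coprime.coprime_dvd_left h1
      (Nat.Coprime.pow_left _ ((Nat.coprime_primes hp hq).2 (Ne.symm hqp)))
  have hdisj : Disjoint M (compl q N) := by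
    rw [Subgroup.disjoint_def]
    intro x hx1 hx2
    have h1 : x ^ (q ^ (Nat.card M).primeFactorsList.length) = 1 := by
      rw [← hcardM]
      exact orderOf_dvd_iff_pow_eq_one.1 (Subgroup.orderOf_dvd_natCard M hx1)
    exact eq_one_of_mem_coprime (coprime_card_compl hC₂) hx2 h1
  have hcommM := commute_of_normal_of_disjoint M (compl q N) hMn (compl_normal q N) hdisj
  apply hM1
  rw [eq_bot_iff, ← hY]
  intro m hm
  refine ⟨hm, mem_centralizer_iff.2 ?_⟩
  intro b hb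
  exact (hcommM m b hm (hBM₂ hb)).eq.symm

end Cfsg.Agent.Lib.FGStruct.Camina
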