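import Mathlib

/-!
# Weight filtrations of the modular group algebra

For a group `G` of exponent `p` with a filtration `F` and a chain of normal subgroups, one builds ideals-like
subspaces `J b` of `𝔽ₚ[G]` with `J a * J b ≤ J (a + b)`, `z - 1 ∈ J v` for `z ∈ F v`, in such a way that the
last member `c` of the chain satisfies `c - 1 ∉ J (wt c + 1)` (the easy half of Jennings' theorem).
-/

set_option autoImplicit false
set_option linter.unusedSectionVars false

namespace Cfsg.Agent.Lib.FGStruct.JennLite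

open scoped commutatorElement

universe u

variable {G : Type u} [Group G] {p : ℕ} [hp : Fact p.Prime]

/-- The group algebra. -/
abbrev Ap (p : ℕ) (G : Type u) [Group G] := MonoidAlgebra (ZMod p) G

/-- The canonical map. -/
noncomputable abbrev io (p : ℕ) {G : Type u} [Group G] : G →* Ap p G := MonoidAlgebra.of (ZMod p) G

theorem io_mul_inv (g : G) : io p g * io p g⁻¹ = 1 := by
  rw [← map_mul, mul_inv_cancel, map_one]

theorem io_inv_mul (g : G) : io p g⁻¹ * io p g = 1 := by
  rw [← map_mul, inv_mul_cancel, map_one]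

instance charPAp : CharP (Ap p G) p :=
  charP_of_injective_algebraMap (algebraMap (ZMod p) (Ap p G)).injective p

theorem sub_one_pow (x : G) (hx : x ^ p = 1) : (io p x - 1) ^ p = 0 := by
  rw [sub_pow_char_of_commute p (Commute.one_right _), ← map_pow, hx, map_one, one_pow, sub_self]

/-- Elements supported on a subgroup. -/
noncomputable def suppS (p : ℕ) (B : Subgroup G) : Submodule (ZMod p) (Ap p G) where
  carrier := {x | ∀ k, x.coeff k ≠ 0 → k ∈ B}
  add_mem' := by
    intro x y hx hy k hk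
    by_cases h1 : x.coeff k = 0
    · apply hy
      intro h2
      apply hk
      rw [MonoidAlgebra.coeff_add, Finsupp.add_apply, h1, h2, add_zero]
    · exact hx k h1
  zero_mem' := by
    intro k hk
    simp at hk
  smul_mem' := by
    intro c x hx k hk
    apply hx
    intro h2
    apply hk
    rw [MonoidAlgebra.coeff_smul, Finsupp.smul_apply, h2, smul_zero]

theorem mem_suppS {B : Subgroup G} {x : Ap p G} : x ∈ suppS p B ↔ ∀ k, x.coeff k ≠ 0 → k ∈ B := Iff.rfl

theorem suppS_mono {B B' : Subgroup G} (h : B' ≤ B) : suppS p B' ≤ suppS p B := by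
  intro x hx k hk
  exact h (hx k hk)

theorem suppS_mul {B : Subgroup G} {x y : Ap p G} (hx : x ∈ suppS p B) (hy : y ∈ suppS p B) : x * y ∈ suppS p B := by
  intro k hk
  rw [MonoidAlgebra.coeff_mul_apply_left] at hk
  obtain ⟨h, hh, hne⟩ := Finset.exists_ne_zero_of_sum_ne_zero hk
  have h1 : x.coeff h ≠ 0 := Finsupp.mem_support_iff.1 hh
  have h2 : y.coeff (h⁻¹ * k) ≠ 0 := right_ne_zero_of_mul hne
  have h3 := B.mul_mem (hx h h1) (hy _ h2)
  simpa using h3

theorem suppS_io {B : Subgroup G} {z : G} (hz : z ∈ B) : io p z ∈ suppS p B := by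
  classical
  intro k hk
  have e : (io p z).coeff k = if z = k then 1 else 0 := by
    show (MonoidAlgebra.single z (1 : ZMod p)).coeff k = _
    rw [MonoidAlgebra.coeff_single, Finsupp.single_apply]
  rw [e] at hk
  by_cases h : z = k
  · exact h ▸ hz
  · simp [h] at hk

theorem suppS_one {B : Subgroup G} : (1 : Ap p G) ∈ suppS p B := by
  have := suppS_io (p := p) (B := B) (one_mem B)
  rwa [map_one] at this

theorem suppS_pow {B : Subgroup G} {x : Ap p G} (hx : x ∈ suppS p B) (e : ℕ) : x ^ e ∈ suppS p B := by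
  induction e with
  | zero =>
    rw [pow_zero]
    exact suppS_one
  | succ e ih =>
    rw [pow_succ]
    exact suppS_mul ih hx

/-- The structure to be built. -/
structure JFilt (p : ℕ) (F : ℕ → Subgroup G) (B : Subgroup G) (J : ℕ → Submodule (ZMod p) (Ap p G)) : Prop where
  anti : ∀ b, J (b + 1) ≤ J b
  one : (1 : Ap p G) ∈ J 0
  mul : ∀ a b x y, x ∈ J a → y ∈ J b → x * y ∈ J (a + b)
  sub : ∀ v z, z ∈ B → z ∈ F v → io p z - 1 ∈ J v
  conj : ∀ v h b x, 1 ≤ v → h ∈ F v → x ∈ J b → io p h * x * io p h⁻¹ - x ∈ J (b + v)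
  supp : ∀ b x, x ∈ J b → x ∈ suppS p B

variable {F : ℕ → Subgroup G} {B B' : Subgroup G} {J' : ℕ → Submodule (ZMod p) (Ap p G)}

theorem JFilt.anti_le (hJ : JFilt p F B J') {a b : ℕ} (h : a ≤ b) : J' b ≤ J' a := by
  induction h with
  | refl => exact le_rfl
  | step _ ih => exact (hJ.anti _).trans ih

/-- The next step of the filtration. -/
noncomputable def JS (J' : ℕ → Submodule (ZMod p) (Ap p G)) (d : Ap p G) (w b : ℕ) : Submodule (ZMod p) (Ap p G) where
  carrier := {x | ∃ f : ℕ → Ap p G, (∀ e, f e ∈ J' (b - e * w)) ∧ x = ∑ e ∈ Finset.range p, d ^ e * f e}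
  add_mem' := by
    rintro x y ⟨f, hf, rfl⟩ ⟨f', hf', rfl⟩
    refine ⟨f + f', fun e => (J' _).add_mem (hf e) (hf' e), ?_⟩
    simp only [Pi.add_apply, mul_add, Finset.sum_add_distrib]
  zero_mem' := ⟨0, fun e => (J' _).zero_mem, by simp⟩
  smul_mem' := by
    rintro c x ⟨f, hf, rfl⟩
    refine ⟨c • f, fun e => (J' _).smul_mem c (hf e), ?_⟩
    simp only [Pi.smul_apply, Finset.smul_sum, mul_smul_comm]

theorem mem_JS {d : Ap p G} {w b : ℕ} {x : Ap p G} :
    x ∈ JS J' d w b ↔ ∃ f : ℕ → Ap p G, (∀ e, f e ∈ J' (b - e * w)) ∧ x = ∑ e ∈ Finset.range p, d ^ e * f e := Iff.rfl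

section Step

variable {g : G} {w : ℕ}

/-- The hypotheses of the extension step. -/
structure StepH (p : ℕ) (F : ℕ → Subgroup G) (B B' : Subgroup G) (J' : ℕ → Submodule (ZMod p) (Ap p G)) (g : G) (w : ℕ) :
    Prop where
  hJ : JFilt p F B' J'
  anti : Antitone F
  comm : ∀ a b, ⁅F a, F b⁆ ≤ F (a + b)
  norm : B.Normal
  le : B' ≤ B
  w1 : 1 ≤ w
  gF : g ∈ F w
  gB : g ∈ B
  gB' : g ∉ B'
  gp : g ^ p = 1
  gen : ∀ z ∈ B, ∃ c : ℕ, z * (g ^ c)⁻¹ ∈ B'
  chain : ∀ z ∈ B, z ∈ F (w + 1) → z ∈ B'

variable (S : StepH p F B B' J' g w)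

include S

local notation "d" => (io p g - 1)

theorem dp : d ^ p = (0 : Ap p G) := sub_one_pow g S.gp

theorem dpow_of_le {e : ℕ} (h : p ≤ e) : d ^ e = (0 : Ap p G) := by
  obtain ⟨k, rfl⟩ := Nat.exists_eq_add_of_le h
  rw [pow_add, dp S, zero_mul]

theorem JS_mono {a b : ℕ} (h : a ≤ b) : JS J' d w b ≤ JS J' d w a := by
  rintro x ⟨f, hf, rfl⟩
  exact ⟨f, fun e => S.hJ.anti_le (by omega) (hf e), rfl⟩

theorem JS_of {u : Ap p G} {b : ℕ} (hu : u ∈ J' b) : u ∈ JS J' d w b := by
  classical
  refine ⟨fun e => if e = 0 then u else 0, ?_, ?_⟩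
  · intro e
    by_cases he : e = 0
    · subst he
      simpa using hu
    · simp [he]
  · rw [Finset.sum_eq_single 0]
    · simp
    · intro e _ he
      simp [he]
    · intro h0
      exact absurd (Finset.mem_range.2 hp.out.pos) h0

theorem d_mul {x : Ap p G} {b : ℕ} (hx : x ∈ JS J' d w b) : d * x ∈ JS J' d w (b + w) := by
  obtain ⟨f, hf, rfl⟩ := hx
  refine ⟨fun e => if e = 0 then 0 else f (e - 1), ?_, ?_⟩
  · intro e
    rcases e with _ | e
    · simp
    · simp only [Nat.succ_ne_zero, if_false, Nat.add_sub_cancel]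
      have e1 : b + w - (e + 1) * w = b - e * w := by
        rw [Nat.add_mul, one_mul]
        omega
      rw [e1]
      exact hf e
  · obtain ⟨q, hq⟩ : ∃ q, p = q + 1 := ⟨p - 1, by have := hp.out.two_le; omega⟩
    have hdp := dp S
    have hr : Finset.range p = Finset.range (q + 1) := by rw [hq]
    rw [Finset.mul_sum]
    nth_rewrite 1 [hr]
    rw [Finset.sum_range_succ]
    nth_rewrite 1 [hr]
    rw [Finset.sum_range_succ']
    have e1 : (io p g - 1) * ((io p g - 1) ^ q * f q) = 0 := by
      rw [← mul_assoc, ← pow_succ', ← hq, hdp, zero_mul]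
    rw [e1, add_zero]
    simp only [Nat.succ_ne_zero, if_false, Nat.add_sub_cancel, if_true, mul_zero, add_zero]
    apply Finset.sum_congr rfl
    intro e _
    rw [← mul_assoc, ← pow_succ']

theorem dpow_mul {x : Ap p G} {b : ℕ} (hx : x ∈ JS J' d w b) (e : ℕ) : d ^ e * x ∈ JS J' d w (b + e * w) := by
  induction e with
  | zero => simpa using hx
  | succ e ih =>
    rw [pow_succ', mul_assoc]
    have := d_mul S ih
    have e1 : b + (e + 1) * w = b + e * w + w := by ring
    rw [e1]
    exact this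

theorem J_mul_d {u : Ap p G} {c : ℕ} (hu : u ∈ J' c) : u * d ∈ JS J' d w (c + w) := by
  have hc := S.hJ.conj w g⁻¹ c u S.w1 ((F w).inv_mem S.gF) hu
  rw [inv_inv] at hc
  set cu := io p g⁻¹ * u * io p g with hcu
  have hc' : cu ∈ J' c := by
    have h1 := (J' c).add_mem (S.hJ.anti_le (Nat.le_add_right c w) hc) hu
    simpa using h1
  have e : u * (io p g - 1) = (io p g - 1) * cu + (cu - u) := by
    have h1 : io p g * cu = u * io p g := by
      rw [hcu, ← mul_assoc, ← mul_assoc, io_mul_inv, one_mul]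
    rw [sub_mul, h1]
    rw [mul_sub]
    simp
  rw [e]
  exact (JS J' d w (c + w)).add_mem (d_mul S (JS_of S hc')) (JS_of S hc)

theorem JS_mul_d {x : Ap p G} {b : ℕ} (hx : x ∈ JS J' d w b) : x * d ∈ JS J' d w (b + w) := by
  obtain ⟨f, hf, rfl⟩ := hx
  rw [Finset.sum_mul]
  apply Submodule.sum_mem
  intro e _
  rw [mul_assoc]
  have h1 := dpow_mul S (J_mul_d S (hf e)) e
  exact JS_mono S (by
    have := Nat.sub_add_cancel (n := b) (m := e * w)
    by_cases hle : e * w ≤ b
    · have := this hle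
      omega
    · have e2 : b - e * w = 0 := by omega
      rw [e2]
      have : b ≤ e * w := by omega
      omega) h1

theorem JS_mul_dpow {x : Ap p G} {b : ℕ} (hx : x ∈ JS J' d w b) (e : ℕ) : x * d ^ e ∈ JS J' d w (b + e * w) := by
  induction e with
  | zero => simpa using hx
  | succ e ih =>
    rw [pow_succ, ← mul_assoc]
    have := JS_mul_d S ih
    have e1 : b + (e + 1) * w = b + e * w + w := by ring
    rw [e1]
    exact this

theorem JS_mul_J {x u : Ap p G} {a c : ℕ} (hx : x ∈ JS J' d w a) (hu : u ∈ J' c) : x * u ∈ JS J' d w (a + c) := by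
  obtain ⟨f, hf, rfl⟩ := hx
  rw [Finset.sum_mul]
  apply Submodule.sum_mem
  intro e _
  rw [mul_assoc]
  have h1 := dpow_mul S (JS_of S (S.hJ.mul _ _ _ _ (hf e) hu)) e
  refine JS_mono S ?_ h1
  by_cases hle : e * w ≤ a
  · omega
  · omega

theorem JS_mul {x y : Ap p G} {a b : ℕ} (hx : x ∈ JS J' d w a) (hy : y ∈ JS J' d w b) : x * y ∈ JS J' d w (a + b) := by
  obtain ⟨f, hf, rfl⟩ := hy
  rw [Finset.mul_sum]
  apply Submodule.sum_mem
  intro e _
  rw [← mul_assoc]
  have h1 := JS_mul_J S (JS_mul_dpow S hx e) (hf e)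
  refine JS_mono S ?_ h1
  by_cases hle : e * w ≤ b
  · omega
  · omega

theorem one_JS : (1 : Ap p G) ∈ JS J' d w 0 := JS_of S S.hJ.one

theorem d_JS : d ∈ JS J' d w w := by
  have := d_mul S (one_JS S)
  rw [mul_one, zero_add] at this
  exact this

theorem io_g_JS : io p g ∈ JS J' d w 0 := by
  have h2 := (JS J' d w 0).add_mem (JS_mono S (Nat.zero_le _) (d_JS S)) (one_JS S)
  rwa [sub_add_cancel] at h2

theorem gpow_sub_one (c : ℕ) : io p (g ^ c) - 1 ∈ JS J' d w w := by
  induction c with
  | zero =>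
    rw [pow_zero, map_one, sub_self]
    exact Submodule.zero_mem _
  | succ c ih =>
    have e : io p (g ^ (c + 1)) - 1 = (io p (g ^ c) - 1) * io p g + d := by
      rw [pow_succ, map_mul, sub_mul, one_mul]
      abel
    rw [e]
    refine (JS J' d w w).add_mem ?_ (d_JS S)
    exact JS_mul S ih (io_g_JS S)

theorem gpow_JS (c : ℕ) : io p (g ^ c) ∈ JS J' d w 0 := by
  have h1 : io p (g ^ c) = (io p (g ^ c) - 1) + 1 := (sub_add_cancel _ _).symm
  rw [h1]
  exact (JS J' d w 0).add_mem (JS_mono S (Nat.zero_le _) (gpow_sub_one S c)) (one_JS S)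

theorem JS_sub (v : ℕ) (z : G) (hzB : z ∈ B) (hzF : z ∈ F v) : io p z - 1 ∈ JS J' d w v := by
  by_cases hz : z ∈ B'
  · exact JS_of S (S.hJ.sub v z hz hzF)
  · have hv : v ≤ w := by
      by_contra hcon
      exact hz (S.chain z hzB (S.anti (by omega) hzF))
    obtain ⟨c, hc⟩ := S.gen z hzB
    set z' := z * (g ^ c)⁻¹ with hz'
    have hzF' : z' ∈ F v :=
      (F v).mul_mem hzF ((F v).inv_mem ((F v).pow_mem (S.anti hv S.gF) c))
    have e : io p z - 1 = (io p z' - 1) * io p (g ^ c) + (io p (g ^ c) - 1) := by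
      have : z = z' * g ^ c := by simp [hz']
      nth_rewrite 1 [this]
      rw [map_mul, sub_mul, one_mul]
      abel
    rw [e]
    refine (JS J' d w v).add_mem ?_ (JS_mono S hv (gpow_sub_one S c))
    have := JS_mul S (JS_of S (S.hJ.sub v z' hc hzF')) (gpow_JS S c)
    simpa using this

/-- The difference of conjugation is compatible with products. -/
theorem conj_mul_aux {v : ℕ} {h : G} {x y : Ap p G} {a b : ℕ} (hx : x ∈ JS J' d w a)
    (hdx : io p h * x * io p h⁻¹ - x ∈ JS J' d w (a + v)) (hy : y ∈ JS J' d w b)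
    (hdy : io p h * y * io p h⁻¹ - y ∈ JS J' d w (b + v)) :
    io p h * (x * y) * io p h⁻¹ - x * y ∈ JS J' d w (a + b + v) := by
  set X := io p h * x * io p h⁻¹ - x with hX
  set Y := io p h * y * io p h⁻¹ - y with hY
  have e : io p h * (x * y) * io p h⁻¹ - x * y = X * y + x * Y + X * Y := by
    have e1 : io p h * (x * y) * io p h⁻¹ = (io p h * x * io p h⁻¹) * (io p h * y * io p h⁻¹) := by
      have : (io p h * x * io p h⁻¹) * (io p h * y * io p h⁻¹) =
          io p h * x * (io p h⁻¹ * io p h) * y * io p h⁻¹ := by simp only [mul_assoc]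
      rw [this, io_inv_mul]
      simp only [mul_assoc, mul_one]
    rw [e1, hX, hY]
    noncomm_ring
  rw [e]
  have h1 : X * y ∈ JS J' d w (a + b + v) := by
    have := JS_mul S hdx hy
    rwa [show a + v + b = a + b + v by omega] at this
  have h2 : x * Y ∈ JS J' d w (a + b + v) := by
    have := JS_mul S hx hdy
    rwa [show a + (b + v) = a + b + v by omega] at this
  have h3 : X * Y ∈ JS J' d w (a + b + v) := JS_mono S (by omega) (JS_mul S hdx hdy)
  exact (JS J' d w _).add_mem ((JS J' d w _).add_mem h1 h2) h3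

theorem conj_d {v : ℕ} {h : G} (hv : 1 ≤ v) (hh : h ∈ F v) : io p h * d * io p h⁻¹ - d ∈ JS J' d w (w + v) := by
  have hcomm : ⁅h, g⁆ ∈ F (v + w) := S.comm v w (Subgroup.commutator_mem_commutator hh S.gF)
  have hB : ⁅h, g⁆ ∈ B := by
    rw [commutatorElement_def]
    exact B.mul_mem (S.norm.conj_mem g S.gB h) (B.inv_mem S.gB)
  have hB' : ⁅h, g⁆ ∈ B' := S.chain _ hB (S.anti (by omega) hcomm)
  have h1 := S.hJ.sub _ _ hB' hcomm
  have e : io p h * d * io p h⁻¹ - d = (io p ⁅h, g⁆ - 1) * io p g := by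
    have e1 : io p ⁅h, g⁆ * io p g = io p h * io p g * io p h⁻¹ := by
      rw [← map_mul, ← map_mul, ← map_mul, commutatorElement_def]
      congr 1
      group
    rw [sub_mul, e1, one_mul, mul_sub, sub_mul, mul_one, io_mul_inv]
    abel
  rw [e]
  have := JS_mul S (JS_of S h1) (io_g_JS S)
  rwa [show v + w + 0 = w + v by omega] at this

theorem conj_dpow {v : ℕ} {h : G} (hv : 1 ≤ v) (hh : h ∈ F v) (e : ℕ) :
    io p h * d ^ e * io p h⁻¹ - d ^ e ∈ JS J' d w (e * w + v) := by
  induction e with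
  | zero =>
    rw [pow_zero, mul_one, io_mul_inv, sub_self]
    exact Submodule.zero_mem _
  | succ e ih =>
    rw [pow_succ]
    have h1 := conj_mul_aux S (a := e * w) (b := w) (by
      have := dpow_mul S (one_JS S) e
      simpa using this) ih (d_JS S) (conj_d S hv hh)
    rwa [show e * w + w = (e + 1) * w by ring] at h1

theorem JS_conj (v : ℕ) (h : G) (b : ℕ) (x : Ap p G) (hv : 1 ≤ v) (hh : h ∈ F v) (hx : x ∈ JS J' d w b) :
    io p h * x * io p h⁻¹ - x ∈ JS J' d w (b + v) := by
  obtain ⟨f, hf, rfl⟩ := hx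
  rw [Finset.mul_sum, Finset.sum_mul, ← Finset.sum_sub_distrib]
  apply Submodule.sum_mem
  intro e _
  have h1 := conj_mul_aux S (a := e * w) (b := b - e * w) (by
      have := dpow_mul S (one_JS S) e
      simpa using this) (conj_dpow S hv hh e) (JS_of S (hf e)) (JS_of S (S.hJ.conj v h _ _ hv hh (hf e)))
  refine JS_mono S ?_ h1
  by_cases hle : e * w ≤ b
  · omega
  · omega

theorem JS_supp (b : ℕ) (x : Ap p G) (hx : x ∈ JS J' d w b) : x ∈ suppS p B := by
  obtain ⟨f, hf, rfl⟩ := hx
  apply Submodule.sum_mem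
  intro e _
  refine suppS_mul (suppS_pow ?_ e) (suppS_mono S.le (S.hJ.supp _ _ (hf e)))
  exact Submodule.sub_mem _ (suppS_io S.gB) suppS_one

theorem JS_filt : JFilt p F B (JS J' d w) where
  anti := fun b => JS_mono S (Nat.le_succ b)
  one := one_JS S
  mul := fun a b x y hx hy => JS_mul S hx hy
  sub := JS_sub S
  conj := JS_conj S
  supp := JS_supp S

/-! ### Independence -/

theorem gpow_not_mem {m : ℕ} (hm0 : 0 < m) (hmp : m < p) : g ^ m ∉ B' := by
  intro hmem
  have hcop : Nat.Coprime m p := (Nat.coprime_comm.1 ((Nat.Prime.coprime_iff_not_dvd hp.out).2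
    (Nat.not_dvd_of_pos_of_lt hm0 hmp)))
  obtain ⟨a, -, ha⟩ := Nat.exists_mul_mod_eq_one_of_coprime hcop hp.out.one_lt
  have h1 : g ^ (m * a) = g := by
    rw [← Nat.mod_add_div (m * a) p, pow_add, pow_mul, S.gp, one_pow, mul_one, ha, pow_one]
  apply S.gB'
  rw [← h1, pow_mul]
  exact B'.pow_mem hmem a

theorem coeff_d_mul (y : Ap p G) (k : G) : (d * y).coeff k = y.coeff (g⁻¹ * k) - y.coeff k := by
  rw [sub_mul, one_mul, MonoidAlgebra.coeff_sub, Finsupp.sub_apply]
  congr 1
  show (MonoidAlgebra.single g (1 : ZMod p) * y).coeff k = _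
  rw [MonoidAlgebra.coeff_single_mul_apply, one_mul]

theorem coeff_dpow {x : Ap p G} (hx : x ∈ suppS p B') (e : ℕ) (he : e < p) :
    (∀ k, (d ^ e * x).coeff k ≠ 0 → ∃ m ≤ e, (g ^ m)⁻¹ * k ∈ B') ∧
      ∀ k ∈ B', (d ^ e * x).coeff k = (-1) ^ e * x.coeff k := by
  induction e with
  | zero =>
    refine ⟨fun k hk => ⟨0, le_rfl, ?_⟩, fun k _ => ?_⟩
    · rw [pow_zero, one_mul] at hk
      simpa using hx k hk
    · rw [pow_zero, one_mul, pow_zero, one_mul]
  | succ e ih =>
    obtain ⟨h1, h2⟩ := ih (by omega)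
    have hnext : d ^ (e + 1) * x = d * (d ^ e * x) := by
      rw [pow_succ', mul_assoc]
    rw [hnext]
    constructor
    · intro k hk
      rw [coeff_d_mul S] at hk
      by_cases h3 : (d ^ e * x).coeff k = 0
      · rw [h3, sub_zero] at hk
        obtain ⟨m, hm, hmem⟩ := h1 _ hk
        refine ⟨m + 1, by omega, ?_⟩
        have e1 : (g ^ (m + 1))⁻¹ * k = (g ^ m)⁻¹ * (g⁻¹ * k) := by
          rw [pow_succ]
          group
        rw [e1]
        exact hmem
      · obtain ⟨m, hm, hmem⟩ := h1 _ h3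
        exact ⟨m, by omega, hmem⟩
    · intro k hk
      rw [coeff_d_mul S, h2 k hk]
      have h3 : (d ^ e * x).coeff (g⁻¹ * k) = 0 := by
        by_contra hne
        obtain ⟨m, hm, hmem⟩ := h1 _ hne
        have e1 : (g ^ (m + 1))⁻¹ = (g ^ m)⁻¹ * (g⁻¹ * k) * k⁻¹ := by
          rw [pow_succ]
          group
        have h4 : (g ^ (m + 1))⁻¹ ∈ B' := by
          rw [e1]
          exact B'.mul_mem hmem (B'.inv_mem hk)
        exact gpow_not_mem S (m := m + 1) (by omega) (by omega) (by simpa using B'.inv_mem h4)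
      rw [h3, pow_succ]
      ring

theorem dtop_mul_eq_zero {x : Ap p G} (hx : x ∈ suppS p B') (h0 : d ^ (p - 1) * x = 0) : x = 0 := by
  have hp0 := hp.out.pos
  ext k
  by_cases hk : k ∈ B'
  · have h1 := (coeff_dpow S hx (p - 1) (by omega)).2 k hk
    rw [h0] at h1
    have h2 : ((-1 : ZMod p) ^ (p - 1)) ≠ 0 := pow_ne_zero _ (by simp)
    have h3 : (-1 : ZMod p) ^ (p - 1) * x.coeff k = 0 := by
      rw [← h1]
      simp
    simpa using (mul_eq_zero.1 h3).resolve_left h2
  · by_contra hne
    exact hk (hx k (by simpa using hne))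

/-- The powers of `d` are independent over the smaller algebra. -/
theorem indep {u : ℕ → Ap p G} (hu : ∀ e, u e ∈ suppS p B') (h0 : ∑ e ∈ Finset.range p, d ^ e * u e = 0) :
    ∀ e, e < p → u e = 0 := by
  intro e
  induction e using Nat.strong_induction_on with
  | _ e ih =>
    intro he
    apply dtop_mul_eq_zero S (hu e)
    have h1 : d ^ (p - 1 - e) * ∑ e' ∈ Finset.range p, d ^ e' * u e' = d ^ (p - 1) * u e := by
      rw [Finset.mul_sum, Finset.sum_eq_single e]
      · rw [← mul_assoc, ← pow_add]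
        congr 2
        omega
      · intro e' he' hne
        rcases Nat.lt_or_ge e' e with hlt | hge
        · rw [ih e' hlt (by omega)]
          simp
        · rw [← mul_assoc, ← pow_add, dpow_of_le S (by
            have : e' ≠ e := hne
            omega), zero_mul]
      · intro h2
        exact absurd (Finset.mem_range.2 he) h2
    rw [← h1, h0, mul_zero]

theorem indep_coeff {x : Ap p G} {f : ℕ → Ap p G} {r : ℕ} {y : Ap p G} (hr : r < p) (hf : ∀ e, f e ∈ suppS p B')
    (hy : y ∈ suppS p B') (hx : x = ∑ e ∈ Finset.range p, d ^ e * f e) (hx' : x = d ^ r * y) : f r = y := by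
  classical
  have h1 := indep S (u := fun e => if e = r then f r - y else f e) (by
    intro e
    by_cases he : e = r
    · simp only [he, if_true]
      exact Submodule.sub_mem _ (hf r) hy
    · simp only [he, if_false]
      exact hf e) (by
    have e1 : ∑ e ∈ Finset.range p, d ^ e * (if e = r then f r - y else f e) =
        ∑ e ∈ Finset.range p, d ^ e * f e - d ^ r * y := by
      rw [eq_sub_iff_add_eq, ← Finset.sum_erase_add _ _ (Finset.mem_range.2 hr),
        ← Finset.sum_erase_add (a := r) (Finset.range p) (fun e => d ^ e * f e) (Finset.mem_range.2 hr)]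
      have e2 : ∑ e ∈ (Finset.range p).erase r, d ^ e * (if e = r then f r - y else f e) =
          ∑ e ∈ (Finset.range p).erase r, d ^ e * f e := by
        apply Finset.sum_congr rfl
        intro e he
        rw [if_neg (Finset.ne_of_mem_erase he)]
      rw [e2, if_pos rfl, mul_sub]
      abel
    rw [e1, ← hx, ← hx', sub_self]) r hr
  simp only [if_true] at h1
  exact sub_eq_zero.1 h1

/-- Descent of membership. -/
theorem JS_descend {b : ℕ} {x : Ap p G} (hx : x ∈ JS J' d w b) (hxB : x ∈ suppS p B') : x ∈ J' b := by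
  obtain ⟨f, hf, hxe⟩ := hx
  have h1 := indep_coeff S (r := 0) hp.out.pos (fun e => S.hJ.supp _ _ (hf e)) hxB hxe (by simp)
  rw [← h1]
  simpa using hf 0

theorem JS_descend_d {b : ℕ} {y : Ap p G} (hx : d * y ∈ JS J' d w b) (hyB : y ∈ suppS p B') : y ∈ J' (b - w) := by
  obtain ⟨f, hf, hxe⟩ := hx
  have h1 := indep_coeff S (r := 1) hp.out.one_lt (fun e => S.hJ.supp _ _ (hf e)) hyB hxe (by simp)
  rw [← h1]
  simpa using hf 1

end Step

/-! ### The base of the induction -/

/-- The filtration of the trivial subgroup. -/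
noncomputable def J0 (p : ℕ) (G : Type u) [Group G] : ℕ → Submodule (ZMod p) (Ap p G)
  | 0 => Submodule.span (ZMod p) {1}
  | _ + 1 => ⊥

theorem mem_J0_zero {x : Ap p G} : x ∈ J0 p G 0 ↔ ∃ c : ZMod p, c • (1 : Ap p G) = x := Submodule.mem_span_singleton

theorem J0_filt : JFilt p F ⊥ (J0 p G) where
  anti := by
    intro b
    cases b with
    | zero => exact bot_le
    | succ b => exact le_rfl
  one := Submodule.mem_span_singleton_self 1
  mul := by
    intro a b x y hx hy
    cases a with
    | zero =>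
      cases b with
      | zero =>
        obtain ⟨c, rfl⟩ := mem_J0_zero.1 hx
        obtain ⟨c', rfl⟩ := mem_J0_zero.1 hy
        refine mem_J0_zero.2 ⟨c * c', ?_⟩
        rw [smul_mul_smul_comm, one_mul]
      | succ b =>
        have : y = 0 := hy
        rw [this, mul_zero]
        exact Submodule.zero_mem _
    | succ a =>
      have : x = 0 := hx
      rw [this, zero_mul]
      exact Submodule.zero_mem _
  sub := by
    intro v z hz _
    have : z = 1 := hz
    rw [this, map_one, sub_self]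
    exact Submodule.zero_mem _
  conj := by
    intro v h b x hv hh hx
    cases b with
    | zero =>
      obtain ⟨c, rfl⟩ := mem_J0_zero.1 hx
      have e : io p h * (c • (1 : Ap p G)) * io p h⁻¹ = c • (1 : Ap p G) := by
        rw [mul_smul_comm, smul_mul_assoc, mul_one, io_mul_inv]
      rw [e, sub_self]
      exact Submodule.zero_mem _
    | succ b =>
      have : x = 0 := hx
      rw [this, mul_zero, zero_mul, sub_zero]
      exact Submodule.zero_mem _
  supp := by
    intro b x hx
    cases b with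
    | zero =>
      obtain ⟨c, rfl⟩ := mem_J0_zero.1 hx
      exact Submodule.smul_mem _ c suppS_one
    | succ b =>
      have : x = 0 := hx
      rw [this]
      exact Submodule.zero_mem _

end Cfsg.Agent.Lib.FGStruct.JennLite
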