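import Cfsg.Agent.Lib.FGStruct.UnifZ
import Cfsg.Agent.Lib.Fusion.SmallEssential
import Cfsg.Agent.S0662

/-!
# Uniform elements in `p`-groups of maximal class

The two-step centralizers `Mj j`; `Mj j = Mj (j + p - 1)` when a uniform element exists; every group of
maximal class (order at least `p³`) has a uniform element.
-/

set_option autoImplicit false
set_option linter.unusedSectionVars false

namespace Cfsg.Agent.Lib.FGStruct.MCBlack

open Subgroup Cfsg.Agent.Lib.FG7.HallPetrescu Cfsg.Agent.Lib.PGroups.UniformShift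
open Cfsg.Agent.Lib.PGroups.MaxAbelian Cfsg.Agent.Lib.FGStruct.UnifZ
open scoped commutatorElement

universe u

section General

variable {G : Type u} [Group G] [Finite G] {p : ℕ} [hp : Fact p.Prime]

local notation "Φ" => lcsF G
local notation "γ" => Subgroup.lowerCentralSeries (⊤ : Subgroup G)

instance phiNormal (i : ℕ) : (lcsF G i).Normal := Phi_normal i

/-- Maximal class, in terms of the filtration. -/
structure MC (p n : ℕ) (G : Type u) [Group G] : Prop where
  card : Nat.card G = p ^ n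
  three : 3 ≤ n
  bot : lcsF G n = ⊥
  ne : lcsF G (n - 1) ≠ ⊥

variable {n : ℕ}

theorem MC.hG (h : MC p n G) : IsPGroup p G := IsPGroup.of_card h.card

theorem Phi_succ_eq (i : ℕ) : Φ (i + 1) = γ i := rfl

theorem MC.ne_bot (h : MC p n G) {j : ℕ} (hj : j < n) : Φ j ≠ ⊥ := by
  intro hb
  apply h.ne
  have h1 : Φ (n - 1) ≤ Φ j := Phi_anti (by omega)
  rw [hb] at h1
  exact le_bot_iff.1 h1

theorem MC.comm_ne (h : MC p n G) : commutator G ≠ ⊥ := by
  have := h.ne_bot (j := 2) (by have := h.three; omega)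
  rw [show Φ 2 = commutator G from lcs_one] at this
  exact this

/-- The orders of the terms. -/
theorem MC.card_lcs (h : MC p n G) {i : ℕ} (hi : 1 ≤ i) (hin : i + 2 ≤ n) : Nat.card (γ i) = p ^ (n - 1 - i) := by
  have hpp := hp.out
  have hPG := h.hG
  have hcard1 := Cfsg.Agent.S0662.card_first_le hPG h.comm_ne
  have hne : ∀ k, k + 2 ≤ n → γ k ≠ ⊥ := fun k hk => h.ne_bot (j := k + 1) (by omega)
  apply le_antisymm
  · obtain ⟨j, rfl⟩ : ∃ j, i = 1 + j := ⟨i - 1, by omega⟩
    have h1 := Cfsg.Agent.S0662.lcs_card_chain hPG 1 j (hne _ hin)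
    have h2 : Nat.card (γ (1 + j)) * p ^ (j + 2) ≤ p ^ (n - 1 - (1 + j)) * p ^ (j + 2) := by
      rw [← pow_add, show n - 1 - (1 + j) + (j + 2) = n by omega, ← h.card, pow_add, ← mul_assoc]
      exact (Nat.mul_le_mul_right _ h1).trans hcard1
    exact Nat.le_of_mul_le_mul_right h2 (pow_pos hpp.pos _)
  · obtain ⟨j, hj⟩ : ∃ j, i + j = n - 2 := ⟨n - 2 - i, by omega⟩
    have hne' : γ (i + j) ≠ ⊥ := hne _ (by omega)
    have h1 := Cfsg.Agent.S0662.lcs_card_chain hPG i j hne'
    obtain ⟨b, hb⟩ := IsPGroup.iff_card.mp (hPG.to_subgroup (γ (i + j)))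
    have hb0 : b ≠ 0 := by
      rintro rfl
      rw [pow_zero, Subgroup.card_eq_one] at hb
      exact hne' hb
    have h2 : p ≤ Nat.card (γ (i + j)) := by
      rw [hb]
      calc p = p ^ 1 := (pow_one p).symm
        _ ≤ p ^ b := Nat.pow_le_pow_right hpp.pos (Nat.one_le_iff_ne_zero.mpr hb0)
    calc p ^ (n - 1 - i) = p * p ^ j := by
          rw [show n - 1 - i = 1 + j by omega, pow_add, pow_one]
      _ ≤ _ := Nat.mul_le_mul_right _ h2
      _ ≤ _ := h1

theorem MC.card_Phi (h : MC p n G) {j : ℕ} (hj : 2 ≤ j) (hjn : j ≤ n) : Nat.card (Φ j) = p ^ (n - j) := by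
  rcases Nat.lt_or_ge j n with hlt | hge
  · obtain ⟨i, rfl⟩ : ∃ i, j = i + 1 := ⟨j - 1, by omega⟩
    rw [Phi_succ_eq, h.card_lcs (by omega) (by omega)]
    congr 1
    omega
  · have : j = n := by omega
    subst this
    rw [h.bot]
    simp

theorem MC.card_eq (h : MC p n G) : Nat.card G = p ^ 2 * Nat.card (Φ 2) := by
  have := h.three
  rw [h.card_Phi le_rfl (by omega), h.card, ← pow_add]
  congr 1
  omega

theorem MC.relIndex (h : MC p n G) {j : ℕ} (hj : 2 ≤ j) (hjn : j < n) : (Φ (j + 1)).relIndex (Φ j) = p := by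
  have h1 := relIndex_mul_card (Phi_anti (G := G) (Nat.le_succ j))
  rw [h.card_Phi (j := j + 1) (by omega) (by omega), h.card_Phi hj (by omega)] at h1
  have e : n - j = (n - (j + 1)) + 1 := by omega
  rw [e, pow_succ, mul_comm] at h1
  exact Nat.eq_of_mul_eq_mul_left (pow_pos hp.out.pos _) h1

theorem MC.lt (h : MC p n G) {j : ℕ} (hj : 2 ≤ j) (hjn : j < n) : Φ (j + 1) < Φ j := by
  refine lt_of_le_of_ne (Phi_anti (Nat.le_succ j)) ?_
  intro heq
  have h1 := h.relIndex hj hjn
  have h2 : (Φ (j + 1)).relIndex (Φ j) = 1 := by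
    rw [relIndex_eq_one]
    exact heq.ge
  rw [h2] at h1
  exact hp.out.one_lt.ne h1

theorem MC.exists_W (h : MC p n G) {j : ℕ} (hj : 2 ≤ j) (hjn : j < n) : ∃ y : G, W j y := by
  obtain ⟨y, hy, hy'⟩ := SetLike.exists_of_lt (h.lt hj hjn)
  exact ⟨y, hy, hy'⟩

/-- Elements of `Φ j` are powers of a weight-`j` element, modulo `Φ (j + 1)`. -/
theorem MC.exists_pow (h : MC p n G) {j : ℕ} (hj : 2 ≤ j) (hjn : j < n) {y x : G} (hy : W j y) (hx : x ∈ Φ j) :
    ∃ c : ℕ, x * (y ^ c)⁻¹ ∈ Φ (j + 1) :=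
  Cfsg.Agent.Lib.Fusion.SmallEssential.exists_pow_of_relIndex (phiNormal _) hy.1 hy.2 (h.relIndex hj hjn) x hx

/-- Existence of the weight. -/
theorem exists_W_of_bot {M : ℕ} (hM : Φ M = ⊥) {x : G} {i : ℕ} (hx : x ∈ Φ i) (hne : x ≠ 1) : ∃ j, i ≤ j ∧ W j x := by
  classical
  have hex : ∃ m, x ∉ Φ m := ⟨M, by rw [hM]; simpa using hne⟩
  have h1 := Nat.find_spec hex
  have h2 := fun m => Nat.find_min hex (m := m)
  set m := Nat.find hex with hm
  have hlt : i < m := by
    by_contra hle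
    exact h1 (Phi_anti (by omega) hx)
  refine ⟨m - 1, by omega, ?_, ?_⟩
  · have := h2 (m - 1) (by omega)
    simpa using this
  · rw [show m - 1 + 1 = m by omega]
    exact h1

/-- The commutator with `t` modulo a normal subgroup. -/
theorem D_mem_iff (N : Subgroup G) [N.Normal] (t y : G) : D t y ∈ N ↔ ⁅y, t⁆ ∈ N := by
  have e : D t y = ⁅y⁻¹, t⁆ := by
    rw [commutatorElement_def]
    simp [D, mul_assoc]
  rw [e, ← mem_AN, ← mem_AN, Subgroup.inv_mem_iff]

/-- The two-step centralizers. -/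
def Mj (j : ℕ) : Subgroup G := ⨅ y : Φ j, AN (Φ (j + 2)) (y : G)

theorem mem_Mj {j : ℕ} {t : G} : t ∈ Mj j ↔ ∀ y ∈ Φ j, ⁅y, t⁆ ∈ Φ (j + 2) := by
  unfold Mj
  rw [Subgroup.mem_iInf]
  constructor
  · intro h y hy
    have h1 := (mem_AN _ _ _).1 (h ⟨y, hy⟩)
    rw [← Subgroup.inv_mem_iff, commutatorElement_inv]
    exact h1
  · intro h y
    rw [mem_AN, ← Subgroup.inv_mem_iff, commutatorElement_inv]
    exact h y.1 y.2

theorem mem_Mj_D {j : ℕ} {t : G} : t ∈ Mj j ↔ ∀ y ∈ Φ j, D t y ∈ Φ (j + 2) := by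
  rw [mem_Mj]
  simp only [D_mem_iff]

theorem Phi2_le_Mj (j : ℕ) : Φ 2 ≤ Mj j := by
  intro t ht
  rw [mem_Mj]
  intro y hy
  exact lcsF_comm j 2 (commutator_mem_commutator hy ht)

theorem comm_mem_succ {j : ℕ} {y : G} (hy : y ∈ Φ j) (t : G) : ⁅y, t⁆ ∈ Φ (j + 1) := by
  have := lcsF_comm (H := G) j 1 (commutator_mem_commutator hy (show t ∈ Φ 1 from mem_top t))
  exact this

/-- Membership in `Mj j` can be tested on one element of weight `j`. -/
theorem MC.mem_Mj_iff (h : MC p n G) {j : ℕ} (hj : 2 ≤ j) (hjn : j < n) {y : G} (hy : W j y) {t : G} :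
    t ∈ Mj j ↔ D t y ∈ Φ (j + 2) := by
  constructor
  · intro ht
    exact mem_Mj_D.1 ht y hy.1
  · intro ht
    rw [mem_Mj]
    intro x hx
    rw [D_mem_iff, ← mem_AN] at ht
    rw [← mem_AN]
    obtain ⟨c, hc⟩ := h.exists_pow hj hjn hy hx
    have h1 : x * (y ^ c)⁻¹ ∈ AN (Φ (j + 2)) t := by
      rw [mem_AN]
      exact comm_mem_succ hc t
    have h2 := (AN (Φ (j + 2)) t).mul_mem h1 ((AN (Φ (j + 2)) t).pow_mem ht c)
    simpa using h2

theorem MC.Mj_ne_top (h : MC p n G) {j : ℕ} (hj : 2 ≤ j) (hjn : j + 2 ≤ n) : Mj (G := G) j ≠ ⊤ := by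
  intro htop
  have h1 : Φ (j + 1) ≤ Φ (j + 2) := by
    obtain ⟨i, rfl⟩ : ∃ i, j = i + 1 := ⟨j - 1, by omega⟩
    show ⁅γ i, (⊤ : Subgroup G)⁆ ≤ Φ (i + 1 + 2)
    rw [Subgroup.commutator_le]
    intro y hy t _
    have ht : t ∈ Mj (i + 1) := htop ▸ mem_top t
    exact mem_Mj.1 ht y hy
  exact (h.lt (j := j + 1) (by omega) (by omega)).not_ge h1

/-- If `H` and `G'` generate `G`, then `H = G`. -/
theorem eq_top_of_sup (hG : IsPGroup p G) {H : Subgroup G} (hH : H ⊔ Φ 2 = ⊤) : H = ⊤ := by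
  apply frattini_nongenerating (G := G)
  rw [eq_top_iff, ← hH]
  exact sup_le_sup_left (Cfsg.Agent.Lib.PGroups.Basic.commutator_le_frattini hG) _

/-- `p`-th powers lie in the derived subgroup. -/
theorem MC.pow_mem (h : MC p n G) (g : G) : g ^ p ∈ Φ 2 := by
  have hpp := hp.out
  have hPhi : Φ 2 = commutator G := lcs_one
  rw [hPhi]
  rw [← QuotientGroup.eq_one_iff, QuotientGroup.mk_pow]
  set x : G ⧸ commutator G := (g : G ⧸ commutator G) with hx
  have hc : Nat.card (G ⧸ commutator G) = p ^ 2 := by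
    have h1 := (commutator G).card_mul_index
    rw [Subgroup.index_eq_card, ← hPhi, h.card_Phi le_rfl (by have := h.three; omega), h.card] at h1
    have e : n = (n - 2) + 2 := by have := h.three; omega
    nth_rewrite 2 [e] at h1
    rw [pow_add] at h1
    exact Nat.eq_of_mul_eq_mul_left (pow_pos hpp.pos _) h1
  have h1 : orderOf x ∣ p ^ 2 := hc ▸ orderOf_dvd_natCard x
  obtain ⟨k, hk, h2⟩ := (Nat.dvd_prime_pow hpp).mp h1
  have : k = 0 ∨ k = 1 ∨ k = 2 := by omega
  rcases this with rfl | rfl | rfl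
  · rw [pow_zero, orderOf_eq_one_iff] at h2
    rw [h2, one_pow]
  · rw [pow_one] at h2
    rw [← h2]
    exact pow_orderOf_eq_one x
  · exfalso
    apply h.comm_ne
    apply Cfsg.Agent.S0662.commutator_eq_bot_of_cyclic h.hG
    apply isCyclic_of_orderOf_eq_card x
    rw [h2, hc]

/-- No element outside `G'` is central. -/
theorem MC.not_central (h : MC p n G) {s : G} (hs : s ∉ Φ 2) (hc : ∀ g : G, g * s = s * g) : False := by
  have hpp := hp.out
  have hPG := h.hG
  have hcard := h.card_eq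
  have hlt1 : Φ 2 < zpowers s ⊔ Φ 2 := by
    refine lt_of_le_of_ne le_sup_right ?_
    intro h2
    exact hs (h2 ▸ (le_sup_left : zpowers s ≤ _) (mem_zpowers s))
  -- commutativity from two generators
  have hab : ∀ y : G, zpowers s ⊔ zpowers y = ⊤ → False := by
    intro y hy
    have hsc : s ∈ center G := by
      rw [Subgroup.mem_center_iff]
      intro g
      exact hc g
    have hyc : y ∈ center G := by
      rw [Subgroup.mem_center_iff]
      intro g
      have hg : g ∈ zpowers s ⊔ zpowers y := hy ▸ mem_top g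
      have hle : zpowers s ⊔ zpowers y ≤ centralizer ({y} : Set G) := by
        refine sup_le ?_ ?_
        · rw [zpowers_le, mem_centralizer_singleton_iff]
          exact (hc y).symm
        · rw [zpowers_le, mem_centralizer_singleton_iff]
      have := hle hg
      rw [mem_centralizer_singleton_iff] at this
      exact this
    have hle : (⊤ : Subgroup G) ≤ center G := by
      rw [← hy]
      exact sup_le ((zpowers_le).2 hsc) ((zpowers_le).2 hyc)
    apply h.comm_ne
    rw [eq_bot_iff, _root_.commutator_def, Subgroup.commutator_le]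
    intro a _ b _
    rw [Subgroup.mem_bot, commutatorElement_eq_one_iff_mul_comm]
    exact Subgroup.mem_center_iff.1 (hle (mem_top b)) a
  have hne : zpowers s ⊔ Φ 2 ≠ ⊤ := by
    intro hT
    have h2 := eq_top_of_sup hPG hT
    apply hab s
    rw [h2]
    simp
  obtain ⟨y, hy⟩ : ∃ y : G, y ∉ zpowers s ⊔ Φ 2 := by
    by_contra hcon
    push Not at hcon
    exact hne (eq_top_iff.2 fun x _ => hcon x)
  apply hab y
  apply eq_top_of_sup hPG
  by_contra hne2
  have hle : zpowers s ⊔ Φ 2 ≤ (zpowers s ⊔ zpowers y) ⊔ Φ 2 :=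
    sup_le_sup_right le_sup_left _
  have hlt2 : zpowers s ⊔ Φ 2 < (zpowers s ⊔ zpowers y) ⊔ Φ 2 := by
    refine lt_of_le_of_ne hle ?_
    intro h2
    apply hy
    rw [h2]
    exact (le_sup_left : _ ≤ (zpowers s ⊔ zpowers y) ⊔ Φ 2) ((le_sup_right : zpowers y ≤ _) (mem_zpowers y))
  have hlt3 : (zpowers s ⊔ zpowers y) ⊔ Φ 2 < ⊤ := lt_top_iff_ne_top.2 hne2
  have c1 := mul_card_le_of_lt hPG hlt1
  have c2 := mul_card_le_of_lt hPG hlt2
  have c3 := mul_card_le_of_lt hPG hlt3
  rw [Subgroup.card_top, hcard] at c3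
  have hpos : 0 < Nat.card (Φ 2) := Nat.card_pos
  have hp0 : 0 < p := hpp.pos
  have c4 : p ^ 2 * (p * Nat.card (Φ 2)) ≤ p ^ 2 * Nat.card (Φ 2) := by
    calc _ = p * (p * (p * Nat.card (Φ 2))) := by ring
      _ ≤ p * (p * Nat.card (zpowers s ⊔ Φ 2 : Subgroup G)) := Nat.mul_le_mul_left _ (Nat.mul_le_mul_left _ c1)
      _ ≤ p * Nat.card ((zpowers s ⊔ zpowers y) ⊔ Φ 2 : Subgroup G) := Nat.mul_le_mul_left _ c2
      _ ≤ _ := c3
  have c5 := Nat.le_of_mul_le_mul_left c4 (pow_pos hp0 2)
  nlinarith [hpp.two_le]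

/-- **Criterion for a uniform element.** -/
theorem MC.unif_of (h : MC p n G) {s : G} (hs : s ∉ Φ 2) (hM : ∀ j, 2 ≤ j → j + 2 ≤ n → s ∉ Mj j) : Unif p s := by
  have hpp := hp.out
  have hPG := h.hG
  have h3 := h.three
  set C := centralizer ({s} : Set G) with hC
  have hmemC : ∀ y, y ∈ C ↔ y * s = s * y := fun y => mem_centralizer_singleton_iff
  have hZ : ∀ y ∈ C, y ∈ Φ 2 → y ∈ Φ (n - 1) := by
    intro y hyC hy
    by_contra hyZ
    have hne1 : y ≠ 1 := by
      rintro rfl
      exact hyZ (one_mem _)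
    obtain ⟨j, hj, hW⟩ := exists_W_of_bot h.bot hy hne1
    have hjn : j + 2 ≤ n := by
      by_contra hcon
      exact hyZ (Phi_anti (by omega) hW.1)
    apply hM j hj hjn
    rw [h.mem_Mj_iff hj (by omega) hW]
    have e : D s y = 1 := by
      have := (hmemC y).1 hyC
      simp only [D]
      rw [← this]
      group
    rw [e]
    exact one_mem _
  have hZc : ∀ (z g : G), z ∈ Φ (n - 1) → g * z = z * g := by
    intro z g hz
    have h1 := lcsF_comm (H := G) (n - 1) 1 (commutator_mem_commutator hz (show g ∈ Φ 1 from mem_top g))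
    rw [show n - 1 + 1 = n by omega, h.bot, Subgroup.mem_bot, commutatorElement_eq_one_iff_mul_comm] at h1
    exact h1.symm
  have hcardZ : Nat.card (Φ (n - 1)) = p := by
    rw [h.card_Phi (by omega) (by omega), show n - (n - 1) = 1 by omega, pow_one]
  -- upper bound
  have hnetop : C ⊔ Φ 2 ≠ ⊤ := by
    intro hT
    have h2 := eq_top_of_sup hPG hT
    apply h.not_central hs
    intro g
    exact (hmemC g).1 (h2 ▸ mem_top g)
  have hrel : (Φ 2).relIndex C ≤ p := by
    rw [← Subgroup.relIndex_sup_right]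
    have c1 := mul_card_le_of_lt hPG (lt_top_iff_ne_top.2 hnetop)
    rw [Subgroup.card_top, h.card_eq] at c1
    have c2 := relIndex_mul_card (le_sup_right : Φ 2 ≤ C ⊔ Φ 2)
    have c3 : p * ((Φ 2).relIndex (C ⊔ Φ 2) * Nat.card (Φ 2)) ≤ p * (p * Nat.card (Φ 2)) := by
      rw [c2]
      calc _ ≤ _ := c1
        _ = _ := by ring
    have c4 := Nat.le_of_mul_le_mul_left c3 hpp.pos
    exact Nat.le_of_mul_le_mul_right c4 Nat.card_pos
  have hle : Nat.card C ≤ p ^ 2 := by
    have c1 := relIndex_mul_card (inf_le_left : C ⊓ Φ 2 ≤ C)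
    have c2 : (C ⊓ Φ 2).relIndex C = (Φ 2).relIndex C := by
      rw [inf_comm, Subgroup.inf_relIndex_right]
    rw [c2] at c1
    have c3 : Nat.card (C ⊓ Φ 2 : Subgroup G) ≤ p := by
      rw [← hcardZ]
      exact Subgroup.card_le_of_le (fun y hy => hZ y hy.1 hy.2)
    rw [← c1, pow_two]
    exact Nat.mul_le_mul hrel c3
  -- lower bound
  have hge : p ^ 2 ≤ Nat.card C := by
    have hZC : Φ (n - 1) ≤ C := by
      intro z hz
      rw [hmemC]
      exact (hZc z s hz).symm
    have hsC : s ∈ C := by rw [hmemC]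
    have hlt : Φ (n - 1) < C := by
      refine lt_of_le_of_ne hZC ?_
      intro e
      apply hs
      have : s ∈ Φ (n - 1) := e ▸ hsC
      exact Phi_anti (by omega) this
    have := mul_card_le_of_lt hPG hlt
    rw [hcardZ] at this
    rw [pow_two]
    exact this
  refine ⟨hPG, ?_, le_antisymm hle hge, ?_⟩
  · intro g
    have h1 : s ^ p ∈ C := C.pow_mem (by rw [hmemC]) p
    exact hZc _ g (hZ _ h1 (h.pow_mem s))
  · rw [h.card]
    exact Nat.pow_lt_pow_right hpp.one_lt (by omega)

/-- **Covering.** -/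
theorem MC.exists_avoid (h : MC p n G) {S : Finset ℕ} (hS : S.card ≤ p) (L : ℕ → Subgroup G)
    (hL : ∀ j ∈ S, Φ 2 ≤ L j ∧ L j ≠ ⊤) : ∃ s : G, s ∉ Φ 2 ∧ ∀ j ∈ S, s ∉ L j := by
  classical
  have hpp := hp.out
  have hPG := h.hG
  have := Fintype.ofFinite G
  by_contra hcon
  push Not at hcon
  let A : Finset G := Finset.univ.filter (· ∈ Φ 2)
  let B : ℕ → Finset G := fun j => Finset.univ.filter (fun x => x ∈ L j ∧ x ∉ Φ 2)
  have hA : A.card = Nat.card (Φ 2) := by
    rw [Nat.card_eq_fintype_card, Fintype.card_subtype]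
  have hB : ∀ j ∈ S, (B j).card + Nat.card (Φ 2) ≤ p * Nat.card (Φ 2) := by
    intro j hj
    obtain ⟨h1, h2⟩ := hL j hj
    have c1 := mul_card_le_of_lt hPG (lt_top_iff_ne_top.2 h2)
    rw [Subgroup.card_top, h.card_eq] at c1
    have c2 : Nat.card (L j) ≤ p * Nat.card (Φ 2) := by
      have : p * Nat.card (L j) ≤ p * (p * Nat.card (Φ 2)) := by
        calc _ ≤ _ := c1
          _ = _ := by ring
      exact Nat.le_of_mul_le_mul_left this hpp.pos
    have c3 : (B j).card + A.card ≤ (Finset.univ.filter (· ∈ L j)).card := by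
      rw [← Finset.card_union_of_disjoint]
      · apply Finset.card_le_card
        intro x hx
        simp only [B, A, Finset.mem_union, Finset.mem_filter, Finset.mem_univ, true_and] at hx ⊢
        rcases hx with hx | hx
        · exact hx.1
        · exact h1 hx
      · rw [Finset.disjoint_left]
        intro x hx hx'
        simp only [B, A, Finset.mem_filter, Finset.mem_univ, true_and] at hx hx'
        exact hx.2 hx'
    have c4 : (Finset.univ.filter (· ∈ L j)).card = Nat.card (L j) := by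
      rw [Nat.card_eq_fintype_card, Fintype.card_subtype]
    rw [hA] at c3
    omega
  have hcov : (Finset.univ : Finset G) ⊆ A ∪ S.biUnion B := by
    intro x _
    by_cases hx : x ∈ Φ 2
    · exact Finset.mem_union_left _ (Finset.mem_filter.2 ⟨Finset.mem_univ _, hx⟩)
    · obtain ⟨j, hj, hxj⟩ := hcon x hx
      apply Finset.mem_union_right
      exact Finset.mem_biUnion.2 ⟨j, hj, Finset.mem_filter.2 ⟨Finset.mem_univ _, hxj, hx⟩⟩
  have c1 := Finset.card_le_card hcov
  rw [Finset.card_univ, ← Nat.card_eq_fintype_card, h.card_eq] at c1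
  have c2 := (Finset.card_union_le A (S.biUnion B)).trans' c1
  have c3 := Finset.card_biUnion_le (s := S) (t := B)
  have hq : ∀ j ∈ S, (B j).card ≤ (p - 1) * Nat.card (Φ 2) := by
    intro j hj
    have := hB j hj
    obtain ⟨q, rfl⟩ : ∃ q, p = q + 1 := ⟨p - 1, by have := hpp.two_le; omega⟩
    simp only [Nat.add_sub_cancel]
    nlinarith
  have c4 : ∑ j ∈ S, (B j).card ≤ S.card * ((p - 1) * Nat.card (Φ 2)) := by
    have := Finset.sum_le_card_nsmul S (fun j => (B j).card) _ hq
    simpa using this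
  have hpos : 0 < Nat.card (Φ 2) := Nat.card_pos
  have c5 : S.card * ((p - 1) * Nat.card (Φ 2)) ≤ p * ((p - 1) * Nat.card (Φ 2)) := Nat.mul_le_mul_right _ hS
  obtain ⟨q, rfl⟩ : ∃ q, p = q + 1 := ⟨p - 1, by have := hpp.two_le; omega⟩
  simp only [Nat.add_sub_cancel] at c5 c4
  rw [hA] at c2
  have c6 : (q + 1) ^ 2 * Nat.card (Φ 2) ≤ Nat.card (Φ 2) + (q + 1) * (q * Nat.card (Φ 2)) := by omega
  have hq0 : 1 ≤ q := by have := hpp.two_le; omega
  nlinarith

/-- The set of relevant indices. -/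
theorem MC.exists_unif_of_period (h : MC p n G)
    (hper : ∀ j, 2 ≤ j → j + p + 2 ≤ n → Mj (G := G) j = Mj (j + p - 1)) : ∃ s : G, Unif p s := by
  classical
  have hpp := hp.out
  have hp2 := hpp.two_le
  have h3 := h.three
  let S : Finset ℕ := ((Finset.Icc 2 p).filter (fun j => j + 3 ≤ n)) ∪ (if 4 ≤ n then {n - 2} else ∅)
  have hScard : S.card ≤ p := by
    have c1 : ((Finset.Icc 2 p).filter (fun j => j + 3 ≤ n)).card ≤ p - 1 := by
      refine (Finset.card_filter_le _ _).trans ?_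
      rw [Nat.card_Icc]
      omega
    have c2 : (if 4 ≤ n then ({n - 2} : Finset ℕ) else ∅).card ≤ 1 := by
      split_ifs <;> simp
    have c3 := Finset.card_union_le ((Finset.Icc 2 p).filter (fun j => j + 3 ≤ n)) (if 4 ≤ n then {n - 2} else ∅)
    exact c3.trans (by omega)
  have hSL : ∀ j ∈ S, Φ 2 ≤ Mj j ∧ Mj (G := G) j ≠ ⊤ := by
    intro j hj
    refine ⟨Phi2_le_Mj j, ?_⟩
    simp only [S, Finset.mem_union, Finset.mem_filter, Finset.mem_Icc] at hj
    rcases hj with hj | hj
    · exact h.Mj_ne_top hj.1.1 (by omega)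
    · split_ifs at hj with h4
      · simp only [Finset.mem_singleton] at hj
        subst hj
        exact h.Mj_ne_top (by omega) (by omega)
      · simp at hj
  obtain ⟨s, hs, hsS⟩ := h.exists_avoid hScard Mj hSL
  refine ⟨s, h.unif_of hs ?_⟩
  -- all indices are covered
  have hcov : ∀ m j, j ≤ m → 2 ≤ j → j + 3 ≤ n → s ∉ Mj j := by
    intro m
    induction m with
    | zero => intro j hj h2; omega
    | succ m ih =>
      intro j hjm hj2 hjn
      by_cases hjp : j ≤ p
      · apply hsS j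
        simp only [S, Finset.mem_union, Finset.mem_filter, Finset.mem_Icc]
        exact Or.inl ⟨⟨hj2, hjp⟩, hjn⟩
      · have e := hper (j - (p - 1)) (by omega) (by omega)
        rw [show j - (p - 1) + p - 1 = j by omega] at e
        rw [← e]
        exact ih _ (by omega) (by omega) (by omega)
  intro j hj2 hjn
  by_cases hj3 : j + 3 ≤ n
  · exact hcov j j le_rfl hj2 hj3
  · apply hsS j
    have e : j = n - 2 := by omega
    simp only [S, Finset.mem_union]
    right
    rw [if_pos (by omega)]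
    simp [e]

end General

section Period

variable {G : Type u} [Group G] [Finite G] {p : ℕ} [hp : Fact p.Prime] {n : ℕ}

local notation "Φ" => lcsF G

theorem unif_pow_mul_congr {s : G} (u : Unif p s) {M : ℕ} (hM : Φ M = ⊥) {j : ℕ} (hj : 2 ≤ j) {y w : G} (hy : y ∈ Φ j)
    (hw : w ∈ Φ (j + 1)) : (y ^ p * w ^ p)⁻¹ * (y * w) ^ p ∈ Φ (j + p + 1) := by
  have hpp := hp.out
  have hp2 := hpp.two_le
  rcases Nat.lt_or_ge p 3 with hp3 | hp3
  · have e : p = 2 := by omega
    subst e
    have e1 : (y ^ 2 * w ^ 2)⁻¹ * (y * w) ^ 2 = w⁻¹ * ⁅w⁻¹, y⁻¹⁆ * w := by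
      rw [commutatorElement_def]
      simp only [pow_two]
      group
    rw [e1]
    have h1 : ⁅w⁻¹, y⁻¹⁆ ∈ Φ (j + 1 + j) :=
      lcsF_comm _ _ (commutator_mem_commutator ((Φ _).inv_mem hw) ((Φ _).inv_mem hy))
    have h2 : ⁅w⁻¹, y⁻¹⁆ ∈ Φ (j + 2 + 1) := Phi_anti (by omega) h1
    have := (phiNormal (G := G) (j + 2 + 1)).conj_mem _ h2 w⁻¹
    simpa using this
  · -- the scaled filtration
    let F : ℕ → Subgroup G := fun i => Φ (j * i)
    have hanti : ∀ i, F (i + 1) ≤ F i := fun i => Phi_anti (by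
      rw [Nat.mul_succ]; omega)
    have hcomm : ∀ a b, ⁅F a, F b⁆ ≤ F (a + b) := by
      intro a b
      have := lcsF_comm (H := G) (j * a) (j * b)
      rw [← Nat.mul_add] at this
      exact this
    have hQ := Q_all hanti hcomm (p + 1)
    have hpow : ∀ x : G, x ∈ Φ j → P F (p + 1) 0 (fun n => x ^ n) := by
      intro x hx
      have hx' : x ∈ F (0 + 1) := by
        show x ∈ Φ (j * (0 + 1))
        simpa using hx
      have := P_choose hanti (p + 1) 0 1 x hx'
      simpa using this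
    have hw' : w ∈ Φ j := Phi_anti (Nat.le_succ j) hw
    let f : ℕ → G := (fun n => w ^ n)⁻¹ * (fun n => y ^ n)⁻¹ * (fun n => (y * w) ^ n)
    have hf : P F (p + 1) 0 f :=
      hQ.mul _ _ _ (hQ.mul _ _ _ (hQ.inv _ _ (hpow w hw')) (hQ.inv _ _ (hpow y hy)))
        (hpow (y * w) ((Φ j).mul_mem hy hw'))
    obtain ⟨u', hu', hT⟩ := exists_taylor hanti hcomm hf (p + 1) (by omega)
    have h0 : u' 0 = 1 := by
      rw [← T_zero u' (by omega : 1 ≤ p + 1), hT 0 (by omega)]
      simp [f]
    have h1 : u' 1 = 1 := by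
      have : u' 0 * u' 1 = 1 := by
        rw [← T_one u' (by omega : 2 ≤ p + 1), hT 1 (by omega)]
        simp [f]
      rwa [h0, one_mul] at this
    set N := Φ (j + p + 1) with hN
    have hstep : ∀ r, r ≤ p + 1 → T u' r p ∈ N := by
      intro r
      induction r with
      | zero => intro _; exact N.one_mem
      | succ r ih =>
        intro hr
        have e : T u' (r + 1) p = T u' r p * u' r ^ (p.choose r) := rfl
        rw [e]
        refine N.mul_mem (ih (by omega)) ?_
        have hur : u' r ∈ Φ (j * r) := by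
          have := hu' r
          simpa [F] using this
        rcases Nat.lt_or_ge r 2 with hr2 | hr2
        · have : r = 0 ∨ r = 1 := by omega
          rcases this with rfl | rfl
          · rw [h0, one_pow]
            exact N.one_mem
          · rw [h1, one_pow]
            exact N.one_mem
        · rcases Nat.lt_or_ge r p with hrp | hrp
          · obtain ⟨c, hc⟩ := hpp.dvd_choose_self (by omega) hrp
            rw [hc, pow_mul]
            apply N.pow_mem
            have hjr : 2 ≤ j * r := by nlinarith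
            have h5 := (u.shift hM M (j * r) (by omega) hjr (u' r) hur).1
            refine Phi_anti ?_ h5
            have : j + 2 ≤ j * r := by nlinarith
            omega
          · have : r = p := by omega
            subst this
            rw [Nat.choose_self, pow_one]
            refine Phi_anti ?_ hur
            have : j + r + 1 ≤ j * r := by
              obtain ⟨a, rfl⟩ : ∃ a, j = a + 2 := ⟨j - 2, by omega⟩
              obtain ⟨b, rfl⟩ : ∃ b, r = b + 3 := ⟨r - 3, by omega⟩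
              nlinarith
            exact this
    have := hstep (p + 1) le_rfl
    rw [hT p (by omega)] at this
    have e2 : f p = (y ^ p * w ^ p)⁻¹ * (y * w) ^ p := by
      simp [f, mul_assoc]
    rw [e2] at this
    exact this

/-- The `p`-th power map on differences. -/
theorem unif_D_pow_congr {s : G} (u : Unif p s) {M : ℕ} (hM : Φ M = ⊥) {j : ℕ} (hj : 2 ≤ j) {y : G} (hy : y ∈ Φ j) (t : G) :
    ((D t y) ^ p)⁻¹ * D t (y ^ p) ∈ Φ (j + p + 1) := by
  have hw : D t y ∈ Φ (j + 1) := Phi_D t j y hy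
  have h1 := unif_pow_mul_congr u hM hj hy hw
  have e0 : y * D t y = t * y * t⁻¹ := by
    simp [D]
  rw [e0, conj_pow] at h1
  have e1 : (y ^ p * D t y ^ p)⁻¹ * (t * y ^ p * t⁻¹) = (D t y ^ p)⁻¹ * D t (y ^ p) := by
    simp only [D]
    group
  rw [e1] at h1
  exact h1

/-- **Periodicity of the two-step centralizers.** -/
theorem MC.Mj_period (h : MC p n G) {s : G} (u : Unif p s) {j : ℕ} (hj : 2 ≤ j) (hjn : j + p + 1 ≤ n) :
    Mj (G := G) j = Mj (j + p - 1) := by
  have hp2 := hp.out.two_le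
  obtain ⟨y, hy⟩ := h.exists_W (j := j) hj (by omega)
  have e0 : j + (p - 1) = j + p - 1 := by omega
  have hne : Φ (j + (p - 1)) ≠ ⊥ := h.ne_bot (by omega)
  have hyp : W (j + (p - 1)) (y ^ p) := W.pow u h.bot hy hj hne
  rw [e0] at hyp
  ext t
  rw [h.mem_Mj_iff hj (by omega) hy, h.mem_Mj_iff (by omega) (by omega) hyp]
  have e1 : j + p - 1 + 2 = j + p + 1 := by omega
  rw [e1]
  have hc := unif_D_pow_congr u h.bot hj hy.1 t
  have hw : D t y ∈ Φ (j + 1) := Phi_D t j y hy.1
  constructor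
  · intro ht
    have h1 : (D t y) ^ p ∈ Φ (j + p + 1) := by
      have := (u.shift h.bot n (j + 2) (by omega) (by omega) _ ht).1
      rw [show j + 2 + p - 1 = j + p + 1 by omega] at this
      exact this
    have h2 := (Φ (j + p + 1)).mul_mem h1 hc
    simpa using h2
  · intro ht
    by_contra hcon
    have hW : W (j + 1) (D t y) := ⟨hw, hcon⟩
    have hne2 : Φ (j + 1 + (p - 1)) ≠ ⊥ := h.ne_bot (by omega)
    have hW2 := W.pow u h.bot hW (by omega) hne2
    apply hW2.2
    rw [show j + 1 + (p - 1) + 1 = j + p + 1 by omega]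
    have h2 := (Φ (j + p + 1)).mul_mem hc ((Φ (j + p + 1)).inv_mem ht)
    have h3 : ((D t y) ^ p)⁻¹ ∈ Φ (j + p + 1) := by
      simpa using h2
    simpa using (Φ (j + p + 1)).inv_mem h3

end Period

section Quot

variable {G : Type u} [Group G] [Finite G] {p : ℕ} [hp : Fact p.Prime] {n : ℕ}

local notation "Φ" => lcsF G

/-- The filtration under a surjection. -/
theorem lcsF_map {K : Type u} [Group K] (f : G →* K) (hf : Function.Surjective f) (i : ℕ) :
    (lcsF G i).map f = lcsF K i := by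
  cases i with
  | zero =>
    show (⊤ : Subgroup G).map f = ⊤
    rw [← MonoidHom.range_eq_map, MonoidHom.range_eq_top.2 hf]
  | succ i =>
    show ((⊤ : Subgroup G).lowerCentralSeries i).map f = (⊤ : Subgroup K).lowerCentralSeries i
    rw [Subgroup.map_lowerCentralSeries, ← MonoidHom.range_eq_map, MonoidHom.range_eq_top.2 hf]

/-- Membership in the filtration of the quotient. -/
theorem mem_lcsF_quot {k i : ℕ} (hi : i ≤ k) (x : G) :
    (QuotientGroup.mk' (Φ k) x) ∈ lcsF (G ⧸ Φ k) i ↔ x ∈ Φ i := by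
  rw [← lcsF_map (QuotientGroup.mk' (Φ k)) QuotientGroup.mk_surjective]
  constructor
  · rintro ⟨z, hz, e⟩
    have h1 : z⁻¹ * x ∈ Φ k := by
      rw [← QuotientGroup.eq]
      exact e
    have h2 := (Φ i).mul_mem hz (Phi_anti hi h1)
    simpa using h2
  · intro hx
    exact ⟨x, hx, rfl⟩

/-- The quotient is again of maximal class. -/
theorem MC.quot (h : MC p n G) {k : ℕ} (hk : 3 ≤ k) (hkn : k ≤ n) : MC p k (G ⧸ Φ k) where
  card := by
    have h1 := (Φ k).card_mul_index
    rw [Subgroup.index_eq_card, h.card_Phi (by omega) hkn, h.card] at h1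
    have e : n = (n - k) + k := by omega
    nth_rewrite 2 [e] at h1
    rw [pow_add] at h1
    exact Nat.eq_of_mul_eq_mul_left (pow_pos hp.out.pos _) h1
  three := hk
  bot := by
    rw [← lcsF_map (QuotientGroup.mk' (Φ k)) QuotientGroup.mk_surjective, eq_bot_iff]
    rintro _ ⟨x, hx, rfl⟩
    exact (QuotientGroup.eq_one_iff x).2 hx
  ne := by
    intro hb
    obtain ⟨y, hy⟩ := h.exists_W (j := k - 1) (by omega) (by omega)
    have h1 := (mem_lcsF_quot (k := k) (i := k - 1) (by omega) y).2 hy.1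
    rw [hb, Subgroup.mem_bot, QuotientGroup.mk'_apply, QuotientGroup.eq_one_iff] at h1
    apply hy.2
    rw [show k - 1 + 1 = k by omega]
    exact h1

theorem mem_Mj_quot {k j : ℕ} (hj : j + 2 ≤ k) (t : G) :
    QuotientGroup.mk' (Φ k) t ∈ Mj (G := G ⧸ Φ k) j ↔ t ∈ Mj j := by
  rw [mem_Mj, mem_Mj]
  constructor
  · intro h y hy
    have h1 := h _ ((mem_lcsF_quot (k := k) (i := j) (by omega) y).2 hy)
    rw [← map_commutatorElement] at h1
    exact (mem_lcsF_quot hj _).1 h1
  · intro h q hq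
    obtain ⟨y, rfl⟩ := QuotientGroup.mk'_surjective (Φ k) q
    have hy := (mem_lcsF_quot (k := k) (i := j) (by omega) y).1 hq
    rw [← map_commutatorElement]
    exact (mem_lcsF_quot hj _).2 (h y hy)

end Quot

/-- **Every group of maximal class has a uniform element.** -/
theorem MC.exists_unif {p : ℕ} [hp : Fact p.Prime] (n : ℕ) (hn : 3 ≤ n) :
    ∀ (G : Type u) [Group G] [Finite G], MC p n G → ∃ s : G, Unif p s := by
  have hp2 := hp.out.two_le
  induction n, hn using Nat.le_induction with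
  | base =>
    intro G _ _ h
    apply h.exists_unif_of_period
    intro j hj hjn
    omega
  | succ n hn ih =>
    intro G _ _ h
    obtain ⟨u, hu⟩ := ih (G ⧸ lcsF G n) (h.quot hn (by omega))
    apply h.exists_unif_of_period
    intro j hj hjn
    have hQ := (h.quot (k := n) hn (by omega)).Mj_period hu (j := j) hj (by omega)
    ext t
    have e := SetLike.ext_iff.1 hQ (QuotientGroup.mk' (lcsF G n) t)
    rwa [mem_Mj_quot (by omega), mem_Mj_quot (by omega)] at e

end Cfsg.Agent.Lib.FGStruct.MCBlack
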