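import Cfsg.Agent.Lib.FGStruct.MCBlack
import Cfsg.Agent.Lib.FGStruct.JennLite

/-!
# Groups of maximal class of exponent `p` have order at most `p^p`

The associated filtration of the group algebra together with the polynomial identity
`(a + μ d) ^ p ∈ J (p + 1)` yields the `(p - 1)`-Engel condition.
-/

set_option autoImplicit false
set_option linter.unusedSectionVars false

namespace Cfsg.Agent.Lib.FGStruct.MCBlack

open Subgroup Cfsg.Agent.Lib.FG7.HallPetrescu Cfsg.Agent.Lib.PGroups.UniformShift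
open Cfsg.Agent.Lib.PGroups.MaxAbelian Cfsg.Agent.Lib.FGStruct.UnifZ
open Cfsg.Agent.Lib.FGStruct.JennLite
open scoped commutatorElement

universe u

section Chain

variable {G : Type u} [Group G] [Finite G] {p : ℕ} [hp : Fact p.Prime] {n : ℕ}

local notation "Φ" => lcsF G

theorem normal_of_le {K : Subgroup G} (hK : Φ 2 ≤ K) : K.Normal := by
  constructor
  intro z hz t
  have h1 : ⁅t, z⁆ ∈ Φ 2 := by
    have : ⁅t, z⁆ ∈ commutator G := commutator_mem_commutator (mem_top t) (mem_top z)
    rw [show Φ 2 = commutator G from lcs_one]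
    exact this
  have e : t * z * t⁻¹ = ⁅t, z⁆ * z := by
    rw [commutatorElement_def]
    group
  rw [e]
  exact K.mul_mem (hK h1) hz

theorem MC.sM_ne_top (h : MC p n G) {s : G} (hs : s ∉ Φ 2) : zpowers s ⊔ Φ 2 ≠ ⊤ := by
  intro hT
  have h2 := eq_top_of_sup h.hG hT
  apply h.not_central hs
  intro g
  have hg : g ∈ zpowers s := h2 ▸ mem_top g
  obtain ⟨i, rfl⟩ := hg
  exact ((Commute.refl s).zpow_left i).eq

theorem MC.card_sM (h : MC p n G) {s : G} (hs : s ∉ Φ 2) : Nat.card (zpowers s ⊔ Φ 2 : Subgroup G) = p * Nat.card (Φ 2) := by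
  have hpp := hp.out
  have hlt1 : Φ 2 < zpowers s ⊔ Φ 2 := by
    refine lt_of_le_of_ne le_sup_right ?_
    intro h2
    exact hs (h2 ▸ (le_sup_left : zpowers s ≤ _) (mem_zpowers s))
  have c1 := mul_card_le_of_lt h.hG hlt1
  have c2 := mul_card_le_of_lt h.hG (lt_top_iff_ne_top.2 (h.sM_ne_top hs))
  rw [Subgroup.card_top, h.card_eq] at c2
  refine le_antisymm ?_ c1
  have : p * Nat.card (zpowers s ⊔ Φ 2 : Subgroup G) ≤ p * (p * Nat.card (Φ 2)) := by
    calc _ ≤ _ := c2
      _ = _ := by ring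
  exact Nat.le_of_mul_le_mul_left this hpp.pos

theorem MC.relIndex_sM (h : MC p n G) {s : G} (hs : s ∉ Φ 2) : (Φ 2).relIndex (zpowers s ⊔ Φ 2) = p := by
  have h1 := relIndex_mul_card (le_sup_right : Φ 2 ≤ zpowers s ⊔ Φ 2)
  rw [h.card_sM hs] at h1
  exact Nat.eq_of_mul_eq_mul_right Nat.card_pos h1

theorem MC.index_sM (h : MC p n G) {s : G} (hs : s ∉ Φ 2) : (zpowers s ⊔ Φ 2 : Subgroup G).index = p := by
  have h1 := (zpowers s ⊔ Φ 2 : Subgroup G).card_mul_index
  rw [h.card_sM hs, h.card_eq] at h1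
  have h2 : p * Nat.card (Φ 2) * (zpowers s ⊔ Φ 2 : Subgroup G).index = p * Nat.card (Φ 2) * p := by
    rw [h1]
    ring
  exact Nat.eq_of_mul_eq_mul_left (Nat.mul_pos hp.out.pos Nat.card_pos) h2

theorem antitone_F : Antitone (lcsF G) := antitone_nat_of_succ_le lcsF_anti

/-- The chain from the bottom up to `Φ k`. -/
theorem MC.exists_J_aux (h : MC p n G) (hexp : ∀ g : G, g ^ p = 1) {c : G} (hc : c ∈ Φ (n - 1)) (hc1 : c ≠ 1) :
    ∀ m k, k + m = n - 1 → 2 ≤ k → ∃ J, JFilt p (lcsF G) (Φ k) J ∧ io p c - 1 ∉ J n := by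
  have h3 := h.three
  have hcW : W (n - 1) c := by
    refine ⟨hc, ?_⟩
    rw [show n - 1 + 1 = n by omega, h.bot]
    simpa using hc1
  intro m
  induction m with
  | zero =>
    intro k hk _
    have e : k = n - 1 := by omega
    subst e
    have S : StepH p (lcsF G) (Φ (n - 1)) ⊥ (J0 p G) c (n - 1) :=
      { hJ := J0_filt
        anti := antitone_F
        comm := lcsF_comm
        norm := inferInstance
        le := bot_le
        w1 := by omega
        gF := hc
        gB := hc
        gB' := by simpa using hc1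
        gp := hexp c
        gen := by
          intro z hz
          obtain ⟨i, hi⟩ := h.exists_pow (j := n - 1) (by omega) (by omega) hcW hz
          rw [show n - 1 + 1 = n by omega, h.bot] at hi
          exact ⟨i, hi⟩
        chain := by
          intro z _ hz
          rw [show n - 1 + 1 = n by omega, h.bot] at hz
          exact hz }
    refine ⟨_, JS_filt S, ?_⟩
    intro hmem
    have h1 : (io p c - 1) * 1 ∈ JS (J0 p G) (io p c - 1) (n - 1) n := by
      rwa [mul_one]
    have h2 := JS_descend_d S h1 suppS_one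
    rw [show n - (n - 1) = 1 by omega] at h2
    have h3 : (1 : Ap p G) = 0 := h2
    exact one_ne_zero h3
  | succ m ih =>
    intro k hk hk2
    obtain ⟨J', hJ', hcJ'⟩ := ih (k + 1) (by omega) (by omega)
    obtain ⟨g, hg⟩ := h.exists_W (j := k) hk2 (by omega)
    have S : StepH p (lcsF G) (Φ k) (Φ (k + 1)) J' g k :=
      { hJ := hJ'
        anti := antitone_F
        comm := lcsF_comm
        norm := inferInstance
        le := lcsF_anti k
        w1 := by omega
        gF := hg.1
        gB := hg.1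
        gB' := hg.2
        gp := hexp g
        gen := fun z hz => h.exists_pow hk2 (by omega) hg hz
        chain := fun z _ hz => hz }
    refine ⟨_, JS_filt S, ?_⟩
    intro hmem
    apply hcJ'
    refine JS_descend S hmem ?_
    have hcm : c ∈ Φ (k + 1) := Phi_anti (by omega) hc
    exact Submodule.sub_mem _ (suppS_io hcm) suppS_one

/-- The chain up to the whole group. -/
theorem MC.exists_J (h : MC p n G) (hexp : ∀ g : G, g ^ p = 1) {c : G} (hc : c ∈ Φ (n - 1)) (hc1 : c ≠ 1) :
    ∃ J, JFilt p (lcsF G) ⊤ J ∧ io p c - 1 ∉ J n := by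
  have h3 := h.three
  obtain ⟨J₂, hJ₂, hc₂⟩ := h.exists_J_aux hexp hc hc1 (n - 3) 2 (by omega) le_rfl
  obtain ⟨s, hs⟩ : ∃ s : G, s ∉ Φ 2 := by
    by_contra hcon
    push Not at hcon
    apply h.ne_bot (j := 2) (by omega)
    have h1 := h.card_eq
    have h2 : Φ 2 = ⊤ := eq_top_iff.2 fun x _ => hcon x
    rw [h2, Subgroup.card_top] at h1
    have h4 : Nat.card G = 1 * Nat.card G := (one_mul _).symm
    have hpos : 0 < Nat.card G := Nat.card_pos
    have := Nat.eq_of_mul_eq_mul_right hpos (h1.symm.trans h4)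
    have hp1 := Nat.one_lt_pow (n := 2) (by omega) hp.out.one_lt
    omega
  set M := zpowers s ⊔ Φ 2 with hM
  have hcΦ : c ∈ Φ 2 := Phi_anti (by omega) hc
  have S1 : StepH p (lcsF G) M (Φ 2) J₂ s 1 :=
    { hJ := hJ₂
      anti := antitone_F
      comm := lcsF_comm
      norm := normal_of_le le_sup_right
      le := le_sup_right
      w1 := le_rfl
      gF := mem_top s
      gB := (le_sup_left : zpowers s ≤ M) (mem_zpowers s)
      gB' := hs
      gp := hexp s
      gen := by
        intro z hz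
        exact Cfsg.Agent.Lib.Fusion.SmallEssential.exists_pow_of_relIndex (phiNormal _)
          ((le_sup_left : zpowers s ≤ M) (mem_zpowers s)) hs (h.relIndex_sM hs) z hz
      chain := fun z _ hz => hz }
  have hJ₃ := JS_filt S1
  have hc₃ : io p c - 1 ∉ JS J₂ (io p s - 1) 1 n := by
    intro hmem
    apply hc₂
    exact JS_descend S1 hmem (Submodule.sub_mem _ (suppS_io hcΦ) suppS_one)
  obtain ⟨y, hy⟩ : ∃ y : G, y ∉ M := by
    by_contra hcon
    push Not at hcon
    exact h.sM_ne_top hs (eq_top_iff.2 fun x _ => hcon x)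
  have hMn : M.Normal := normal_of_le le_sup_right
  have S2 : StepH p (lcsF G) ⊤ M (JS J₂ (io p s - 1) 1) y 1 :=
    { hJ := hJ₃
      anti := antitone_F
      comm := lcsF_comm
      norm := inferInstance
      le := le_top
      w1 := le_rfl
      gF := mem_top y
      gB := mem_top y
      gB' := hy
      gp := hexp y
      gen := by
        intro z hz
        have hi : M.relIndex ⊤ = p := by
          rw [Subgroup.relIndex_top_right]
          exact h.index_sM hs
        exact Cfsg.Agent.Lib.Fusion.SmallEssential.exists_pow_of_relIndex hMn (mem_top y) hy hi z hz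
      chain := by
        intro z _ hz
        exact (le_sup_right : Φ 2 ≤ M) hz }
  refine ⟨_, JS_filt S2, ?_⟩
  intro hmem
  apply hc₃
  exact JS_descend S2 hmem (Submodule.sub_mem _ (suppS_io ((le_sup_right : Φ 2 ≤ M) hcΦ)) suppS_one)

end Chain

section Engel

variable {p : ℕ} [hp : Fact p.Prime]

/-- The character sum. -/
theorem sum_pow_zmod (t : ℕ) (ht : 0 < t) : ∑ x : ZMod p, x ^ t = if p - 1 ∣ t then -1 else 0 := by
  classical
  have hcard : Fintype.card (ZMod p) = p := ZMod.card p
  let φ : (ZMod p)ˣ ↪ ZMod p := ⟨fun x ↦ x, Units.val_injective⟩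
  have h1 : Finset.univ.map φ = Finset.univ \ {0} := by
    ext x
    simpa only [Finset.mem_map, Finset.mem_univ, Function.Embedding.coeFn_mk, true_and, Finset.mem_sdiff,
      Finset.mem_singleton, φ] using! isUnit_iff_ne_zero
  have h2 := FiniteField.sum_pow_units (ZMod p) t
  rw [hcard] at h2
  rw [← h2]
  calc ∑ x : ZMod p, x ^ t = ∑ x ∈ Finset.univ \ {(0 : ZMod p)}, x ^ t := by
        rw [← Finset.sum_sdiff ({0} : Finset (ZMod p)).subset_univ, Finset.sum_singleton, zero_pow ht.ne', add_zero]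
    _ = ∑ x : (ZMod p)ˣ, ((x : ZMod p) ^ t) := by simp [φ, ← h1, Finset.univ.sum_map φ]

/-- Binomial coefficients of `p - 1`. -/
theorem choose_pred (k : ℕ) (hk : k ≤ p - 1) : ((-1 : ZMod p) ^ k * ((p - 1).choose k : ZMod p)) = 1 := by
  have hp2 := hp.out.two_le
  induction k with
  | zero => simp
  | succ k ih =>
    have h1 : ((p - 1 + 1).choose (k + 1) : ZMod p) = 0 := by
      rw [show p - 1 + 1 = p by omega, ZMod.natCast_eq_zero_iff]
      exact hp.out.dvd_choose_self (by omega) (by omega)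
    rw [Nat.choose_succ_succ, Nat.cast_add] at h1
    have h2 : (((p - 1).choose (k + 1) : ℕ) : ZMod p) = -((p - 1).choose k : ZMod p) := by
      linear_combination h1
    rw [h2, pow_succ]
    have := ih (by omega)
    linear_combination this

variable {E : Type*} [Ring E] [Algebra (ZMod p) E]

/-- `(x - y) ^ (p - 1)` as a geometric sum in characteristic `p`. -/
theorem sub_pow_pred {x y : E} (hc : Commute x y) : (x - y) ^ (p - 1) = ∑ i ∈ Finset.range p, x ^ i * y ^ (p - 1 - i) := by
  have hp2 := hp.out.two_le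
  have h1 := (hc.neg_right).add_pow (p - 1)
  rw [sub_eq_add_neg, h1, show p - 1 + 1 = p by omega]
  apply Finset.sum_congr rfl
  intro m hm
  have hm' := Finset.mem_range.1 hm
  have h2 := choose_pred (p := p) (p - 1 - m) (by omega)
  rw [Nat.choose_symm (by omega)] at h2
  have h3 := congrArg (algebraMap (ZMod p) E) h2
  rw [map_mul, map_pow, map_neg, map_one, map_natCast] at h3
  rw [neg_pow y, mul_assoc, mul_assoc]
  congr 1
  have h4 : (-1 : E) ^ (p - 1 - m) * y ^ (p - 1 - m) * ((p - 1).choose m : E) =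
      y ^ (p - 1 - m) * ((-1 : E) ^ (p - 1 - m) * ((p - 1).choose m : E)) := by
    rw [← mul_assoc]
    congr 1
    exact ((Commute.neg_one_left y).pow_pow _ _).eq
  rw [← mul_assoc, h4, h3, mul_one]

end Engel

/-- The words. -/
def Wd {A : Type*} [Ring A] (a d : A) : ℕ → ℕ → A
  | 0, 0 => 1
  | 0, _ + 1 => 0
  | n + 1, 0 => a * Wd a d n 0
  | n + 1, r + 1 => a * Wd a d n (r + 1) + d * Wd a d n r

section Words

variable {A : Type*} [Ring A] (a d : A)

theorem Wd_zero (n : ℕ) : Wd a d n 0 = a ^ n := by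
  induction n with
  | zero => simp [Wd]
  | succ n ih =>
    show a * Wd a d n 0 = _
    rw [ih, pow_succ']

theorem Wd_of_lt (n : ℕ) : ∀ r, n < r → Wd a d n r = 0 := by
  induction n with
  | zero =>
    intro r hr
    obtain ⟨r, rfl⟩ : ∃ r', r = r' + 1 := ⟨r - 1, by omega⟩
    rfl
  | succ n ih =>
    intro r hr
    obtain ⟨r, rfl⟩ : ∃ r', r = r' + 1 := ⟨r - 1, by omega⟩
    show a * Wd a d n (r + 1) + d * Wd a d n r = 0
    rw [ih _ (by omega), ih _ (by omega)]
    simp

theorem Wd_self (n : ℕ) : Wd a d n n = d ^ n := by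
  induction n with
  | zero => simp [Wd]
  | succ n ih =>
    show a * Wd a d n (n + 1) + d * Wd a d n n = _
    rw [Wd_of_lt a d n (n + 1) (by omega), ih, pow_succ']
    simp

theorem Wd_one (n : ℕ) : Wd a d n 1 = ∑ i ∈ Finset.range n, a ^ i * (d * a ^ (n - 1 - i)) := by
  induction n with
  | zero => rfl
  | succ n ih =>
    show a * Wd a d n 1 + d * Wd a d n 0 = _
    rw [ih, Wd_zero, Finset.sum_range_succ', Finset.mul_sum]
    simp only [pow_zero, one_mul, Nat.add_sub_cancel, Nat.sub_zero]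
    congr 1
    apply Finset.sum_congr rfl
    intro i hi
    have hi' := Finset.mem_range.1 hi
    rw [← mul_assoc, ← pow_succ']
    congr 3
    omega

variable {K : Type*} [Field K] [Algebra K A]

theorem expand_pow (μ : K) (n : ℕ) : ∀ N, n < N → (a + μ • d) ^ n = ∑ r ∈ Finset.range N, μ ^ r • Wd a d n r := by
  induction n with
  | zero =>
    intro N hN
    rw [Finset.sum_eq_single 0]
    · simp [Wd]
    · intro r _ hr
      rw [Wd_of_lt a d 0 r (by omega), smul_zero]
    · intro h0
      exact absurd (Finset.mem_range.2 hN) h0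
  | succ n ih =>
    intro N hN
    obtain ⟨N, rfl⟩ : ∃ N', N = N' + 1 := ⟨N - 1, by omega⟩
    rw [pow_succ', add_mul, Finset.sum_range_succ']
    nth_rewrite 1 [ih (N + 1) (by omega)]
    rw [ih N (by omega), Finset.mul_sum, Finset.sum_range_succ', smul_mul_assoc, Finset.mul_sum, Finset.smul_sum]
    have e1 : ∀ r, μ ^ (r + 1) • Wd a d (n + 1) (r + 1) =
        a * (μ ^ (r + 1) • Wd a d n (r + 1)) + μ • (d * (μ ^ r • Wd a d n r)) := by
      intro r
      show μ ^ (r + 1) • (a * Wd a d n (r + 1) + d * Wd a d n r) = _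
      rw [smul_add, mul_smul_comm, mul_smul_comm, smul_smul, pow_succ']
    simp only [e1, Finset.sum_add_distrib]
    have e0 : μ ^ 0 • Wd a d (n + 1) 0 = a * (μ ^ 0 • Wd a d n 0) := by
      show μ ^ 0 • (a * Wd a d n 0) = _
      rw [mul_smul_comm]
    rw [e0]
    abel

end Words

section Group

variable {G : Type u} [Group G] [Finite G] {p : ℕ} [hp : Fact p.Prime]

local notation "Φ" => lcsF G

variable {J : ℕ → Submodule (ZMod p) (Ap p G)} (hJ : JFilt p (lcsF G) ⊤ J)

include hJ

theorem sub1 (z : G) : io p z - 1 ∈ J 1 := hJ.sub 1 z (mem_top z) (mem_top z)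

theorem pow_memJ {X : Ap p G} (hX : X ∈ J 1) (k : ℕ) : X ^ k ∈ J k := by
  induction k with
  | zero =>
    rw [pow_zero]
    exact hJ.one
  | succ k ih =>
    rw [pow_succ]
    exact hJ.mul _ _ _ _ ih hX

theorem tele {X Y : Ap p G} (hX : X ∈ J 1) (hY : Y ∈ J 1) (hXY : X - Y ∈ J 2) (k : ℕ) : X ^ (k + 1) - Y ^ (k + 1) ∈ J (k + 2) := by
  induction k with
  | zero => simpa using hXY
  | succ k ih =>
    have e : X ^ (k + 1 + 1) - Y ^ (k + 1 + 1) = X ^ (k + 1) * (X - Y) + (X ^ (k + 1) - Y ^ (k + 1)) * Y := by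
      rw [pow_succ X (k + 1), pow_succ Y (k + 1)]
      noncomm_ring
    rw [e]
    refine (J _).add_mem ?_ ?_
    · exact hJ.mul _ _ _ _ (pow_memJ hJ hX (k + 1)) hXY
    · have := hJ.mul _ _ _ _ ih hY
      rwa [show k + 2 + 1 = k + 1 + 2 by omega] at this

theorem powy_sub (y : G) (μ : ℕ) : io p (y ^ μ) - 1 - (μ : ZMod p) • (io p y - 1) ∈ J 2 := by
  induction μ with
  | zero =>
    simp only [pow_zero, map_one, sub_self, Nat.cast_zero, zero_smul]
    exact Submodule.zero_mem _
  | succ μ ih =>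
    have e : io p (y ^ (μ + 1)) - 1 - ((μ + 1 : ℕ) : ZMod p) • (io p y - 1) =
        (io p (y ^ μ) - 1 - (μ : ZMod p) • (io p y - 1)) + (io p (y ^ μ) - 1) * (io p y - 1) := by
      rw [pow_succ, map_mul, Nat.cast_add, Nat.cast_one, add_smul, one_smul]
      noncomm_ring
    rw [e]
    exact (J 2).add_mem ih (hJ.mul 1 1 _ _ (sub1 hJ _) (sub1 hJ _))

/-- The basic membership. -/
theorem add_smul_pow_mem (hexp : ∀ g : G, g ^ p = 1) (s y : G) (μ : ℕ) :
    (io p s - 1 + (μ : ZMod p) • (io p y - 1)) ^ p ∈ J (p + 1) := by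
  have hp2 := hp.out.two_le
  set X := io p (s * y ^ μ) - 1 with hX
  set Y := io p s - 1 + (μ : ZMod p) • (io p y - 1) with hY
  have hXJ : X ∈ J 1 := sub1 hJ _
  have hYJ : Y ∈ J 1 := (J 1).add_mem (sub1 hJ _) ((J 1).smul_mem _ (sub1 hJ _))
  have hXY : X - Y ∈ J 2 := by
    have e : X - Y = (io p s - 1) * (io p (y ^ μ) - 1) + (io p (y ^ μ) - 1 - (μ : ZMod p) • (io p y - 1)) := by
      rw [hX, hY, map_mul]
      noncomm_ring
    rw [e]
    exact (J 2).add_mem (hJ.mul 1 1 _ _ (sub1 hJ _) (sub1 hJ _)) (powy_sub hJ y μ)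
  have hX0 : X ^ p = 0 := sub_one_pow _ (hexp _)
  obtain ⟨q, hq⟩ : ∃ q, p = q + 1 := ⟨p - 1, by omega⟩
  have h1 := tele hJ hXJ hYJ hXY q
  rw [← hq, hX0, zero_sub, neg_mem_iff] at h1
  rwa [show p + 1 = q + 2 by omega]

/-- The coefficient extraction. -/
theorem W1_mem (hexp : ∀ g : G, g ^ p = 1) (s y : G) : Wd (io p s - 1) (io p y - 1) p 1 ∈ J (p + 1) := by
  classical
  have hp2 := hp.out.two_le
  set a := io p s - 1 with ha
  set d := io p y - 1 with hd
  have ha0 : Wd a d p 0 = 0 := by
    rw [Wd_zero]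
    exact sub_one_pow _ (hexp s)
  have hd0 : Wd a d p p = 0 := by
    rw [Wd_self]
    exact sub_one_pow _ (hexp y)
  have hmem : ∑ μ : ZMod p, μ ^ (p - 2) • (a + μ • d) ^ p ∈ J (p + 1) := by
    apply Submodule.sum_mem
    intro μ _
    apply Submodule.smul_mem
    have := add_smul_pow_mem hJ hexp s y μ.val
    rwa [ZMod.natCast_zmod_val] at this
  have e : ∑ μ : ZMod p, μ ^ (p - 2) • (a + μ • d) ^ p = -Wd a d p 1 := by
    have h1 : ∀ μ : ZMod p, μ ^ (p - 2) • (a + μ • d) ^ p =
        ∑ r ∈ Finset.range (p + 1), (μ ^ (p - 2 + r)) • Wd a d p r := by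
      intro μ
      rw [expand_pow a d μ p (p + 1) (by omega), Finset.smul_sum]
      apply Finset.sum_congr rfl
      intro r _
      rw [smul_smul, pow_add]
    simp only [h1]
    rw [Finset.sum_comm]
    simp only [← Finset.sum_smul]
    rw [Finset.sum_eq_single 1]
    · rw [sum_pow_zmod _ (by omega), if_pos (by
        rw [show p - 2 + 1 = p - 1 by omega])]
      simp
    · intro r hr hr1
      have hr' := Finset.mem_range.1 hr
      rcases Nat.eq_zero_or_pos r with rfl | hr0
      · rw [ha0, smul_zero]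
      · rcases Nat.lt_or_ge r p with hrp | hrp
        · rw [sum_pow_zmod _ (by omega), if_neg, zero_smul]
          intro hdvd
          have h3 : p - 2 + r = (p - 1) + (r - 1) := by omega
          rw [h3, Nat.dvd_add_right (dvd_refl _)] at hdvd
          have := Nat.le_of_dvd (by omega) hdvd
          omega
        · have : r = p := by omega
          subst this
          rw [hd0, smul_zero]
    · intro h0
      exact absurd (Finset.mem_range.2 (by omega)) h0
  rw [e] at hmem
  exact neg_mem_iff.1 hmem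

/-- The iterated differences. -/
def zs (s y : G) : ℕ → G
  | 0 => y
  | k + 1 => D s (zs s y k)

omit hJ in
theorem zs_mem (s y : G) (k : ℕ) : zs s y k ∈ Φ (k + 1) := by
  induction k with
  | zero => exact mem_top y
  | succ k ih => exact Phi_D s _ _ ih

/-- The commutator operator on group elements. -/
theorem ad_io (s z : G) {w : ℕ} (hz : z ∈ Φ w) :
    (io p s - 1) * (io p z - 1) - (io p z - 1) * (io p s - 1) - (io p (D s z) - 1) ∈ J (w + 2) := by
  have hD : io p (D s z) - 1 ∈ J (w + 1) := hJ.sub _ _ (mem_top _) (Phi_D s w z hz)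
  set E := io p (D s z) - 1 with hE
  have e0 : io p s * io p z = io p z * (E + 1) * io p s := by
    rw [hE, sub_add_cancel, ← map_mul, ← map_mul, ← map_mul]
    congr 1
    simp only [D]
    group
  have e : (io p s - 1) * (io p z - 1) - (io p z - 1) * (io p s - 1) - E =
      (io p z - 1) * E + E * (io p s - 1) + (io p z - 1) * E * (io p s - 1) := by
    have e1 : (io p s - 1) * (io p z - 1) - (io p z - 1) * (io p s - 1) = io p s * io p z - io p z * io p s := by
      noncomm_ring
    rw [e1, e0]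
    noncomm_ring
  rw [e]
  have h1 : (io p z - 1) * E ∈ J (w + 2) := by
    have := hJ.mul _ _ _ _ (sub1 hJ z) hD
    rwa [show 1 + (w + 1) = w + 2 by omega] at this
  have h2 : E * (io p s - 1) ∈ J (w + 2) := by
    have := hJ.mul _ _ _ _ hD (sub1 hJ s)
    exact this
  have h3 : (io p z - 1) * E * (io p s - 1) ∈ J (w + 2) :=
    hJ.anti_le (Nat.le_succ _) (hJ.mul _ _ _ _ h1 (sub1 hJ s))
  exact (J _).add_mem ((J _).add_mem h1 h2) h3

/-- The left/right operator. -/
noncomputable def adm (a : Ap p G) : Module.End (ZMod p) (Ap p G) :=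
  LinearMap.mulLeft (ZMod p) a - LinearMap.mulRight (ZMod p) a

omit hJ in
theorem adm_apply (a x : Ap p G) : adm a x = a * x - x * a := rfl

theorem adm_mem {b : ℕ} {x : Ap p G} (s : G) (hx : x ∈ J b) : adm (io p s - 1) x ∈ J (b + 1) := by
  rw [adm_apply]
  refine (J _).sub_mem ?_ ?_
  · have := hJ.mul _ _ _ _ (sub1 hJ s) hx
    rwa [add_comm] at this
  · exact hJ.mul _ _ _ _ hx (sub1 hJ s)

theorem adm_pow_sub (s y : G) (k : ℕ) :
    (adm (io p s - 1) ^ k) (io p y - 1) - (io p (zs s y k) - 1) ∈ J (k + 2) := by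
  induction k with
  | zero =>
    simp only [pow_zero, Module.End.one_apply, zs, sub_self]
    exact Submodule.zero_mem _
  | succ k ih =>
    set x := (adm (io p s - 1) ^ k) (io p y - 1) with hx
    have e : (adm (io p s - 1) ^ (k + 1)) (io p y - 1) - (io p (zs s y (k + 1)) - 1) =
        adm (io p s - 1) (x - (io p (zs s y k) - 1)) +
        ((io p s - 1) * (io p (zs s y k) - 1) - (io p (zs s y k) - 1) * (io p s - 1) - (io p (D s (zs s y k)) - 1)) := by
      have h1 : (adm (io p s - 1) ^ (k + 1)) (io p y - 1) = adm (io p s - 1) x := by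
        rw [pow_succ', Module.End.mul_apply]
      have h2 : adm (io p s - 1) (x - (io p (zs s y k) - 1)) =
          adm (io p s - 1) x - adm (io p s - 1) (io p (zs s y k) - 1) := map_sub _ _ _
      rw [h1, h2, adm_apply (io p s - 1) (io p (zs s y k) - 1)]
      show adm (io p s - 1) x - (io p (D s (zs s y k)) - 1) = _
      abel
    rw [e]
    refine (J _).add_mem ?_ ?_
    · have := adm_mem hJ s ih
      rwa [show k + 2 + 1 = k + 1 + 2 by omega] at this
    · have := ad_io hJ s (zs s y k) (zs_mem s y k)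
      exact this

omit hJ in
theorem W1_eq (a d : Ap p G) : Wd a d p 1 = (adm a ^ (p - 1)) d := by
  have hc : Commute (LinearMap.mulLeft (ZMod p) a) (LinearMap.mulRight (ZMod p) a) :=
    LinearMap.commute_mulLeft_right a a
  rw [Wd_one]
  unfold adm
  rw [sub_pow_pred hc, LinearMap.sum_apply]
  apply Finset.sum_congr rfl
  intro i _
  rw [Module.End.mul_apply, LinearMap.pow_mulLeft, LinearMap.pow_mulRight]
  rfl

end Group

section Final

variable {G : Type u} [Group G] [Finite G] {p : ℕ} [hp : Fact p.Prime] {n : ℕ}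

local notation "Φ" => lcsF G

/-- The first commutator of two generators has weight exactly two. -/
theorem MC.D_first (h : MC p n G) {s y : G} (u : Unif p s) (hs : s ∉ Φ 2) (hy : y ∉ zpowers s ⊔ Φ 2) : D s y ∉ Φ 3 := by
  have hpp := hp.out
  have h3 := h.three
  intro hD
  rw [D_mem_iff, ← mem_AN] at hD
  have hle : zpowers s ⊔ Φ 2 ≤ AN (Φ 3) s := by
    refine sup_le ?_ ?_
    · rw [zpowers_le, mem_AN]
      have : ⁅s, s⁆ = 1 := by simp
      rw [this]
      exact one_mem _
    · intro g hg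
      rw [mem_AN]
      exact comm_mem_succ hg s
  have hlt : zpowers s ⊔ Φ 2 < AN (Φ 3) s := by
    refine lt_of_le_of_ne hle ?_
    intro e
    exact hy (e ▸ hD)
  have c1 := mul_card_le_of_lt h.hG hlt
  have c2 := card_AN_le (Φ 3) s
  rw [u.card] at c2
  rw [h.card_sM hs] at c1
  have c3 := mul_card_le_of_lt h.hG (h.lt (j := 2) le_rfl (by omega))
  have c4 : p ^ 2 * Nat.card (Φ 2) ≤ p ^ 2 * Nat.card (Φ 3) := by
    calc _ = p * (p * Nat.card (Φ 2)) := by ring
      _ ≤ _ := c1
      _ ≤ _ := c2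
  have c5 := Nat.le_of_mul_le_mul_left c4 (pow_pos hpp.pos 2)
  have hpos : 0 < Nat.card (Φ 3) := Nat.card_pos
  have c6 : p * Nat.card (Φ 3) ≤ Nat.card (Φ 3) := c3.trans c5
  nlinarith [hpp.two_le]

/-- Weights of the iterated differences. -/
theorem MC.zs_W (h : MC p n G) {s y : G} (u : Unif p s) (hs : s ∉ Φ 2) (hy : y ∉ zpowers s ⊔ Φ 2) (k : ℕ) (hk : 1 ≤ k)
    (hkn : k + 1 < n) : W (k + 1) (zs s y k) := by
  induction k, hk using Nat.le_induction with
  | base =>
    refine ⟨zs_mem s y 1, ?_⟩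
    exact h.D_first u hs hy
  | succ k hk ih =>
    have h1 := ih (by omega)
    refine ⟨zs_mem s y (k + 1), ?_⟩
    have hne : Subgroup.lowerCentralSeries (⊤ : Subgroup G) (k + 1) ≠ ⊥ := h.ne_bot (j := k + 2) (by omega)
    exact u.D_not_mem (k := k) hk hne h1.1 h1.2

/-- **No group of maximal class of order `p^(p+1)` has exponent `p`.** -/
theorem MC.no_exp (h : MC p (p + 1) G) (hexp : ∀ g : G, g ^ p = 1) : False := by
  have hp2 := hp.out.two_le
  obtain ⟨s, u⟩ := MC.exists_unif (p := p) (p + 1) (by omega) G h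
  have hs : s ∉ Φ 2 := u.not_mem
  obtain ⟨y, hy⟩ : ∃ y : G, y ∉ zpowers s ⊔ Φ 2 := by
    by_contra hcon
    push Not at hcon
    exact h.sM_ne_top hs (eq_top_iff.2 fun x _ => hcon x)
  have hW := h.zs_W u hs hy (p - 1) (by omega) (by omega)
  set c := zs s y (p - 1) with hc
  have hc1 : c ≠ 1 := by
    rintro hc1
    rw [hc1] at hW
    exact hW.2 (one_mem _)
  have hcm : c ∈ Φ (p + 1 - 1) := by
    have := hW.1
    rwa [show p - 1 + 1 = p + 1 - 1 by omega] at this
  obtain ⟨J, hJ, hcJ⟩ := h.exists_J hexp hcm hc1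
  apply hcJ
  have h1 := W1_mem hJ hexp s y
  rw [W1_eq] at h1
  have h2 := adm_pow_sub hJ s y (p - 1)
  rw [show p - 1 + 2 = p + 1 by omega] at h2
  have h3 := (J (p + 1)).sub_mem h1 h2
  simpa using h3

/-- **In a group of maximal class of order at least `p^(p+1)`, some `p`-th power is outside `Φ (p + 1)`.** -/
theorem MC.exists_pow_not_mem (h : MC p n G) (hn : p + 1 ≤ n) : ∃ g : G, g ^ p ∉ Φ (p + 1) := by
  have hp2 := hp.out.two_le
  by_contra hcon
  push Not at hcon
  apply (h.quot (k := p + 1) (by omega) hn).no_exp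
  intro q
  obtain ⟨g, rfl⟩ := QuotientGroup.mk_surjective q
  rw [← QuotientGroup.mk_pow, QuotientGroup.eq_one_iff]
  exact hcon g

end Final

end Cfsg.Agent.Lib.FGStruct.MCBlack
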