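import Cfsg.Agent.Lib.PGroups.UniformShift
import Cfsg.Agent.Lib.PGroups.Basic
import Cfsg.Agent.Lib.PGroups.MaxAbelian

/-!
# `p`-groups with an element with central `p`-th power whose centralizer has order `p²`

Such a group has maximal class, the element is "uniform", and `p`-th powers raise the weight of elements of
`G'` by exactly `p - 1`.
-/

set_option autoImplicit false

namespace Cfsg.Agent.Lib.FGStruct.UnifZ

open Subgroup Cfsg.Agent.Lib.FG7.HallPetrescu Cfsg.Agent.Lib.PGroups.UniformShift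
open Cfsg.Agent.Lib.PGroups.MaxAbelian
open scoped commutatorElement

universe u

variable {G : Type u} [Group G] [Finite G] {p : ℕ} [hp : Fact p.Prime]

/-- A proper subgroup of a `p`-group has index at least `p`. -/
theorem mul_card_le_of_lt (hG : IsPGroup p G) {A B : Subgroup G} (h : A < B) : p * Nat.card A ≤ Nat.card B := by
  have hle := h.le
  have h1 := relIndex_mul_card hle
  have h2 : A.relIndex B ≠ 1 := by
    intro h3
    rw [relIndex_eq_one] at h3
    exact h.not_ge h3
  obtain ⟨b, hb⟩ := IsPGroup.iff_card.mp (hG.to_subgroup B)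
  have h4 : A.relIndex B ∣ p ^ b := hb ▸ ⟨_, h1.symm⟩
  obtain ⟨a, -, ha⟩ := (Nat.dvd_prime_pow hp.out).mp h4
  have ha0 : a ≠ 0 := by
    rintro rfl
    exact h2 (by simpa using ha)
  have h5 : p ≤ A.relIndex B := by
    rw [ha]
    calc p = p ^ 1 := (pow_one p).symm
      _ ≤ p ^ a := Nat.pow_le_pow_right hp.out.pos (Nat.one_le_iff_ne_zero.mpr ha0)
  rw [← h1]
  exact Nat.mul_le_mul_right _ h5

/-- Elements whose commutator with `s` lies in `N`. -/
def AN (N : Subgroup G) [N.Normal] (s : G) : Subgroup G :=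
  (centralizer {QuotientGroup.mk' N s}).comap (QuotientGroup.mk' N)

theorem mem_AN (N : Subgroup G) [N.Normal] (s g : G) : g ∈ AN N s ↔ ⁅g, s⁆ ∈ N := by
  show QuotientGroup.mk' N g ∈ centralizer {QuotientGroup.mk' N s} ↔ _
  rw [mem_centralizer_singleton_iff]
  have key : ⁅g, s⁆ ∈ N ↔ QuotientGroup.mk' N ⁅g, s⁆ = 1 := by
    rw [QuotientGroup.mk'_apply, QuotientGroup.eq_one_iff]
  rw [key, commutatorElement_def]
  simp only [map_mul, map_inv]
  constructor
  · intro h
    rw [h]
    simp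
  · intro h
    have h2 : QuotientGroup.mk' N g * QuotientGroup.mk' N s = 1 * (QuotientGroup.mk' N s * QuotientGroup.mk' N g) := by
      rw [← h]
      group
    simpa using h2

theorem comm_eq_iff (s a b : G) : ⁅a, s⁆ = ⁅b, s⁆ ↔ a⁻¹ * b ∈ centralizer ({s} : Set G) := by
  rw [mem_centralizer_singleton_iff, commutatorElement_def, commutatorElement_def]
  constructor
  · intro h
    have h1 : a * s * a⁻¹ = b * s * b⁻¹ := mul_right_cancel h
    have h2 : s = a⁻¹ * (b * s * b⁻¹) * a := by
      rw [← h1]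
      group
    calc a⁻¹ * b * s = a⁻¹ * (b * s * b⁻¹) * a * (a⁻¹ * b) := by group
      _ = s * (a⁻¹ * b) := by rw [← h2]
  · intro h
    have h1 : a * s * a⁻¹ = b * s * b⁻¹ := by
      have h2 : b * s = a * (s * (a⁻¹ * b)) := by
        rw [← h]
        group
      rw [h2]
      group
    rw [h1]

/-- The orbit map is injective on cosets of the centralizer. -/
theorem card_AN_le (N : Subgroup G) [N.Normal] (s : G) :
    Nat.card (AN N s) ≤ Nat.card (centralizer ({s} : Set G)) * Nat.card N := by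
  classical
  set C := centralizer ({s} : Set G) with hC
  have hCA : C ≤ AN N s := by
    intro g hg
    rw [mem_AN]
    have h1 : ⁅g, s⁆ = 1 := by
      rw [commutatorElement_eq_one_iff_mul_comm]
      exact mem_centralizer_singleton_iff.1 hg
    rw [h1]
    exact N.one_mem
  let C' : Subgroup (AN N s) := C.subgroupOf (AN N s)
  have hcard : Nat.card C' = Nat.card C := Nat.card_congr (subgroupOfEquivOfLe hCA).toEquiv
  let f : (AN N s) ⧸ C' → N := fun q => ⟨⁅(q.out : G), s⁆, (mem_AN N s _).1 q.out.2⟩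
  have hf : Function.Injective f := by
    intro q r h
    have h1 : ⁅(q.out : G), s⁆ = ⁅(r.out : G), s⁆ := congrArg Subtype.val h
    rw [comm_eq_iff] at h1
    have h2 : (QuotientGroup.mk q.out : (AN N s) ⧸ C') = QuotientGroup.mk r.out := by
      rw [QuotientGroup.eq]
      exact h1
    rwa [QuotientGroup.out_eq', QuotientGroup.out_eq'] at h2
  have h3 := Nat.card_le_card_of_injective f hf
  have h4 := C'.card_mul_index
  rw [Subgroup.index_eq_card, hcard] at h4
  rw [← h4]
  exact Nat.mul_le_mul_left _ h3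

/-- The lower central series. -/
local notation "γ" => Subgroup.lowerCentralSeries (⊤ : Subgroup G)

theorem lcs_succ_le (i : ℕ) : γ (i + 1) ≤ γ i := by
  rw [Subgroup.lowerCentralSeries_succ]
  exact Subgroup.commutator_le_left _ _

theorem lcs_anti : Antitone γ := antitone_nat_of_succ_le lcs_succ_le

theorem lcs_lt (hG : IsPGroup p G) (i : ℕ) (h : γ i ≠ ⊥) : γ (i + 1) < γ i := by
  refine lt_of_le_of_ne (lcs_succ_le i) ?_
  intro heq
  have hnil : Group.IsNilpotent G := hG.isNilpotent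
  obtain ⟨c, hc⟩ := Subgroup.nilpotent_iff_lowerCentralSeries.mp hnil
  have hconst : ∀ k, γ (i + k) = γ i := by
    intro k
    induction k with
    | zero => rfl
    | succ k ih =>
      rw [← add_assoc, Subgroup.lowerCentralSeries_succ, ih, ← Subgroup.lowerCentralSeries_succ, heq]
  apply h
  rw [← hconst c]
  exact le_bot_iff.mp (hc ▸ lcs_anti (Nat.le_add_left c i))

theorem mem_lcs_succ {g s : G} {k : ℕ} (hg : g ∈ γ k) : ⁅g, s⁆ ∈ γ (k + 1) := by
  rw [Subgroup.lowerCentralSeries_succ]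
  exact commutator_mem_commutator hg (mem_top s)

instance lcs_normal (k : ℕ) : (γ k).Normal := by
  infer_instance

/-- The basic data. -/
structure Unif (p : ℕ) (s : G) : Prop where
  hG : IsPGroup p G
  pow : ∀ g : G, g * s ^ p = s ^ p * g
  card : Nat.card (centralizer ({s} : Set G)) = p ^ 2
  big : p ^ 2 < Nat.card G

variable {s : G}

theorem Unif.s_ne_one (h : Unif p s) : s ≠ 1 := by
  rintro rfl
  have h1 : centralizer ({1} : Set G) = ⊤ := by
    rw [eq_top_iff]
    intro g _
    rw [mem_centralizer_singleton_iff]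
    simp
  have h2 := h.card
  rw [h1, Subgroup.card_top] at h2
  exact absurd h.big (by omega)

theorem Unif.cen_ne_top (h : Unif p s) : centralizer ({s} : Set G) ≠ ⊤ := by
  intro h1
  have h2 := h.card
  rw [h1, Subgroup.card_top] at h2
  exact absurd h.big (by omega)

theorem Unif.not_comm (h : Unif p s) : ¬ ∀ a b : G, a * b = b * a := by
  intro hc
  apply h.cen_ne_top
  rw [eq_top_iff]
  intro g _
  rw [mem_centralizer_singleton_iff]
  exact hc g s

/-- The index of the derived subgroup is at least `p²`. -/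
theorem Unif.le_index (h : Unif p s) : p ^ 2 * Nat.card (commutator G) ≤ Nat.card G := by
  have hG := h.hG
  have hpp := hp.out
  have hne1 : (commutator G).index ≠ 1 := by
    intro h1
    rw [index_eq_one] at h1
    have hnt : (⊤ : Subgroup G) ≠ ⊥ := by
      intro h2
      have h3 : Nat.card (⊤ : Subgroup G) = 1 := by rw [h2]; simp
      rw [Subgroup.card_top] at h3
      have := h.big
      have h4 : 1 ≤ p ^ 2 := Nat.one_le_pow _ _ hpp.pos
      omega
    have h2 := lcs_lt (G := G) hG 0 hnt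
    have h3 : γ 1 = commutator G := by
      rw [Subgroup.lowerCentralSeries_succ]
      rfl
    rw [h3, h1] at h2
    exact lt_irrefl _ h2
  obtain ⟨b, hb⟩ := IsPGroup.iff_card.mp hG
  have hd : (commutator G).index ∣ p ^ b := hb ▸ Subgroup.index_dvd_card _
  obtain ⟨a, -, ha⟩ := (Nat.dvd_prime_pow hpp).mp hd
  have h1 := (commutator G).card_mul_index
  have ha0 : a ≠ 0 := by
    rintro rfl
    exact hne1 (by simpa using ha)
  have ha1 : a ≠ 1 := by
    rintro rfl
    rw [pow_one] at ha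
    -- a cyclic quotient
    have hex : ∃ x : G, x ∉ commutator G := by
      by_contra hcon
      push Not at hcon
      apply hne1
      rw [index_eq_one, eq_top_iff]
      intro g _
      exact hcon g
    obtain ⟨x, hx⟩ := hex
    have hZ : zpowers x ⊔ commutator G = ⊤ := by
      have : (commutator G).Normal := inferInstance
      by_contra hne
      have hlt : commutator G < zpowers x ⊔ commutator G := by
        refine lt_of_le_of_ne le_sup_right ?_
        intro h2
        exact hx (h2 ▸ (le_sup_left : zpowers x ≤ _) (mem_zpowers x))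
      have hlt2 : zpowers x ⊔ commutator G < ⊤ := lt_top_iff_ne_top.2 hne
      have h3 := mul_card_le_of_lt hG hlt
      have h4 := mul_card_le_of_lt hG hlt2
      rw [Subgroup.card_top, ← h1, ha] at h4
      have hpos : 0 < Nat.card (commutator G) := Nat.card_pos
      nlinarith [hpp.two_le]
    have hZ2 : zpowers x = ⊤ := by
      apply frattini_nongenerating (G := G)
      rw [eq_top_iff, ← hZ]
      exact sup_le_sup_left (Cfsg.Agent.Lib.PGroups.Basic.commutator_le_frattini hG) _
    apply h.not_comm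
    intro c d
    have hc : c ∈ zpowers x := hZ2 ▸ mem_top c
    have hd : d ∈ zpowers x := hZ2 ▸ mem_top d
    obtain ⟨i, rfl⟩ := hc
    obtain ⟨j, rfl⟩ := hd
    simp only [← zpow_add, add_comm]
  have ha2 : 2 ≤ a := by omega
  rw [← h1, ha, mul_comm]
  exact Nat.mul_le_mul_left _ (Nat.pow_le_pow_right hpp.pos ha2)

/-- The index of the derived subgroup is exactly `p²`. -/
theorem Unif.card_eq (h : Unif p s) : Nat.card G = p ^ 2 * Nat.card (commutator G) := by
  refine le_antisymm ?_ h.le_index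
  have h1 := card_AN_le (commutator G) s
  rw [h.card] at h1
  have h2 : AN (commutator G) s = ⊤ := by
    rw [eq_top_iff]
    intro g _
    rw [mem_AN]
    exact commutator_mem_commutator (mem_top g) (mem_top s)
  rw [h2, Subgroup.card_top] at h1
  exact h1

/-- Every element of `G'` is a commutator with `s`. -/
theorem Unif.exists_comm (h : Unif p s) (x : G) (hx : x ∈ commutator G) : ∃ g : G, ⁅g, s⁆ = x := by
  classical
  set C := centralizer ({s} : Set G) with hC
  let f : G ⧸ C → commutator G := fun q => ⟨⁅q.out, s⁆, commutator_mem_commutator (mem_top _) (mem_top _)⟩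
  have hf : Function.Injective f := by
    intro q r e
    have h1 : ⁅q.out, s⁆ = ⁅r.out, s⁆ := congrArg Subtype.val e
    rw [comm_eq_iff] at h1
    have h2 : (QuotientGroup.mk q.out : G ⧸ C) = QuotientGroup.mk r.out := by
      rw [QuotientGroup.eq]
      exact h1
    rwa [QuotientGroup.out_eq', QuotientGroup.out_eq'] at h2
  have h1 := C.card_mul_index
  rw [h.card, h.card_eq, Subgroup.index_eq_card] at h1
  have hpos : 0 < p ^ 2 := pow_pos hp.out.pos 2
  have h2 : Nat.card (G ⧸ C) = Nat.card (commutator G) := Nat.eq_of_mul_eq_mul_left hpos h1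
  have hb : Function.Bijective f := (Nat.bijective_iff_injective_and_card f).2 ⟨hf, h2⟩
  obtain ⟨q, hq⟩ := hb.2 ⟨x, hx⟩
  exact ⟨q.out, congrArg Subtype.val hq⟩

theorem Unif.mul_pow (h : Unif p s) (x : G) (hx : x ∈ commutator G) : (x * s) ^ p = s ^ p := by
  obtain ⟨g, rfl⟩ := h.exists_comm x hx
  have e : ⁅g, s⁆ * s = g * s * g⁻¹ := by
    rw [commutatorElement_def]
    group
  rw [e, conj_pow, h.pow g]
  simp

theorem Unif.not_mem (h : Unif p s) : s ∉ commutator G := by
  intro hs
  obtain ⟨g, hg⟩ := h.exists_comm s⁻¹ ((commutator G).inv_mem hs)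
  rw [commutatorElement_def] at hg
  have h1 : g * s * g⁻¹ = 1 := by
    have h0 : g * s * g⁻¹ * s⁻¹ = 1 * s⁻¹ := by rw [hg, one_mul]
    exact mul_right_cancel h0
  apply h.s_ne_one
  have h2 : s = g⁻¹ * (g * s * g⁻¹) * g := by group
  rw [h2, h1]
  simp

theorem lcs_one : γ 1 = commutator G := by
  rw [Subgroup.lowerCentralSeries_succ]
  rfl

theorem Unif.not_mem_lcs (h : Unif p s) {k : ℕ} (hk : 1 ≤ k) : s ∉ γ k := by
  intro hs
  apply h.not_mem
  rw [← lcs_one]
  exact lcs_anti hk hs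

/-- Steps of the lower central series have order at most `p`. -/
theorem Unif.card_step (h : Unif p s) {k : ℕ} (hk : 1 ≤ k) : Nat.card (γ k) ≤ p * Nat.card (γ (k + 1)) := by
  have hpp := hp.out
  have h1 := card_AN_le (γ (k + 1)) s
  rw [h.card] at h1
  have hle : zpowers s ⊔ γ k ≤ AN (γ (k + 1)) s := by
    refine sup_le ?_ ?_
    · rw [zpowers_le, mem_AN]
      have : ⁅s, s⁆ = 1 := by simp
      rw [this]
      exact one_mem _
    · intro g hg
      rw [mem_AN]
      exact mem_lcs_succ hg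
  have hlt : γ k < zpowers s ⊔ γ k := by
    refine lt_of_le_of_ne le_sup_right ?_
    intro h2
    exact h.not_mem_lcs hk (h2 ▸ (le_sup_left : zpowers s ≤ _) (mem_zpowers s))
  have h2 := mul_card_le_of_lt h.hG hlt
  have h3 := Subgroup.card_le_of_le hle
  have h4 : p * Nat.card (γ k) ≤ p * (p * Nat.card (γ (k + 1))) := by
    calc _ ≤ _ := h2
      _ ≤ _ := h3
      _ ≤ _ := h1
      _ = _ := by ring
  exact Nat.le_of_mul_le_mul_left h4 hpp.pos

/-- The bound behind maximal class. -/
theorem Unif.card_le (h : Unif p s) (k : ℕ) : Nat.card G ≤ p ^ (k + 2) * Nat.card (γ (k + 1)) := by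
  induction k with
  | zero =>
    have := h.card_eq
    rw [lcs_one]
    exact this.le
  | succ k ih =>
    have h1 := h.card_step (k := k + 1) (by omega)
    calc Nat.card G ≤ p ^ (k + 2) * Nat.card (γ (k + 1)) := ih
      _ ≤ p ^ (k + 2) * (p * Nat.card (γ (k + 1 + 1))) := Nat.mul_le_mul_left _ h1
      _ = _ := by ring

/-- **Maximal class.** -/
theorem Unif.lcs_ne_bot (h : Unif p s) {n : ℕ} (hn : Nat.card G = p ^ n) (h3 : 3 ≤ n) : γ (n - 2) ≠ ⊥ := by
  intro hb
  obtain ⟨k, hk⟩ : ∃ k, n - 2 = k + 1 := ⟨n - 3, by omega⟩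
  have h1 := h.card_le k
  rw [← hk, hb, Subgroup.card_bot, mul_one, hn] at h1
  have h2 : n ≤ k + 2 := (Nat.pow_le_pow_iff_right hp.out.one_lt).1 h1
  omega

/-- Sections of the lower central series have order exactly `p`. -/
theorem Unif.relIndex_eq (h : Unif p s) {k : ℕ} (hk : 1 ≤ k) (hne : γ k ≠ ⊥) : (γ (k + 1)).relIndex (γ k) = p := by
  have hpp := hp.out
  have h1 := relIndex_mul_card (lcs_succ_le (G := G) k)
  have h2 := mul_card_le_of_lt h.hG (lcs_lt h.hG k hne)
  have h3 := h.card_step hk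
  have h4 : Nat.card (γ k) = p * Nat.card (γ (k + 1)) := le_antisymm h3 h2
  rw [h4] at h1
  exact Nat.eq_of_mul_eq_mul_right Nat.card_pos h1

/-- `s` acts non-trivially on every section. -/
theorem Unif.D_not_mem (h : Unif p s) {k : ℕ} (hk : 1 ≤ k) (hne : γ (k + 1) ≠ ⊥) {y : G} (hy : y ∈ γ k)
    (hy' : y ∉ γ (k + 1)) : D s y ∉ γ (k + 2) := by
  intro hD
  have hpp := hp.out
  have h1 := card_AN_le (γ (k + 2)) s
  rw [h.card] at h1
  have e : D s y = ⁅y⁻¹, s⁆ := by
    rw [commutatorElement_def]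
    simp [D, mul_assoc]
  have hyA : y⁻¹ ∈ AN (γ (k + 2)) s := by
    rw [mem_AN, ← e]
    exact hD
  have hyA' : y ∈ AN (γ (k + 2)) s := by
    simpa using (AN (γ (k + 2)) s).inv_mem hyA
  have hA1 : γ (k + 1) ≤ AN (γ (k + 2)) s := by
    intro g hg
    rw [mem_AN]
    exact mem_lcs_succ hg
  have hA2 : s ∈ AN (γ (k + 2)) s := by
    rw [mem_AN]
    have : ⁅s, s⁆ = 1 := by simp
    rw [this]
    exact one_mem _
  set B := zpowers y ⊔ γ (k + 1) with hB
  have hBA : zpowers s ⊔ B ≤ AN (γ (k + 2)) s :=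
    sup_le ((zpowers_le).2 hA2) (sup_le ((zpowers_le).2 hyA') hA1)
  have hlt1 : γ (k + 2) < γ (k + 1) := lcs_lt h.hG (k + 1) hne
  have hlt2 : γ (k + 1) < B := by
    refine lt_of_le_of_ne le_sup_right ?_
    intro h2
    exact hy' (h2 ▸ (le_sup_left : zpowers y ≤ _) (mem_zpowers y))
  have hBk : B ≤ γ k := sup_le ((zpowers_le).2 hy) (lcs_succ_le k)
  have hlt3 : B < zpowers s ⊔ B := by
    refine lt_of_le_of_ne le_sup_right ?_
    intro h2
    have h3 : s ∈ B := h2 ▸ (le_sup_left : zpowers s ≤ _) (mem_zpowers s)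
    exact h.not_mem_lcs hk (hBk h3)
  have c1 := mul_card_le_of_lt h.hG hlt1
  have c2 := mul_card_le_of_lt h.hG hlt2
  have c3 := mul_card_le_of_lt h.hG hlt3
  have c4 := Subgroup.card_le_of_le hBA
  have hpos : 0 < Nat.card (γ (k + 2)) := Nat.card_pos
  have c5 : p * (p * (p * Nat.card (γ (k + 2)))) ≤ p ^ 2 * Nat.card (γ (k + 2)) := by
    calc p * (p * (p * Nat.card (γ (k + 2)))) ≤ p * (p * Nat.card (γ (k + 1))) :=
          Nat.mul_le_mul_left _ (Nat.mul_le_mul_left _ c1)
      _ ≤ p * Nat.card B := Nat.mul_le_mul_left _ c2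
      _ ≤ Nat.card (zpowers s ⊔ B : Subgroup G) := c3
      _ ≤ _ := c4
      _ ≤ _ := h1
  have c6 : p ^ 2 * (p * Nat.card (γ (k + 2))) ≤ p ^ 2 * Nat.card (γ (k + 2)) := by
    calc _ = p * (p * (p * Nat.card (γ (k + 2)))) := by ring
      _ ≤ _ := c5
  have c7 := Nat.le_of_mul_le_mul_left c6 (pow_pos hpp.pos 2)
  nlinarith [hpp.two_le]

/-! ### The filtration -/

/-- The filtration, for short. -/
local notation "Φ" => lcsF G

theorem Phi_normal (i : ℕ) : (Φ i).Normal := by
  cases i with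
  | zero =>
    show (⊤ : Subgroup G).Normal
    infer_instance
  | succ i =>
    show (γ i).Normal
    infer_instance

theorem Phi_D (t : G) (j : ℕ) (y : G) (hy : y ∈ Φ j) : D t y ∈ Φ (j + 1) := by
  cases j with
  | zero => exact mem_top _
  | succ j =>
    have e : D t y = ⁅y⁻¹, t⁆ := by
      rw [commutatorElement_def]
      simp [D, mul_assoc]
    rw [e]
    exact mem_lcs_succ ((γ j).inv_mem hy)

theorem Phi_anti {i j : ℕ} (h : i ≤ j) : Φ j ≤ Φ i := by
  induction h with
  | refl => exact le_rfl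
  | step _ ih => exact (lcsF_anti _).trans ih

/-- `gSeq` at `p` vanishes. -/
theorem Unif.gSeq_eq (h : Unif p s) {x : G} (hx : x ∈ Φ 2) : gSeq s x p = 1 := by
  have hx' : x ∈ commutator G := by
    rw [← lcs_one]
    exact hx
  simp [gSeq, h.mul_pow x hx']

/-- **The shift**: `p`-th powers raise weights by `p - 1`. -/
theorem Unif.shift (h : Unif p s) {M : ℕ} (hM : Φ M = ⊥) (m : ℕ) : ∀ i, M ≤ i + m → 2 ≤ i → ∀ x ∈ Φ i,
    x ^ p ∈ Φ (i + p - 1) ∧ x ^ p * Di s (p - 1) x ∈ Φ (i + p) := by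
  have hpp := hp.out
  have hp2 := hpp.two_le
  induction m with
  | zero =>
    intro i hi _ x hx
    have hx1 : x = 1 := by
      have := Phi_anti hi hx
      rw [hM] at this
      exact this
    subst hx1
    have hDi : ∀ q : ℕ, Di s q (1 : G) = 1 := by
      intro q
      induction q with
      | zero => rfl
      | succ q ih =>
        show Di s q (D s 1) = 1
        have : D s (1 : G) = 1 := by simp [D]
        rw [this, ih]
    rw [hDi]
    simp only [one_pow, mul_one]
    exact ⟨one_mem _, one_mem _⟩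
  | succ m ih =>
    intro i hi hi2 x hx
    have hsh : ∀ i' > i, ∀ y ∈ Φ i', y ^ p ∈ Φ (i' + p - 1) :=
      fun i' hi' y hy => (ih i' (by omega) (by omega) y hy).1
    have hk := key_congr (F := Φ) lcsF_anti lcsF_comm Phi_normal hpp (s := s) (fun j y hy => Phi_D s j y hy) hi2 hsh hx
    rw [h.gSeq_eq (Phi_anti hi2 hx), mul_one] at hk
    have hk' : x ^ p * Di s (p - 1) x ∈ Φ (i + p) := by
      simpa using (Φ (i + p)).inv_mem hk
    have hDi : Di s (p - 1) x ∈ Φ (i + (p - 1)) := Di_mem (fun j y hy => Phi_D s j y hy) (p - 1) i x hx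
    have e : i + (p - 1) = i + p - 1 := by omega
    rw [e] at hDi
    refine ⟨?_, hk'⟩
    have h1 : x ^ p * Di s (p - 1) x ∈ Φ (i + p - 1) := Phi_anti (by omega) hk'
    have h2 := (Φ (i + p - 1)).mul_mem h1 ((Φ (i + p - 1)).inv_mem hDi)
    simpa using h2

/-- Iterates of `D` stay exactly on their level. -/
theorem Unif.Di_not_mem (h : Unif p s) (q : ℕ) : ∀ (j : ℕ) (y : G), 2 ≤ j → Φ (j + q) ≠ ⊥ → y ∈ Φ j → y ∉ Φ (j + 1) →
    Di s q y ∉ Φ (j + q + 1) := by
  induction q with
  | zero =>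
    intro j y _ _ _ hy'
    exact hy'
  | succ q ih =>
    intro j y hj hne hy hy'
    obtain ⟨k, rfl⟩ : ∃ k, j = k + 1 := ⟨j - 1, by omega⟩
    have hne1 : γ (k + 1) ≠ ⊥ := by
      intro hb
      apply hne
      have h1 : Φ (k + 1 + (q + 1)) ≤ Φ (k + 2) := Phi_anti (by omega)
      have h2 : Φ (k + 2) = ⊥ := hb
      rw [h2] at h1
      exact le_bot_iff.1 h1
    have h1 := h.D_not_mem (k := k) (by omega) hne1 hy hy'
    have h2 : D s y ∈ Φ (k + 1 + 1) := Phi_D s _ y hy
    have e1 : k + 1 + 1 + q = k + 1 + (q + 1) := by omega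
    have h3 := ih (k + 1 + 1) (D s y) (by omega) (by rw [e1]; exact hne) h2 h1
    show Di s q (D s y) ∉ _
    have e2 : k + 1 + (q + 1) + 1 = k + 1 + 1 + q + 1 := by omega
    rw [e2]
    exact h3

/-- **The exact shift.** -/
theorem Unif.pow_not_mem (h : Unif p s) {M : ℕ} (hM : Φ M = ⊥) {i : ℕ} (hi : 2 ≤ i) (hne : Φ (i + p - 1) ≠ ⊥) {x : G}
    (hx : x ∈ Φ i) (hx' : x ∉ Φ (i + 1)) : x ^ p ∉ Φ (i + p) := by
  have hp2 := hp.out.two_le
  intro hmem
  have h1 := (h.shift hM M i (by omega) hi x hx).2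
  have e0 : i + (p - 1) = i + p - 1 := by omega
  have h2 := h.Di_not_mem (p - 1) i x hi (by rw [e0]; exact hne) hx hx'
  apply h2
  have e : i + (p - 1) + 1 = i + p := by omega
  rw [e]
  have h3 := (Φ (i + p)).mul_mem ((Φ (i + p)).inv_mem hmem) h1
  simpa using h3



/-! ### Weights -/

/-- `x` has weight `j`. -/
def W (j : ℕ) (x : G) : Prop := x ∈ Φ j ∧ x ∉ Φ (j + 1)

theorem exists_M (hG : IsPGroup p G) : ∃ M : ℕ, Φ M = ⊥ := by
  have hnil : Group.IsNilpotent G := hG.isNilpotent
  obtain ⟨c, hc⟩ := Subgroup.nilpotent_iff_lowerCentralSeries.mp hnil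
  exact ⟨c + 1, hc⟩

theorem W.ne_bot {j : ℕ} {x : G} (hx : W j x) : Φ j ≠ ⊥ := by
  intro hb
  have h1 := hx.1
  rw [hb, Subgroup.mem_bot] at h1
  exact hx.2 (h1 ▸ one_mem _)

theorem relIndex_Phi (h : Unif p s) {j : ℕ} (hj : 2 ≤ j) (hne : Φ j ≠ ⊥) : (Φ (j + 1)).relIndex (Φ j) = p := by
  obtain ⟨k, rfl⟩ : ∃ k, j = k + 1 := ⟨j - 1, by omega⟩
  exact h.relIndex_eq (k := k) (by omega) hne

theorem W.pow (h : Unif p s) {M : ℕ} (hM : Φ M = ⊥) {j : ℕ} {x : G} (hx : W j x) (hj : 2 ≤ j)
    (hne : Φ (j + (p - 1)) ≠ ⊥) : W (j + (p - 1)) (x ^ p) := by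
  have hp2 := hp.out.two_le
  have e : j + (p - 1) = j + p - 1 := by omega
  rw [e] at hne ⊢
  refine ⟨(h.shift hM M j (by omega) hj x hx.1).1, ?_⟩
  have e2 : j + p - 1 + 1 = j + p := by omega
  rw [e2]
  exact h.pow_not_mem hM hj hne hx.1 hx.2

end Cfsg.Agent.Lib.FGStruct.UnifZ
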